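import Cfsg.Agent.Tits.Core
/-!
Rank two lemma for the proof of Tits' extension theorem (route E of S1143).

Let `y₀, …, y_m` and `y'₀, …, y'_m` be the two galleries of types `(i,j,i,…)` and `(j,i,j,…)`
between two chambers which are opposite in a residue of type `{i,j}`, `m = m_{ij} ∈ {2,3,4}`, in a thick
building. Then there are chambers `v`, `v'` of the residue, `v` opposite to all `y_a`, `v'` opposite to
all `y'_a`, joined by a gallery all of whose chambers are opposite to `y₀` and to `y_m`.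
-/

set_option autoImplicit false

namespace Cfsg.Agent.Tits.RankTwoPath

open Cfsg.Agent.Tits.Core

variable {I : Type*} {M : CoxeterMatrix I} {W : Type*} [Group W] {cs : CoxeterSystem M W} {C : Type*}

section basics

variable (Δ : Bldg cs C)

theorem delta_self (x : C) : Δ.δ x x = 1 := (Δ.eq_one x x).2 rfl

theorem delta_ne {x y : C} {i : I} (h : Δ.δ x y = cs.simple i) : x ≠ y := by
  rintro rfl
  rw [delta_self] at h
  have := cs.length_simple i
  rw [← h, cs.length_one] at this
  omega

theorem symm_simple {x y : C} {i : I} (h : Δ.δ x y = cs.simple i) : Δ.δ y x = cs.simple i := by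
  rw [Δ.symm x y, h, cs.inv_simple]

/-- two chambers in a common panel -/
theorem panel {x y z : C} {i : I} (hy : Δ.δ x y = cs.simple i) (hz : Δ.δ x z = cs.simple i)
    (hne : y ≠ z) : Δ.δ y z = cs.simple i := by
  have h := Δ.step y x z i hz
  rw [symm_simple Δ hy] at h
  rcases h with h | h
  · rw [cs.simple_mul_simple_self] at h
    exact absurd ((Δ.eq_one _ _).1 h) hne
  · exact h

theorem up {x y z : C} {i : I} {u : W} (hxy : Δ.δ x y = u) (hyz : Δ.δ y z = cs.simple i)
    (hl : cs.length (u * cs.simple i) = cs.length u + 1) : Δ.δ x z = u * cs.simple i := by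
  have := Δ.step_lt x y z i hyz (by rw [hxy]; omega)
  rw [this, hxy]

theorem up_left {x y z : C} {i : I} {u : W} (hxy : Δ.δ x y = cs.simple i) (hyz : Δ.δ y z = u)
    (hl : cs.length (cs.simple i * u) = cs.length u + 1) : Δ.δ x z = cs.simple i * u := by
  have h1 : Δ.δ z y = u⁻¹ := by rw [Δ.symm y z, hyz]
  have h2 : Δ.δ z x = u⁻¹ * cs.simple i := by
    refine up Δ h1 (symm_simple Δ hxy) ?_
    have : u⁻¹ * cs.simple i = (cs.simple i * u)⁻¹ := by rw [mul_inv_rev, cs.inv_simple]
    rw [this, cs.length_inv, cs.length_inv, hl]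
  rw [Δ.symm z x, h2, mul_inv_rev, inv_inv, cs.inv_simple]

/-- a third chamber of a panel -/
theorem third (hth : Δ.Thick) {x y : C} {i : I} (h : Δ.δ x y = cs.simple i) :
    ∃ z, Δ.δ x z = cs.simple i ∧ Δ.δ y z = cs.simple i := by
  obtain ⟨a, b, hab, ha, hb⟩ := hth x i
  by_cases hay : a = y
  · refine ⟨b, hb, ?_⟩
    exact panel Δ h hb (fun hyb => hab (by rw [hay, hyb]))
  · exact ⟨a, ha, panel Δ h ha (Ne.symm hay)⟩

end basics

/-- opposite (at distance `w`) -/
def Far (Δ : Bldg cs C) (w : W) (x y : C) : Prop := Δ.δ x y = w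

/-- The conclusion of the rank two lemma. -/
def Conn (Δ : Bldg cs C) (i j : I) (w : W) (x y : C) (v v' : C) : Prop :=
  Relation.ReflTransGen (fun a b => (Δ.δ a b = cs.simple i ∨ Δ.δ a b = cs.simple j) ∧
    (Δ.δ x a = w ∧ Δ.δ y a = w) ∧ (Δ.δ x b = w ∧ Δ.δ y b = w)) v v'

section two

variable {i j : I}

theorem two (Δ : Bldg cs C) (hth : Δ.Thick) (hb : cs.simple i * cs.simple j = cs.simple j * cs.simple i)
    (hl : cs.length (cs.simple i * cs.simple j) = 2) {y0 y1 y2 z1 : C}
    (h01 : Δ.δ y0 y1 = cs.simple i) (h12 : Δ.δ y1 y2 = cs.simple j)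
    (k01 : Δ.δ y0 z1 = cs.simple j) (k12 : Δ.δ z1 y2 = cs.simple i) :
    ∃ v, Δ.δ y0 v = cs.simple i * cs.simple j ∧ Δ.δ y1 v = cs.simple i * cs.simple j ∧
      Δ.δ y2 v = cs.simple i * cs.simple j ∧ Δ.δ z1 v = cs.simple i * cs.simple j := by
  set s := cs.simple i with hs
  set t := cs.simple j with ht
  have ls : cs.length s = 1 := cs.length_simple i
  have lt : cs.length t = 1 := cs.length_simple j
  have lts : cs.length (t * s) = 2 := by rw [← hb, hl]
  have ss : s * s = 1 := cs.simple_mul_simple_self i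
  have tt : t * t = 1 := cs.simple_mul_simple_self j
  obtain ⟨a, ha0, ha1⟩ := third Δ hth h01
  -- `a` is opposite `y2` and `z1`
  have h2a : Δ.δ y2 a = t * s := up Δ (symm_simple Δ h12) ha1 (by rw [lts, lt])
  have hz1a : Δ.δ z1 a = t * s := up Δ (symm_simple Δ k01) ha0 (by rw [lts, lt])
  obtain ⟨k, hak, h2k⟩ := Δ.exists_step y2 a j
  rw [h2a, ← hb, mul_assoc, tt, mul_one] at h2k
  obtain ⟨v, hav, hkv⟩ := third Δ hth hak
  have hzk : Δ.δ z1 k = s := by
    by_cases hzk : z1 = k
    · exfalso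
      subst hzk
      have := symm_simple Δ hak
      rw [hz1a] at this
      have h2 := congrArg cs.length this
      rw [lts, lt] at h2
      omega
    · exact panel Δ (symm_simple Δ k12) h2k hzk
  refine ⟨v, up Δ ha0 hav (by rw [hl, ls]), up Δ ha1 hav (by rw [hl, ls]),
    up Δ h2k hkv (by rw [hl, ls]), up Δ hzk hkv (by rw [hl, ls])⟩

end two

section three

variable {i j : I}

theorem three (Δ : Bldg cs C) (hth : Δ.Thick)
    (hb : cs.simple i * cs.simple j * cs.simple i = cs.simple j * cs.simple i * cs.simple j)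
    (hl : cs.length (cs.simple i * cs.simple j * cs.simple i) = 3) {y0 y1 y2 y3 z1 z2 : C}
    (h01 : Δ.δ y0 y1 = cs.simple i) (h12 : Δ.δ y1 y2 = cs.simple j) (h23 : Δ.δ y2 y3 = cs.simple i)
    (k01 : Δ.δ y0 z1 = cs.simple j) (k12 : Δ.δ z1 z2 = cs.simple i) (k23 : Δ.δ z2 y3 = cs.simple j) :
    ∃ v f v', (Δ.δ y0 v = cs.simple i * cs.simple j * cs.simple i ∧
        Δ.δ y1 v = cs.simple i * cs.simple j * cs.simple i ∧
        Δ.δ y2 v = cs.simple i * cs.simple j * cs.simple i ∧
        Δ.δ y3 v = cs.simple i * cs.simple j * cs.simple i) ∧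
      (Δ.δ y0 f = cs.simple i * cs.simple j * cs.simple i ∧
        Δ.δ y3 f = cs.simple i * cs.simple j * cs.simple i) ∧
      (Δ.δ y0 v' = cs.simple i * cs.simple j * cs.simple i ∧
        Δ.δ z1 v' = cs.simple i * cs.simple j * cs.simple i ∧
        Δ.δ z2 v' = cs.simple i * cs.simple j * cs.simple i ∧
        Δ.δ y3 v' = cs.simple i * cs.simple j * cs.simple i) ∧
      Δ.δ v f = cs.simple j ∧ Δ.δ f v' = cs.simple i := by
  set s := cs.simple i with hs
  set t := cs.simple j with ht
  have ls : cs.length s = 1 := cs.length_simple i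
  have lt : cs.length t = 1 := cs.length_simple j
  have ss : s * s = 1 := cs.simple_mul_simple_self i
  have tt : t * t = 1 := cs.simple_mul_simple_self j
  have lsts : cs.length (s * t * s) = 3 := hl
  have ltst : cs.length (t * s * t) = 3 := by rw [← hb, hl]
  have lst : cs.length (s * t) = 2 := by
    have h1 := cs.length_mul_le (s * t) s
    have h2 := cs.length_mul_le s t
    omega
  have lts : cs.length (t * s) = 2 := by
    have h1 := cs.length_mul_le (t * s) t
    have h2 := cs.length_mul_le t s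
    omega
  obtain ⟨e, he1, he2⟩ := third Δ hth k12
  have h0e : Δ.δ y0 e = t * s := up Δ k01 he1 (by rw [lts, lt])
  have h3e : Δ.δ y3 e = t * s := up Δ (symm_simple Δ k23) he2 (by rw [lts, lt])
  have h1e : Δ.δ y1 e = s * t * s := by
    rw [mul_assoc]
    exact up_left Δ (symm_simple Δ h01) h0e (by rw [← mul_assoc, lsts, lts])
  have h2e : Δ.δ y2 e = s * t * s := by
    rw [mul_assoc]
    exact up_left Δ h23 h3e (by rw [← mul_assoc, lsts, lts])
  -- the gate `f` of `y1` (and `y2`) on the `j`-panel of `e`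
  obtain ⟨f, hef, h1f⟩ := Δ.exists_step y1 e j
  rw [← ht, h1e, hb, mul_assoc (t * s), tt, mul_one] at h1f
  -- first step of the gallery from `y1` to `f`
  obtain ⟨g, hfg, h1g⟩ := Δ.exists_step y1 f i
  rw [← hs, h1f, mul_assoc, ss, mul_one] at h1g
  have hgf : Δ.δ g f = s := symm_simple Δ hfg
  have h2g : Δ.δ y2 g = t := by
    by_cases h : y2 = g
    · exfalso
      subst h
      have h3 : Δ.δ y2 e = s * t := up Δ hgf (symm_simple Δ hef) (by rw [lst, ls])
      rw [h2e] at h3
      have := congrArg cs.length h3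
      rw [lsts, lst] at this
      omega
    · exact panel Δ h12 h1g h
  have h2f : Δ.δ y2 f = t * s := up Δ h2g hgf (by rw [lts, lt])
  obtain ⟨v, hev, hfv⟩ := third Δ hth hef
  obtain ⟨v', hfv', hgv'⟩ := third Δ hth hfg
  have h0f : Δ.δ y0 f = s * t * s := by
    rw [hb]; exact up Δ h0e hef (by rw [ltst, lts])
  have h3f : Δ.δ y3 f = s * t * s := by
    rw [hb]; exact up Δ h3e hef (by rw [ltst, lts])
  have h0g : Δ.δ y0 g = s * t := up Δ h01 h1g (by rw [lst, ls])
  have h3g : Δ.δ y3 g = s * t := up Δ (symm_simple Δ h23) h2g (by rw [lst, ls])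
  have hz1f : Δ.δ z1 f = s * t := up Δ he1 hef (by rw [lst, ls])
  have hz2f : Δ.δ z2 f = s * t := up Δ he2 hef (by rw [lst, ls])
  refine ⟨v, f, v', ⟨?_, ?_, ?_, ?_⟩, ⟨h0f, h3f⟩, ⟨?_, ?_, ?_, ?_⟩, symm_simple Δ hfv, hfv'⟩
  · rw [hb]; exact up Δ h0e hev (by rw [ltst, lts])
  · rw [hb]; exact up Δ h1f hfv (by rw [ltst, lts])
  · rw [hb]; exact up Δ h2f hfv (by rw [ltst, lts])
  · rw [hb]; exact up Δ h3e hev (by rw [ltst, lts])
  · exact up Δ h0g hgv' (by rw [lsts, lst])
  · exact up Δ hz1f hfv' (by rw [lsts, lst])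
  · exact up Δ hz2f hfv' (by rw [lsts, lst])
  · exact up Δ h3g hgv' (by rw [lsts, lst])

end three

section four

variable {i j : I}

theorem four (Δ : Bldg cs C) (hth : Δ.Thick)
    (hb : cs.simple i * cs.simple j * cs.simple i * cs.simple j =
      cs.simple j * cs.simple i * cs.simple j * cs.simple i)
    (hl : cs.length (cs.simple i * cs.simple j * cs.simple i * cs.simple j) = 4)
    {y0 y1 y2 y3 y4 z1 z2 z3 : C}
    (h01 : Δ.δ y0 y1 = cs.simple i) (h12 : Δ.δ y1 y2 = cs.simple j) (h23 : Δ.δ y2 y3 = cs.simple i)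
    (h34 : Δ.δ y3 y4 = cs.simple j)
    (k01 : Δ.δ y0 z1 = cs.simple j) (k12 : Δ.δ z1 z2 = cs.simple i) (k23 : Δ.δ z2 z3 = cs.simple j)
    (k34 : Δ.δ z3 y4 = cs.simple i) :
    ∃ v v', (Δ.δ y0 v = cs.simple i * cs.simple j * cs.simple i * cs.simple j ∧
        Δ.δ y1 v = cs.simple i * cs.simple j * cs.simple i * cs.simple j ∧
        Δ.δ y2 v = cs.simple i * cs.simple j * cs.simple i * cs.simple j ∧
        Δ.δ y3 v = cs.simple i * cs.simple j * cs.simple i * cs.simple j ∧
        Δ.δ y4 v = cs.simple i * cs.simple j * cs.simple i * cs.simple j) ∧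
      (Δ.δ y0 v' = cs.simple i * cs.simple j * cs.simple i * cs.simple j ∧
        Δ.δ z1 v' = cs.simple i * cs.simple j * cs.simple i * cs.simple j ∧
        Δ.δ z2 v' = cs.simple i * cs.simple j * cs.simple i * cs.simple j ∧
        Δ.δ z3 v' = cs.simple i * cs.simple j * cs.simple i * cs.simple j ∧
        Δ.δ y4 v' = cs.simple i * cs.simple j * cs.simple i * cs.simple j) ∧
      (v = v' ∨ Δ.δ v v' = cs.simple i) := by
  set s := cs.simple i with hs
  set t := cs.simple j with ht
  have ls : cs.length s = 1 := cs.length_simple i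
  have lt : cs.length t = 1 := cs.length_simple j
  have ss : s * s = 1 := cs.simple_mul_simple_self i
  have tt : t * t = 1 := cs.simple_mul_simple_self j
  have lstst : cs.length (s * t * s * t) = 4 := hl
  have ltsts : cs.length (t * s * t * s) = 4 := by rw [← hb, hl]
  have lst : cs.length (s * t) = 2 := by
    have h1 := cs.length_mul_le (s * t) (s * t)
    have h2 := cs.length_mul_le s t
    rw [← mul_assoc] at h1
    omega
  have lts : cs.length (t * s) = 2 := by
    have h1 := cs.length_mul_le (t * s) (t * s)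
    have h2 := cs.length_mul_le t s
    rw [← mul_assoc] at h1
    omega
  have lsts : cs.length (s * t * s) = 3 := by
    have h1 := cs.length_mul_le (s * t * s) t
    have h2 := cs.length_mul_le (s * t) s
    omega
  have ltst : cs.length (t * s * t) = 3 := by
    have h1 := cs.length_mul_le (t * s * t) s
    have h2 := cs.length_mul_le (t * s) t
    omega
  obtain ⟨e, h0e, hz1e⟩ := third Δ hth k01
  have h4z1 : Δ.δ y4 z1 = s * t * s := by
    have a1 : Δ.δ y4 z2 = s * t := up Δ (symm_simple Δ k34) (symm_simple Δ k23) (by rw [lst, ls])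
    exact up Δ a1 (symm_simple Δ k12) (by rw [lsts, lst])
  have h4e : Δ.δ y4 e = s * t * s * t := up Δ h4z1 hz1e (by rw [lstst, lsts])
  -- gate `g` of `y4` on the `i`-panel of `e`
  obtain ⟨g, heg, h4g⟩ := Δ.exists_step y4 e i
  rw [← hs, h4e, hb, mul_assoc (t * s * t), ss, mul_one] at h4g
  -- gate `f` of `y4` on the `j`-panel of `g`
  obtain ⟨f, hgf, h4f⟩ := Δ.exists_step y4 g j
  rw [← ht, h4g, mul_assoc (t * s), tt, mul_one] at h4f
  obtain ⟨h, hfh, h4h⟩ := Δ.exists_step y4 f i
  rw [← hs, h4f, mul_assoc, ss, mul_one] at h4h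
  have hhf : Δ.δ h f = s := symm_simple Δ hfh
  obtain ⟨n, hgn, hfn⟩ := third Δ hth hgf
  have h0g : Δ.δ y0 g = t * s := up Δ h0e heg (by rw [lts, lt])
  have h0n : Δ.δ y0 n = t * s * t := up Δ h0g hgn (by rw [ltst, lts])
  have h0f : Δ.δ y0 f = t * s * t := up Δ h0g hgf (by rw [ltst, lts])
  have h1n : Δ.δ y1 n = s * t * s * t := by
    have := up_left Δ (symm_simple Δ h01) h0n (by
      rw [← hs, show s * (t * s * t) = s * t * s * t by group, lstst, ltst])
    rw [this]; rw [← hs]; group
  have h4n : Δ.δ y4 n = t * s * t := up Δ h4f hfn (by rw [ltst, lts])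
  have h02 : Δ.δ y0 y2 = s * t := up Δ h01 h12 (by rw [lst, ls])
  -- `h ≠ y3`
  have h3h : Δ.δ y3 h = t := by
    by_cases hh : y3 = h
    · exfalso
      subst hh
      by_cases h2f : y2 = f
      · subst h2f
        rw [h02] at h0f
        have := congrArg cs.length h0f
        rw [lst, ltst] at this
        omega
      · have h2f' : Δ.δ y2 f = s := panel Δ (symm_simple Δ h23) hhf h2f
        have h0f' : Δ.δ y0 f = s * t * s := up Δ h02 h2f' (by rw [lsts, lst])
        rw [h0f] at h0f'
        have : t * (t * s * t) * s = t * (s * t * s) * s := by rw [h0f']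
        have h2 : s * t * s = t * s * t := h0f'.symm
        have h3 : s * t * s * t = t * s := by
          rw [h2, mul_assoc (t * s), tt, mul_one]
        have := congrArg cs.length h3
        rw [lstst, lts] at this
        omega
    · exact panel Δ (symm_simple Δ h34) h4h hh
  have h3f : Δ.δ y3 f = t * s := up Δ h3h hhf (by rw [lts, lt])
  have h3n : Δ.δ y3 n = t * s * t := up Δ h3f hfn (by rw [ltst, lts])
  have h2n : Δ.δ y2 n = s * t * s * t := by
    have := up_left Δ h23 h3n (by
      rw [← hs, show s * (t * s * t) = s * t * s * t by group, lstst, ltst])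
    rw [this]; rw [← hs]; group
  have hz1g : Δ.δ z1 g = t * s := up Δ hz1e heg (by rw [lts, lt])
  have hz1n : Δ.δ z1 n = t * s * t := up Δ hz1g hgn (by rw [ltst, lts])
  have hz2n : Δ.δ z2 n = s * t * s * t := by
    have := up_left Δ (symm_simple Δ k12) hz1n (by
      rw [← hs, show s * (t * s * t) = s * t * s * t by group, lstst, ltst])
    rw [this]; rw [← hs]; group
  have hz3n : Δ.δ z3 n = s * t * s * t := by
    have := up_left Δ k34 h4n (by
      rw [← hs, show s * (t * s * t) = s * t * s * t by group, lstst, ltst])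
    rw [this]; rw [← hs]; group
  -- common gate of two `j`-adjacent chambers opposite `n` on the `i`-panel of `n`
  have key : ∀ a b : C, Δ.δ a b = t → Δ.δ a n = s * t * s * t → Δ.δ b n = s * t * s * t →
      ∃ c, Δ.δ n c = s ∧ ∀ v, Δ.δ c v = s → Δ.δ a v = s * t * s * t ∧ Δ.δ b v = s * t * s * t := by
    intro a b hab han hbn
    obtain ⟨c, hnc, hac⟩ := Δ.exists_step a n i
    rw [← hs, han, hb, mul_assoc (t * s * t), ss, mul_one] at hac
    have hbc : Δ.δ b c = t * s * t := by
      have hstep := Δ.step b n c i hnc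
      rw [← hs, hbn] at hstep
      rcases hstep with h' | h'
      · rw [h', hb, mul_assoc (t * s * t), ss, mul_one]
      · exfalso
        -- `δ b c = w` but `δ a c = tst`, `δ a b = t`
        have h2 := Δ.step c a b j hab
        have hca : Δ.δ c a = t * s * t := by
          rw [Δ.symm a c, hac]; simp [ht, hs, mul_assoc]
        have hcb : Δ.δ c b = s * t * s * t := by
          rw [Δ.symm b c, h']
          have : (s * t * s * t)⁻¹ = t * s * t * s := by simp [ht, hs, mul_assoc]
          rw [this, hb]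
        rw [← ht, hca, hcb] at h2
        rcases h2 with h2 | h2
        · have := congrArg cs.length h2
          rw [lstst, mul_assoc (t * s), tt, mul_one, lts] at this
          omega
        · have := congrArg cs.length h2
          rw [lstst, ltst] at this
          omega
    refine ⟨c, hnc, fun v hcv => ⟨?_, ?_⟩⟩
    · rw [hb]; exact up Δ hac hcv (by rw [ltsts, ltst])
    · rw [hb]; exact up Δ hbc hcv (by rw [ltsts, ltst])
  obtain ⟨c1, hnc1, hc1⟩ := key y1 y2 h12 h1n h2n
  obtain ⟨c3, hnc3, hc3⟩ := key z2 z3 k23 hz2n hz3n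
  obtain ⟨v, hnv, hc1v⟩ := third Δ hth hnc1
  obtain ⟨v', hnv', hc3v'⟩ := third Δ hth hnc3
  refine ⟨v, v', ⟨?_, (hc1 v hc1v).1, (hc1 v hc1v).2, ?_, ?_⟩,
    ⟨?_, ?_, (hc3 v' hc3v').1, (hc3 v' hc3v').2, ?_⟩, ?_⟩
  · rw [hb]; exact up Δ h0n hnv (by rw [ltsts, ltst])
  · rw [hb]; exact up Δ h3n hnv (by rw [ltsts, ltst])
  · rw [hb]; exact up Δ h4n hnv (by rw [ltsts, ltst])
  · rw [hb]; exact up Δ h0n hnv' (by rw [ltsts, ltst])
  · rw [hb]; exact up Δ hz1n hnv' (by rw [ltsts, ltst])
  · rw [hb]; exact up Δ h4n hnv' (by rw [ltsts, ltst])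
  · by_cases hvv : v = v'
    · exact Or.inl hvv
    · exact Or.inr (panel Δ hnv hnv' hvv)

end four

end Cfsg.Agent.Tits.RankTwoPath
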