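import Cfsg.Agent.Tits.Exchange
import Cfsg.Agent.Tits.RankTwoPath
import Cfsg.Agent.LieRecognition.CoxForm
/-!
Rank two facts for route E of S1143: the dihedral subgroups `W_{ij}` for `m_{ij} ∈ {2,3,4}`
(lengths of alternating products, the longest element), the generic panel and the generic path in a
residue of rank two of a thick building.
-/

set_option autoImplicit false

namespace Cfsg.Agent.Tits.Generic

open Cfsg.Agent.Tits.Core Cfsg.Agent.Tits.RankTwoPath

variable {I : Type*} {M : CoxeterMatrix I} {W : Type*} [Group W] (cs : CoxeterSystem M W)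

local notation "ℓ" => cs.length

/-- An element of `W_J` having all `i ∈ J` as left descents is the longest element of `W_J`. -/
theorem eq_wJ_of_descents {J : Set I} [Finite (WJ cs J)] {x : W} (hx : x ∈ WJ cs J)
    (h : ∀ k ∈ J, ℓ (cs.simple k * x) < ℓ x) : x = wJ cs J := by
  have hL := Exchange.isLongest_wJ cs J
  set w := wJ cs J with hw
  have h1 := (hL.2 x⁻¹ (inv_mem hx)).1
  rw [cs.length_inv] at h1
  have hmin : Exchange.IsMinR cs J (w * x⁻¹) := by
    rw [Exchange.isMinR_iff]
    intro k hk
    rcases cs.length_mul_simple (w * x⁻¹) k with h2 | h2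
    · omega
    · exfalso
      have h3 : w = (w * x⁻¹ * cs.simple k) * (cs.simple k * x) := by
        simp [mul_assoc]
      have h4 := cs.length_mul_le (w * x⁻¹ * cs.simple k) (cs.simple k * x)
      rw [← h3] at h4
      have := h k hk
      omega
  have h5 := hmin (w * x⁻¹)⁻¹ (inv_mem (mul_mem hL.1 (inv_mem hx)))
  rw [mul_inv_cancel, cs.length_one, cs.length_inv] at h5
  have h6 : w * x⁻¹ = 1 := cs.length_eq_zero_iff.1 (by omega)
  exact (mul_inv_eq_one.1 h6).symm

section dihedral

variable [Finite I] [Finite W]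

theorem orderOf_eq (i j : I) : orderOf (cs.simple i * cs.simple j) = M i j := by
  classical
  have := Fintype.ofFinite I
  exact LieRecognition.CoxForm.orderOf_eq cs i j

omit [Finite I] [Finite W] in
theorem mem_two {i j : I} {x : W} (hx : x ∈ WJ cs {i, j}) (h : ℓ x = 1) :
    x = cs.simple i ∨ x = cs.simple j := by
  obtain ⟨ω, hω, hred, rfl⟩ := Exchange.exists_reduced_of_mem_WJ cs hx
  rw [hred.eq] at h
  obtain ⟨a, rfl⟩ := List.length_eq_one_iff.1 h
  have := hω a (by simp)
  simpa using this.imp (fun h => by rw [h]) (fun h : a = j => by rw [h])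

omit [Finite I] [Finite W] in
theorem mem_two' {i j : I} {x : W} (hx : x ∈ WJ cs {i, j}) (h : ℓ x = 2) :
    x = cs.simple i * cs.simple j ∨ x = cs.simple j * cs.simple i := by
  obtain ⟨ω, hω, hred, rfl⟩ := Exchange.exists_reduced_of_mem_WJ cs hx
  rw [hred.eq] at h
  obtain ⟨a, b, rfl⟩ := List.length_eq_two.1 h
  have ha := hω a (by simp)
  have hb := hω b (by simp)
  have hab : a ≠ b := by
    rintro rfl
    have h1 := hred.eq
    rw [cs.wordProd_cons, cs.wordProd_cons, cs.wordProd_nil, mul_one, cs.simple_mul_simple_self,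
      cs.length_one] at h1
    simp at h1
  rcases ha with rfl | ha <;> rcases hb with rfl | hb
  · exact absurd rfl hab
  · rw [Set.mem_singleton_iff] at hb
    subst hb
    left
    rw [cs.wordProd_cons, cs.wordProd_cons, cs.wordProd_nil, mul_one]
  · rw [Set.mem_singleton_iff] at ha
    subst ha
    right
    rw [cs.wordProd_cons, cs.wordProd_cons, cs.wordProd_nil, mul_one]
  · rw [Set.mem_singleton_iff] at ha hb
    exact absurd (ha.trans hb.symm) hab

omit [Finite I] [Finite W] in
theorem simple_mem_left (i j : I) : cs.simple i ∈ WJ cs {i, j} :=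
  Exchange.simple_mem_WJ cs (by simp)

omit [Finite I] [Finite W] in
theorem simple_mem_right (i j : I) : cs.simple j ∈ WJ cs {i, j} :=
  Exchange.simple_mem_WJ cs (by simp)

theorem ne_one {i j : I} (hij : i ≠ j) : cs.simple i * cs.simple j ≠ 1 := by
  intro h
  have h1 := orderOf_eq cs i j
  rw [h, orderOf_one] at h1
  exact M.off_diagonal i j hij h1.symm

theorem length_two {i j : I} (hij : i ≠ j) : ℓ (cs.simple i * cs.simple j) = 2 := by
  rcases cs.length_mul_simple (cs.simple i) j with h | h
  · rw [h, cs.length_simple]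
  · rw [cs.length_simple] at h
    exact absurd (cs.length_eq_zero_iff.1 (by omega)) (ne_one cs hij)

theorem length_three {i j : I} (hij : i ≠ j) (hm : M i j ≠ 2) :
    ℓ (cs.simple i * cs.simple j * cs.simple i) = 3 := by
  rcases cs.length_mul_simple (cs.simple i * cs.simple j) i with h | h
  · rw [h, length_two cs hij]
  · exfalso
    rw [length_two cs hij] at h
    have hmem : cs.simple i * cs.simple j * cs.simple i ∈ WJ cs {i, j} :=
      mul_mem (mul_mem (simple_mem_left cs i j) (simple_mem_right cs i j)) (simple_mem_left cs i j)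
    rcases mem_two cs hmem (by omega) with h1 | h1
    · have h2 : cs.simple i * cs.simple j = 1 := by
        have := congrArg (· * cs.simple i) h1
        simpa [mul_assoc] using this
      exact ne_one cs hij h2
    · have h2 : (cs.simple i * cs.simple j) ^ 2 = 1 := by
        have := congrArg (· * cs.simple j) h1
        rw [pow_two, ← mul_assoc]
        simpa using this
      have h3 := orderOf_dvd_of_pow_eq_one h2
      rw [orderOf_eq] at h3
      have h4 := M.off_diagonal i j hij
      rcases (Nat.dvd_prime Nat.prime_two).1 h3 with h5 | h5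
      · exact h4 h5
      · exact hm h5

theorem length_four {i j : I} (hij : i ≠ j) (hm : M i j = 4) :
    ℓ (cs.simple i * cs.simple j * cs.simple i * cs.simple j) = 4 := by
  have h3 := length_three cs hij (by omega)
  rcases cs.length_mul_simple (cs.simple i * cs.simple j * cs.simple i) j with h | h
  · rw [h, h3]
  · exfalso
    rw [h3] at h
    have hmem : cs.simple i * cs.simple j * cs.simple i * cs.simple j ∈ WJ cs {i, j} :=
      mul_mem (mul_mem (mul_mem (simple_mem_left cs i j) (simple_mem_right cs i j))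
        (simple_mem_left cs i j)) (simple_mem_right cs i j)
    rcases mem_two' cs hmem (by omega) with h1 | h1
    · have h2 : cs.simple i * cs.simple j = 1 := by
        rw [mul_assoc] at h1
        exact mul_eq_left.1 h1
      exact ne_one cs hij h2
    · have h2 : (cs.simple i * cs.simple j) ^ 3 = 1 := by
        have h4 : (cs.simple i * cs.simple j) ^ 3 =
            (cs.simple i * cs.simple j * cs.simple i * cs.simple j) * (cs.simple i * cs.simple j) := by
          rw [pow_succ, pow_two]; simp only [mul_assoc]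
        rw [h4, h1]
        simp [mul_assoc]
      have h3 := orderOf_dvd_of_pow_eq_one h2
      rw [orderOf_eq, hm] at h3
      omega

omit [Finite I] [Finite W] in
theorem braid_two {i j : I} (hm : M i j = 2) :
    cs.simple i * cs.simple j = cs.simple j * cs.simple i := by
  have h := cs.simple_mul_simple_pow i j
  rw [hm, pow_two] at h
  have h1 : cs.simple i * cs.simple j = (cs.simple i * cs.simple j)⁻¹ := eq_inv_of_mul_eq_one_left h
  rw [h1]; simp

omit [Finite I] [Finite W] in
theorem braid_three {i j : I} (hm : M i j = 3) :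
    cs.simple i * cs.simple j * cs.simple i = cs.simple j * cs.simple i * cs.simple j := by
  have h := cs.simple_mul_simple_pow i j
  rw [hm] at h
  have h1 : (cs.simple i * cs.simple j * cs.simple i) * (cs.simple j * cs.simple i * cs.simple j) = 1 := by
    rw [← h, pow_succ, pow_two]; simp only [mul_assoc]
  rw [eq_inv_of_mul_eq_one_left h1]
  simp [mul_assoc]

omit [Finite I] [Finite W] in
theorem braid_four {i j : I} (hm : M i j = 4) :
    cs.simple i * cs.simple j * cs.simple i * cs.simple j =
      cs.simple j * cs.simple i * cs.simple j * cs.simple i := by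
  have h := cs.simple_mul_simple_pow i j
  rw [hm] at h
  have h1 : (cs.simple i * cs.simple j * cs.simple i * cs.simple j) *
      (cs.simple i * cs.simple j * cs.simple i * cs.simple j) = 1 := by
    rw [← h, pow_succ, pow_succ, pow_two]; simp only [mul_assoc]
  rw [eq_inv_of_mul_eq_one_left h1]
  simp [mul_assoc]

omit [Finite I] in
theorem eq_wJ_pair {i j : I} {x : W} (hx : x ∈ WJ cs {i, j}) (hi : ℓ (cs.simple i * x) < ℓ x)
    (hj : ℓ (cs.simple j * x) < ℓ x) : x = wJ cs {i, j} := by
  refine eq_wJ_of_descents cs hx ?_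
  rintro k (rfl | hk)
  · exact hi
  · rw [Set.mem_singleton_iff] at hk
    subst hk
    exact hj

theorem wJ_two {i j : I} (hij : i ≠ j) (hm : M i j = 2) :
    wJ cs {i, j} = cs.simple i * cs.simple j := by
  symm
  refine eq_wJ_pair cs (mul_mem (simple_mem_left cs i j) (simple_mem_right cs i j)) ?_ ?_
  · rw [length_two cs hij]; simp
  · rw [length_two cs hij, braid_two cs hm]; simp

theorem wJ_three {i j : I} (hij : i ≠ j) (hm : M i j = 3) :
    wJ cs {i, j} = cs.simple i * cs.simple j * cs.simple i := by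
  symm
  have h3 := length_three cs hij (by omega : M i j ≠ 2)
  refine eq_wJ_pair cs (mul_mem (mul_mem (simple_mem_left cs i j) (simple_mem_right cs i j))
    (simple_mem_left cs i j)) ?_ ?_
  · rw [h3]
    have : cs.simple i * (cs.simple i * cs.simple j * cs.simple i) = cs.simple j * cs.simple i := by
      simp [mul_assoc]
    rw [this, length_two cs hij.symm]; omega
  · rw [h3, braid_three cs hm]
    have : cs.simple j * (cs.simple j * cs.simple i * cs.simple j) = cs.simple i * cs.simple j := by
      simp [mul_assoc]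
    rw [this, length_two cs hij]; omega

theorem wJ_four {i j : I} (hij : i ≠ j) (hm : M i j = 4) :
    wJ cs {i, j} = cs.simple i * cs.simple j * cs.simple i * cs.simple j := by
  symm
  have h4 := length_four cs hij hm
  have hm' : M j i = 4 := by rw [M.symmetric]; exact hm
  refine eq_wJ_pair cs (mul_mem (mul_mem (mul_mem (simple_mem_left cs i j) (simple_mem_right cs i j))
    (simple_mem_left cs i j)) (simple_mem_right cs i j)) ?_ ?_
  · rw [h4]
    have : cs.simple i * (cs.simple i * cs.simple j * cs.simple i * cs.simple j) =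
      cs.simple j * cs.simple i * cs.simple j := by
      simp [mul_assoc]
    rw [this, length_three cs hij.symm (by omega)]; omega
  · rw [h4, braid_four cs hm]
    have : cs.simple j * (cs.simple j * cs.simple i * cs.simple j * cs.simple i) =
      cs.simple i * cs.simple j * cs.simple i := by
      simp [mul_assoc]
    rw [this, length_three cs hij (by omega)]; omega

end dihedral

section generic

variable {cs}
variable {C : Type*} [Finite I] [Finite W]

omit [Finite I] [Finite W] in
theorem mem_Pan_self (Δ : Bldg cs C) (i : I) (x : C) : x ∈ Δ.Pan i x := Or.inl rfl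

omit [Finite I] [Finite W] in
theorem mem_Res_of_Pan (Δ : Bldg cs C) {i j k : I} (hk : k = i ∨ k = j) {x t e : C}
    (ht : t ∈ Δ.Pan k e) (h : Δ.δ x t ∈ WJ cs {i, j}) : e ∈ Δ.Res {i, j} x := by
  have hkm : cs.simple k ∈ WJ cs {i, j} := by
    rcases hk with rfl | rfl
    · exact simple_mem_left cs k j
    · exact simple_mem_right cs i k
  rcases ht with rfl | ht
  · exact h
  · have hs := Δ.step x t e k (symm_simple Δ ht)
    show Δ.δ x e ∈ WJ cs {i, j}
    rcases hs with hs | hs
    · rw [hs]; exact mul_mem h hkm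
    · rw [hs]; exact h

/-- The path between two generic chambers: `v` opposite to the first gallery, `v'` opposite to the
second one, joined by a gallery of chambers opposite to both ends. -/
theorem path (Δ : Bldg cs C) (hth : Δ.Thick) {i j : I} (hij : i ≠ j)
    (hm : M i j = 2 ∨ M i j = 3 ∨ M i j = 4) (y z : ℕ → C)
    (hy : ∀ k < M i j, Δ.δ (y k) (y (k + 1)) = cs.simple (if Even k then i else j))
    (hz : ∀ k < M i j, Δ.δ (z k) (z (k + 1)) = cs.simple (if Even k then j else i))
    (h0 : y 0 = z 0) (h1 : y (M i j) = z (M i j)) :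
    ∃ v v', (∀ a ≤ M i j, Δ.δ (y a) v = wJ cs {i, j}) ∧ (∀ a ≤ M i j, Δ.δ (z a) v' = wJ cs {i, j}) ∧
      Conn Δ i j (wJ cs {i, j}) (y 0) (y (M i j)) v v' := by
  rcases hm with hm | hm | hm
  · rw [wJ_two cs hij hm]
    rw [hm] at hy hz h1 ⊢
    have hl := length_two cs hij
    have a1 := hy 0 (by norm_num)
    have a2 := hy 1 (by norm_num)
    have b1 := hz 0 (by norm_num)
    have b2 := hz 1 (by norm_num)
    simp at a1 a2 b1 b2
    rw [← h0] at b1
    rw [← h1] at b2
    obtain ⟨v, v0, v1, v2, v3⟩ := two Δ hth (braid_two cs hm) hl a1 a2 b1 b2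
    refine ⟨v, v, ?_, ?_, Relation.ReflTransGen.refl⟩
    · intro a ha
      interval_cases a <;> assumption
    · intro a ha
      interval_cases a
      · rw [← h0]; exact v0
      · exact v3
      · rw [← h1]; exact v2
  · rw [wJ_three cs hij hm]
    rw [hm] at hy hz h1 ⊢
    have hl := length_three cs hij (by omega : M i j ≠ 2)
    have a1 := hy 0 (by norm_num)
    have a2 := hy 1 (by norm_num)
    have a3 := hy 2 (by norm_num)
    have b1 := hz 0 (by norm_num)
    have b2 := hz 1 (by norm_num)
    have b3 := hz 2 (by norm_num)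
    simp at a1 a2 a3 b1 b2 b3
    rw [← h0] at b1
    rw [← h1] at b3
    obtain ⟨v, f, v', ⟨v0, v1, v2, v3⟩, ⟨f0, f3⟩, ⟨w0, w1, w2, w3⟩, hvf, hfv⟩ :=
      three Δ hth (braid_three cs hm) hl a1 a2 a3 b1 b2 b3
    refine ⟨v, v', ?_, ?_, ?_⟩
    · intro a ha
      interval_cases a <;> assumption
    · intro a ha
      interval_cases a
      · rw [← h0]; exact w0
      · exact w1
      · exact w2
      · rw [← h1]; exact w3
    · refine Relation.ReflTransGen.head (b := f) ⟨Or.inr hvf, ⟨v0, v3⟩, ⟨f0, f3⟩⟩ ?_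
      exact Relation.ReflTransGen.single ⟨Or.inl hfv, ⟨f0, f3⟩, ⟨w0, w3⟩⟩
  · rw [wJ_four cs hij hm]
    rw [hm] at hy hz h1 ⊢
    have hl := length_four cs hij hm
    have a1 := hy 0 (by norm_num)
    have a2 := hy 1 (by norm_num)
    have a3 := hy 2 (by norm_num)
    have a4 := hy 3 (by norm_num)
    have b1 := hz 0 (by norm_num)
    have b2 := hz 1 (by norm_num)
    have b3 := hz 2 (by norm_num)
    have b4 := hz 3 (by norm_num)
    have e3 : ¬ Even 3 := by decide
    simp [e3] at a1 a2 a3 a4 b1 b2 b3 b4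
    rw [← h0] at b1
    rw [← h1] at b4
    obtain ⟨v, v', ⟨v0, v1, v2, v3, v4⟩, ⟨w0, w1, w2, w3, w4⟩, hvv⟩ :=
      four Δ hth (braid_four cs hm) hl a1 a2 a3 a4 b1 b2 b3 b4
    refine ⟨v, v', ?_, ?_, ?_⟩
    · intro a ha
      interval_cases a <;> assumption
    · intro a ha
      interval_cases a
      · rw [← h0]; exact w0
      · exact w1
      · exact w2
      · exact w3
      · rw [← h1]; exact w4
    · rcases hvv with rfl | hvv
      · exact Relation.ReflTransGen.refl
      · exact Relation.ReflTransGen.single ⟨Or.inl hvv, ⟨v0, v4⟩, ⟨w0, w4⟩⟩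

omit [Finite I] [Finite W] in
/-- generic panel, `m = 3` -/
theorem generic_three (Δ : Bldg cs C) (hth : Δ.Thick) {i j : I}
    (hb : cs.simple i * cs.simple j * cs.simple i = cs.simple j * cs.simple i * cs.simple j)
    (hl : cs.length (cs.simple i * cs.simple j * cs.simple i) = 3) {y0 y1 y2 y3 z1 z2 : C}
    (h01 : Δ.δ y0 y1 = cs.simple i) (h12 : Δ.δ y1 y2 = cs.simple j) (h23 : Δ.δ y2 y3 = cs.simple i)
    (k01 : Δ.δ y0 z1 = cs.simple j) (k12 : Δ.δ z1 z2 = cs.simple i) (k23 : Δ.δ z2 y3 = cs.simple j) :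
    ∃ e, ∀ a ∈ ({y0, y1, y2, y3, z1, z2} : Set C), ∃ t ∈ Δ.Pan j e,
      Δ.δ a t = cs.simple i * cs.simple j * cs.simple i := by
  set s := cs.simple i with hs
  set t := cs.simple j with ht
  have ls : cs.length s = 1 := cs.length_simple i
  have lt : cs.length t = 1 := cs.length_simple j
  have ss : s * s = 1 := cs.simple_mul_simple_self i
  have tt : t * t = 1 := cs.simple_mul_simple_self j
  have lsts : cs.length (s * t * s) = 3 := hl
  have ltst : cs.length (t * s * t) = 3 := by rw [← hb, hl]
  have lst : cs.length (s * t) = 2 := by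
    have h1 := cs.length_mul_le (s * t) s
    have h2 := cs.length_mul_le s t
    omega
  have lts : cs.length (t * s) = 2 := by
    have h1 := cs.length_mul_le (t * s) t
    have h2 := cs.length_mul_le t s
    omega
  -- `e1` third in the `i`-panel of `y0, y1`
  obtain ⟨e1, h0e, h1e⟩ := third Δ hth h01
  have h31 : Δ.δ y3 y1 = s * t := up Δ (symm_simple Δ h23) (symm_simple Δ h12) (by rw [lst, ls])
  have h3e : Δ.δ y3 e1 = s * t * s := up Δ h31 h1e (by rw [lsts, lst])
  -- the gate `e2` of `y3` on the `j`-panel of `e1`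
  obtain ⟨e2, he12, h3e2⟩ := Δ.exists_step y3 e1 j
  rw [← ht, h3e, hb, mul_assoc (t * s), tt, mul_one] at h3e2
  obtain ⟨f, he2f, h3f⟩ := Δ.exists_step y3 e2 i
  rw [← hs, h3e2, mul_assoc, ss, mul_one] at h3f
  have hfe2 : Δ.δ f e2 = s := symm_simple Δ he2f
  have hz1e1 : Δ.δ z1 e1 = t * s := up Δ (symm_simple Δ k01) h0e (by rw [lts, lt])
  have hz1e2 : Δ.δ z1 e2 = t * s * t := up Δ hz1e1 he12 (by rw [ltst, lts])
  have hz2f : Δ.δ z2 f = t := by
    by_cases h : z2 = f
    · exfalso
      subst h
      by_cases h' : z1 = e2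
      · subst h'
        rw [delta_self] at hz1e2
        have := congrArg cs.length hz1e2
        rw [cs.length_one, ltst] at this
        omega
      · have h2 := panel Δ (symm_simple Δ k12) hfe2 h'
        rw [hz1e2] at h2
        have := congrArg cs.length h2
        rw [ltst] at this
        have := cs.length_simple i
        omega
    · exact panel Δ (symm_simple Δ k23) h3f h
  obtain ⟨e3, he23, hfe3⟩ := third Δ hth he2f
  obtain ⟨e4, -, -, he34, -⟩ := hth e3 j
  rw [← ht] at he34
  have h0e2 : Δ.δ y0 e2 = s * t := up Δ h0e he12 (by rw [lst, ls])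
  have h1e2 : Δ.δ y1 e2 = s * t := up Δ h1e he12 (by rw [lst, ls])
  have h3e3 : Δ.δ y3 e3 = t * s := up Δ h3f hfe3 (by rw [lts, lt])
  have hz2e3 : Δ.δ z2 e3 = t * s := up Δ hz2f hfe3 (by rw [lts, lt])
  refine ⟨e3, ?_⟩
  rintro a (rfl | rfl | rfl | rfl | rfl | rfl)
  · exact ⟨e3, Or.inl rfl, up Δ h0e2 he23 (by rw [lsts, lst])⟩
  · exact ⟨e3, Or.inl rfl, up Δ h1e2 he23 (by rw [lsts, lst])⟩
  · refine ⟨e3, Or.inl rfl, ?_⟩
    rw [mul_assoc]
    exact up_left Δ h23 h3e3 (by rw [← mul_assoc, lsts, lts])
  · exact ⟨e4, Or.inr he34, by rw [hb]; exact up Δ h3e3 he34 (by rw [ltst, lts])⟩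
  · refine ⟨e3, Or.inl rfl, ?_⟩
    rw [mul_assoc]
    exact up_left Δ k12 hz2e3 (by rw [← mul_assoc, lsts, lts])
  · exact ⟨e4, Or.inr he34, by rw [hb]; exact up Δ hz2e3 he34 (by rw [ltst, lts])⟩

/-- The generic panel: a panel of the residue which contains, for each chamber `a` of the apartment
`y_0,…,y_m,z_{m-1},…,z_1`, a chamber opposite to `a`. -/
theorem generic (Δ : Bldg cs C) (hth : Δ.Thick) {i j : I} (hij : i ≠ j)
    (hm : M i j = 2 ∨ M i j = 3 ∨ M i j = 4) (y z : ℕ → C)
    (hy : ∀ k < M i j, Δ.δ (y k) (y (k + 1)) = cs.simple (if Even k then i else j))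
    (hz : ∀ k < M i j, Δ.δ (z k) (z (k + 1)) = cs.simple (if Even k then j else i))
    (h0 : y 0 = z 0) (h1 : y (M i j) = z (M i j)) :
    ∃ k e, (k = i ∨ k = j) ∧ e ∈ Δ.Res {i, j} (y 0) ∧
      (∀ a ≤ M i j, ∃ t ∈ Δ.Pan k e, Δ.δ (y a) t = wJ cs {i, j}) ∧
      (∀ a ≤ M i j, ∃ t ∈ Δ.Pan k e, Δ.δ (z a) t = wJ cs {i, j}) := by
  have hmem : wJ cs {i, j} ∈ WJ cs {i, j} := (Exchange.isLongest_wJ cs {i, j}).1
  suffices h : ∃ k e, (k = i ∨ k = j) ∧
      (∀ a ≤ M i j, ∃ t ∈ Δ.Pan k e, Δ.δ (y a) t = wJ cs {i, j}) ∧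
      (∀ a ≤ M i j, ∃ t ∈ Δ.Pan k e, Δ.δ (z a) t = wJ cs {i, j}) by
    obtain ⟨k, e, hk, h2, h3⟩ := h
    obtain ⟨t, ht, h4⟩ := h2 0 (Nat.zero_le _)
    exact ⟨k, e, hk, mem_Res_of_Pan Δ hk ht (by rw [h4]; exact hmem), h2, h3⟩
  by_cases hm3 : M i j = 3
  · rw [wJ_three cs hij hm3]
    rw [hm3] at hy hz h1 ⊢
    have a1 := hy 0 (by norm_num)
    have a2 := hy 1 (by norm_num)
    have a3 := hy 2 (by norm_num)
    have b1 := hz 0 (by norm_num)
    have b2 := hz 1 (by norm_num)
    have b3 := hz 2 (by norm_num)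
    simp at a1 a2 a3 b1 b2 b3
    rw [← h0] at b1
    rw [← h1] at b3
    obtain ⟨e, he⟩ := generic_three Δ hth (braid_three cs hm3)
      (length_three cs hij (by omega : M i j ≠ 2)) a1 a2 a3 b1 b2 b3
    refine ⟨j, e, Or.inr rfl, ?_, ?_⟩
    · intro a ha
      apply he
      interval_cases a <;> simp
    · intro a ha
      apply he
      interval_cases a
      · simp [← h0]
      · simp
      · simp
      · simp [← h1]
  · rcases hm with hm | hm | hm
    · rw [wJ_two cs hij hm]
      rw [hm] at hy hz h1 ⊢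
      have a1 := hy 0 (by norm_num)
      have a2 := hy 1 (by norm_num)
      have b1 := hz 0 (by norm_num)
      have b2 := hz 1 (by norm_num)
      simp at a1 a2 b1 b2
      rw [← h0] at b1
      rw [← h1] at b2
      obtain ⟨v, v0, v1, v2, v3⟩ := two Δ hth (braid_two cs hm) (length_two cs hij) a1 a2 b1 b2
      refine ⟨i, v, Or.inl rfl, fun a ha => ⟨v, Or.inl rfl, ?_⟩, fun a ha => ⟨v, Or.inl rfl, ?_⟩⟩
      · interval_cases a <;> assumption
      · interval_cases a
        · rw [← h0]; exact v0
        · exact v3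
        · rw [← h1]; exact v2
    · exact absurd hm hm3
    · rw [wJ_four cs hij hm]
      rw [hm] at hy hz h1 ⊢
      have a1 := hy 0 (by norm_num)
      have a2 := hy 1 (by norm_num)
      have a3 := hy 2 (by norm_num)
      have a4 := hy 3 (by norm_num)
      have b1 := hz 0 (by norm_num)
      have b2 := hz 1 (by norm_num)
      have b3 := hz 2 (by norm_num)
      have b4 := hz 3 (by norm_num)
      have e3 : ¬ Even 3 := by decide
      simp [e3] at a1 a2 a3 a4 b1 b2 b3 b4
      rw [← h0] at b1
      rw [← h1] at b4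
      obtain ⟨v, v', ⟨v0, v1, v2, v3, v4⟩, ⟨w0, w1, w2, w3, w4⟩, hvv⟩ :=
        four Δ hth (braid_four cs hm) (length_four cs hij hm) a1 a2 a3 a4 b1 b2 b3 b4
      refine ⟨i, v, Or.inl rfl, fun a ha => ⟨v, Or.inl rfl, ?_⟩, fun a ha => ⟨v', ?_, ?_⟩⟩
      · interval_cases a <;> assumption
      · exact hvv.imp (fun h => h.symm) id
      · interval_cases a
        · rw [← h0]; exact w0
        · exact w1
        · exact w2
        · exact w3
        · rw [← h1]; exact w4

end generic

end Cfsg.Agent.Tits.Generic
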