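import Cfsg.Agent.Tits.Gate
import Cfsg.Agent.Tits.Generic

/-!
Auxiliary facts for the extension theorem (S1143, route E): intersections of parabolic subgroups,
opposite residues, apartments given by two opposite chambers.
-/

set_option autoImplicit false

namespace Cfsg.Agent.Tits.Ext

open Cfsg.Agent.Tits.Core Cfsg.Agent.Tits.Core.Bldg Cfsg.Agent.Tits.Exchange

variable {I : Type*} {M : CoxeterMatrix I} {W : Type*} [Group W] {cs : CoxeterSystem M W}

local prefix:100 "ℓ" => cs.length

section Coxeter

variable [Finite W]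

theorem simple_injective [Finite I] : Function.Injective cs.simple := by
  intro i j h
  by_contra hij
  apply Generic.ne_one cs hij
  rw [h, cs.simple_mul_simple_self]

omit [Finite W] in
theorem mem_of_simple_mem_WJ (hinj : Function.Injective cs.simple) {J : Set I} {i : I}
    (h : cs.simple i ∈ WJ cs J) : i ∈ J := by
  obtain ⟨ω, hω, hred, hp⟩ := exists_reduced_of_mem_WJ cs h
  have h1 := hred.eq
  rw [hp, cs.length_simple] at h1
  obtain ⟨a, rfl⟩ := List.length_eq_one_iff.1 h1.symm
  rw [cs.wordProd_singleton] at hp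
  rw [← hinj hp]
  exact hω a (by simp)

omit [Finite W] in
theorem WJ_inter (hinj : Function.Injective cs.simple) {J K : Set I} {w : W}
    (hJ : w ∈ WJ cs J) (hK : w ∈ WJ cs K) : w ∈ WJ cs (J ∩ K) := by
  obtain ⟨ω, hω, hred, rfl⟩ := exists_reduced_of_mem_WJ cs hK
  clear hK
  induction ω using List.reverseRecOn with
  | nil => rw [cs.wordProd_nil]; exact one_mem _
  | append_singleton ω i ih =>
    have hredω : cs.IsReduced ω := by
      have := hred.take ω.length
      rwa [List.take_left'] at this
      rfl
    have h3 := hred.eq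
    rw [cs.wordProd_append, cs.wordProd_singleton, List.length_append, List.length_singleton] at h3
    have h4 : cs.IsRightInversion (cs.wordProd (ω ++ [i])) (cs.simple i) := by
      refine ⟨cs.isReflection_simple i, ?_⟩
      rw [cs.wordProd_append, cs.wordProd_singleton, cs.simple_mul_simple_cancel_right, h3,
        hredω.eq]
      omega
    have h5 : cs.simple i ∈ WJ cs J :=
      mem_WJ_of_nn cs hJ ((nn_eq_one_iff_isRightInversion cs (cs.isReflection_simple i)).2 h4)
    have hiJ : i ∈ J := mem_of_simple_mem_WJ hinj h5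
    have hiK : i ∈ K := hω i (by simp)
    rw [cs.wordProd_append, cs.wordProd_singleton] at hJ ⊢
    refine mul_mem (ih (fun j hj => hω j (by simp [hj])) hredω ?_) (simple_mem_WJ cs ⟨hiJ, hiK⟩)
    have := mul_mem hJ h5
    rwa [cs.simple_mul_simple_cancel_right] at this

theorem op_image_image (hinj : Function.Injective cs.simple) (J : Set I) :
    op cs '' (op cs '' J) = J := by
  rw [Set.image_image]
  simp [op_op cs hinj]

theorem op_injective (hinj : Function.Injective cs.simple) : Function.Injective (op cs) := by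
  intro i j h
  rw [← op_op cs hinj i, h, op_op cs hinj]

theorem op_image_inter (hinj : Function.Injective cs.simple) (J K : Set I) :
    op cs '' (J ∩ K) = op cs '' J ∩ op cs '' K :=
  Set.image_inter (op_injective hinj)

theorem w0_conj_mem {J : Set I} (hinj : Function.Injective cs.simple) {w : W}
    (hw : w ∈ WJ cs (op cs '' J)) : w0 cs * w * w0 cs ∈ WJ cs J := by
  have := w0_conj_mem_WJ cs hw
  rwa [op_image_image hinj] at this

/-- `conjSet J K` is the set of types with `W_{conjSet J K} = w_J W_K w_J`. -/
def conjSet (cs : CoxeterSystem M W) (J K : Set I) : Set I :=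
  {j | ∃ i ∈ K, cs.simple j = wJ cs J * cs.simple i * wJ cs J}

theorem mem_WJ_conjSet {J K : Set I} (hK : K ⊆ J) {w : W} :
    w ∈ WJ cs (conjSet cs J K) ↔ wJ cs J * w * wJ cs J ∈ WJ cs K := by
  have hL := isLongest_wJ cs J
  have hww : wJ cs J * wJ cs J = 1 := hL.mul_self
  have aux : ∀ a b : W, wJ cs J * (a * b) * wJ cs J =
      (wJ cs J * a * wJ cs J) * (wJ cs J * b * wJ cs J) := by
    intro a b
    calc wJ cs J * (a * b) * wJ cs J = wJ cs J * a * 1 * b * wJ cs J := by group
      _ = _ := by rw [← hww]; group
  have aux2 : ∀ a : W, wJ cs J * (wJ cs J * a * wJ cs J) * wJ cs J = a := by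
    intro a
    calc wJ cs J * (wJ cs J * a * wJ cs J) * wJ cs J =
        (wJ cs J * wJ cs J) * a * (wJ cs J * wJ cs J) := by group
      _ = a := by rw [hww, one_mul, mul_one]
  constructor
  · intro h
    obtain ⟨ω, hω, rfl⟩ := exists_word_of_mem_WJ cs h
    clear h
    induction ω with
    | nil => rw [cs.wordProd_nil, mul_one, hww]; exact one_mem _
    | cons j ω ih =>
      obtain ⟨i, hi, hj⟩ := hω j (by simp)
      rw [cs.wordProd_cons, aux, hj, aux2]
      exact mul_mem (simple_mem_WJ cs hi) (ih fun k hk => hω k (by simp [hk]))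
  · intro h
    obtain ⟨ω, hω, hp⟩ := exists_word_of_mem_WJ cs h
    have hw : w = wJ cs J * cs.wordProd ω * wJ cs J := by rw [hp, aux2]
    clear h hp
    subst hw
    induction ω with
    | nil => rw [cs.wordProd_nil, mul_one, hww]; exact one_mem _
    | cons i ω ih =>
      have hi : i ∈ K := hω i (by simp)
      rw [cs.wordProd_cons, aux]
      refine mul_mem ?_ (ih fun k hk => hω k (by simp [hk]))
      have h1 := (hL.2 _ (simple_mem_WJ cs (hK hi))).2
      have h2 := (hL.2 _ (mul_mem (simple_mem_WJ cs (hK hi)) hL.mem)).1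
      rw [cs.length_simple] at h1
      have h3 : ℓ (wJ cs J * cs.simple i * wJ cs J) = 1 := by rw [mul_assoc]; omega
      obtain ⟨j, hj⟩ := cs.length_eq_one_iff.1 h3
      rw [hj]
      exact simple_mem_WJ cs ⟨i, hi, hj.symm⟩

end Coxeter

end Cfsg.Agent.Tits.Ext
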