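import Cfsg.Agent.Tits.Core
import Cfsg.Agent.LieExceptional.BNPairCore

/-!
The building of a (B,N)-pair: chambers are the cosets of `B`, and `δ (gB) (hB)` is the element `w` of
`W = N / (B ∩ N)` with `g⁻¹ h ∈ B w B`.
-/

set_option autoImplicit false

namespace Cfsg.Agent.Tits.OfBN

open Cfsg Cfsg.Agent.LieExceptional.BNPairCore Cfsg.Agent.Tits.Core

variable {G : Type*} [Group G] (P : Cfsg.BNPair G)

/-- The Weyl group of a (B,N)-pair. -/
abbrev WP : Type _ := P.N ⧸ (P.B ⊓ P.N).subgroupOf P.N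

/-- `B ⊓ N` is normal in `N`. -/
theorem normal_subgroupOf : ((P.B ⊓ P.N).subgroupOf P.N).Normal := by
  constructor
  intro n hn g
  rw [Subgroup.mem_subgroupOf] at hn ⊢
  exact ⟨by simpa using P.conj_mem g g.2 n hn, by simpa using (g * n * g⁻¹).2⟩

/-- The class in `WP P` of the double coset `B g B`. -/
noncomputable def wt (g : G) : WP P :=
  QuotientGroup.mk ⟨(bruhat (P := P) g).choose, (bruhat (P := P) g).choose_spec.1⟩

theorem mk_eq_iff (a b : P.N) :
    (QuotientGroup.mk a : WP P) = QuotientGroup.mk b ↔ (a : G)⁻¹ * b ∈ P.B := by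
  rw [QuotientGroup.eq, Subgroup.mem_subgroupOf]
  constructor
  · intro h; exact h.1
  · intro h; exact ⟨h, (a⁻¹ * b).2⟩

theorem wt_eq_iff (g : G) (n : P.N) : wt P g = QuotientGroup.mk n ↔ g ∈ C P (n : G) := by
  have h1 := (bruhat (P := P) g).choose_spec
  unfold wt
  rw [mk_eq_iff]
  constructor
  · intro h
    rw [← C_eq_of_rel h]
    exact h1.2
  · intro h
    exact rel_of_C_eq h1.1 n.2 (C_eq_of_mem_mem h1.2 h)

theorem wt_of_mem {g : G} {n : P.N} (h : g ∈ C P (n : G)) : wt P g = QuotientGroup.mk n :=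
  (wt_eq_iff P g n).2 h

theorem exists_mem_C (g : G) : ∃ n : P.N, g ∈ C P (n : G) := by
  obtain ⟨n, hn, h⟩ := bruhat (P := P) g
  exact ⟨⟨n, hn⟩, h⟩

theorem mem_C_of_wt {g : G} {n : P.N} (h : wt P g = QuotientGroup.mk n) : g ∈ C P (n : G) :=
  (wt_eq_iff P g n).1 h

theorem wt_mul_right (g : G) {b : G} (hb : b ∈ P.B) : wt P (g * b) = wt P g := by
  obtain ⟨n, hn⟩ := exists_mem_C P g
  rw [wt_of_mem P hn, wt_of_mem P (mul_mem_C_right hb hn)]

theorem wt_mul_left (g : G) {b : G} (hb : b ∈ P.B) : wt P (b * g) = wt P g := by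
  obtain ⟨n, hn⟩ := exists_mem_C P g
  rw [wt_of_mem P hn, wt_of_mem P (mul_mem_C_left hb hn)]

/-- The Weyl distance on `G ⧸ B`. -/
noncomputable def dist (x y : G ⧸ P.B) : WP P := wt P (x.out⁻¹ * y.out)

theorem dist_mk (g h : G) : dist P (QuotientGroup.mk g) (QuotientGroup.mk h) = wt P (g⁻¹ * h) := by
  obtain ⟨b, hb⟩ := QuotientGroup.mk_out_eq_mul P.B g
  obtain ⟨c, hc⟩ := QuotientGroup.mk_out_eq_mul P.B h
  unfold dist
  rw [hb, hc, mul_inv_rev]
  have h1 : (b : G)⁻¹ * g⁻¹ * (h * c) = (b : G)⁻¹ * (g⁻¹ * h) * c := by group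
  rw [h1, wt_mul_right P _ c.2, wt_mul_left P _ (inv_mem b.2)]

theorem dist_smul (g : G) (x y : G ⧸ P.B) : dist P (g • x) (g • y) = dist P x y := by
  induction x using QuotientGroup.induction_on with
  | _ a =>
  induction y using QuotientGroup.induction_on with
  | _ b =>
  have h1 : g • (QuotientGroup.mk a : G ⧸ P.B) = QuotientGroup.mk (g * a) := rfl
  have h2 : g • (QuotientGroup.mk b : G ⧸ P.B) = QuotientGroup.mk (g * b) := rfl
  rw [h1, h2, dist_mk, dist_mk]
  congr 1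
  group

variable {P} in
theorem mem_C_mul_right {n m : P.N} {g h : G} (hg : g ∈ C P (n : G)) (hh : h ∈ C P (m : G))
    (hm : (m : G) ∈ P.S) : g * h ∈ C P ((n : G) * m) ∨ g * h ∈ C P (n : G) := by
  obtain ⟨b₁, hb₁, b₂, hb₂, rfl⟩ := mem_C.1 hg
  obtain ⟨b₃, hb₃, b₄, hb₄, rfl⟩ := mem_C.1 hh
  have h1 : b₁ * (n : G) * b₂ * (b₃ * (m : G) * b₄) = b₁ * ((n : G) * (b₂ * b₃) * (m : G)) * b₄ := by
    group
  rw [h1]
  rcases axiom_right (P := P) hm n.2 (mul_mem hb₂ hb₃) with h | h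
  · exact Or.inl (mul_mem_C_right hb₄ (mul_mem_C_left hb₁ h))
  · exact Or.inr (mul_mem_C_right hb₄ (mul_mem_C_left hb₁ h))

theorem len_inv {n : G} (hn : n ∈ P.N) : len P n⁻¹ = len P n := by
  have key : ∀ m : G, m ∈ P.N → len P m⁻¹ ≤ len P m := by
    intro m hm
    obtain ⟨l, hl, hlS, hrel⟩ := exists_reduced (P := P) hm
    rw [← hl]
    clear hl
    induction l generalizing m with
    | nil =>
      have h1 : m ∈ P.B := by simpa using hrel
      have h2 : len P m⁻¹ = 0 := (len_eq_zero_iff (inv_mem hm)).2 (inv_mem h1)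
      omega
    | cons s l ih =>
      have hs : s ∈ P.S := hlS s (by simp)
      have hlS' : ∀ x ∈ l, x ∈ P.S := fun x hx => hlS x (by simp [hx])
      have h1 := ih l.prod (prod_mem_N hlS') hlS' (by simp [one_mem])
      rw [List.prod_cons] at hrel
      -- `m⁻¹ ~ (s * l.prod)⁻¹ = l.prod⁻¹ * s⁻¹ ~ l.prod⁻¹ * s`
      have h2 : (m⁻¹)⁻¹ * (s * l.prod)⁻¹ ∈ P.B := by
        have h3 : (m⁻¹)⁻¹ * (s * l.prod)⁻¹ = (s * l.prod) * ((s * l.prod)⁻¹ * m) * (s * l.prod)⁻¹ := by
          group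
        rw [h3]
        exact conj_mem' (mul_mem (mem_N hs) (prod_mem_N hlS')) hrel
          (mul_mem (inv_mem (mul_mem (mem_N hs) (prod_mem_N hlS'))) hm)
      have h4 : ((s * l.prod)⁻¹)⁻¹ * (l.prod⁻¹ * s) ∈ P.B := by
        have h5 : ((s * l.prod)⁻¹)⁻¹ * (l.prod⁻¹ * s) = s * s := by group
        rw [h5]
        exact P.sq_mem s hs
      rw [len_congr h2, len_congr h4]
      have h6 := len_mul_right_le (P := P) hs (inv_mem (prod_mem_N hlS'))
      rw [List.length_cons]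
      omega
  have h1 := key n hn
  have h2 := key n⁻¹ (inv_mem hn)
  rw [inv_inv] at h2
  omega

/-- If `len n ≤ len (n s)` then `n B s ⊆ B n s B`. -/
theorem mul_mem_C_of_le_right {s n b : G} (hs : s ∈ P.S) (hn : n ∈ P.N) (hb : b ∈ P.B)
    (h : len P n ≤ len P (n * s)) : n * b * s ∈ C P (n * s) := by
  have hsN := mem_N (P := P) hs
  have h1 : len P n⁻¹ ≤ len P (s * n⁻¹) := by
    rw [len_inv P hn]
    have h2 : len P (s * n⁻¹) = len P (n * s) := by
      rw [← len_inv P (mul_mem hn hsN)]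
      apply len_congr
      have h3 : (s * n⁻¹)⁻¹ * (n * s)⁻¹ = n * (s * s)⁻¹ * n⁻¹ := by group
      rw [h3]
      exact conj_mem' hn (inv_sq_mem hs) (inv_mem (mul_mem hsN hsN))
    rw [h2]
    exact h
  have h4 := mul_mem_C_of_le (P := P) hs (inv_mem hn) (mul_mem (inv_sq_mem hs) (inv_mem hb)) h1
  have h5 := inv_mem_C h4
  have h6 : (s * ((s * s)⁻¹ * b⁻¹) * n⁻¹)⁻¹ = n * b * s := by group
  have h7 : C P (s * n⁻¹)⁻¹ = C P (n * s) := by
    have : (s * n⁻¹)⁻¹ = n * s * (s * s)⁻¹ := by group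
    rw [this, C_mul_right (inv_sq_mem hs)]
  rwa [h6, h7] at h5

section Coxeter

variable [hN : ((P.B ⊓ P.N).subgroupOf P.N).Normal]
variable {I : Type*} {M : CoxeterMatrix I} (e : I ≃ P.S) (cs : CoxeterSystem M (WP P))
  (hcs : ∀ i, cs.simple i = QuotientGroup.mk (⟨(e i : G), P.subset (e i).2⟩ : P.N))

include hcs

theorem wordProd_eq (ω : List I) : cs.wordProd ω =
    QuotientGroup.mk (⟨(ω.map fun i => (e i : G)).prod, prod_mem_N (by
      intro s hs
      obtain ⟨t, _, rfl⟩ := List.mem_map.1 hs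
      exact (e t).2)⟩ : P.N) := by
  induction ω with
  | nil => rfl
  | cons i ω ih =>
    rw [CoxeterSystem.wordProd_cons, ih, hcs, ← QuotientGroup.mk_mul]
    congr 1

theorem length_mk (n : P.N) : cs.length (QuotientGroup.mk n) = len P (n : G) := by
  apply le_antisymm
  · obtain ⟨l, hl, hlS, hrel⟩ := exists_reduced (P := P) n.2
    have hex : ∃ ω : List I, ω.map (fun i => (e i : G)) = l := by
      clear hl hrel
      induction l with
      | nil => exact ⟨[], rfl⟩
      | cons s l ih =>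
        obtain ⟨ω, hω⟩ := ih fun x hx => hlS x (by simp [hx])
        exact ⟨e.symm ⟨s, hlS s (by simp)⟩ :: ω, by simp [hω]⟩
    obtain ⟨ω, rfl⟩ := hex
    have h1 : cs.wordProd ω = QuotientGroup.mk n := by
      rw [wordProd_eq P e cs hcs, mk_eq_iff]
      exact hrel
    rw [← h1, ← hl, List.length_map]
    exact cs.length_wordProd_le ω
  · obtain ⟨ω, hω, h⟩ := cs.exists_isReduced (QuotientGroup.mk n)
    rw [h, hω.eq]
    rw [wordProd_eq P e cs hcs, eq_comm, mk_eq_iff] at h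
    have h1 := len_le (P := P) (n := (n : G)) (l := ω.map fun i => (e i : G)) (by
      intro s hs
      obtain ⟨t, _, rfl⟩ := List.mem_map.1 hs
      exact (e t).2) h
    simpa using h1

/-- The building of a (B,N)-pair. -/
noncomputable def bldg : Bldg cs (G ⧸ P.B) where
  δ := dist P
  eq_one := by
    intro x y
    induction x using QuotientGroup.induction_on with
    | _ a =>
    induction y using QuotientGroup.induction_on with
    | _ b =>
    rw [dist_mk, QuotientGroup.eq]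
    have h1 : (1 : WP P) = QuotientGroup.mk (1 : P.N) := rfl
    rw [h1, wt_eq_iff]
    exact mem_C_one
  symm := by
    intro x y
    induction x using QuotientGroup.induction_on with
    | _ a =>
    induction y using QuotientGroup.induction_on with
    | _ b =>
    rw [dist_mk, dist_mk]
    obtain ⟨n, hn⟩ := exists_mem_C P (a⁻¹ * b)
    rw [wt_of_mem P hn, ← QuotientGroup.mk_inv]
    apply wt_of_mem
    have h1 := inv_mem_C hn
    have h2 : (a⁻¹ * b)⁻¹ = b⁻¹ * a := by group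
    rw [h2] at h1
    exact h1
  step := by
    intro x y z i h
    induction x using QuotientGroup.induction_on with
    | _ a =>
    induction y using QuotientGroup.induction_on with
    | _ b =>
    induction z using QuotientGroup.induction_on with
    | _ c =>
    rw [dist_mk] at h
    rw [dist_mk, dist_mk]
    rw [hcs] at h
    obtain ⟨n, hn⟩ := exists_mem_C P (a⁻¹ * b)
    have h1 := mem_C_mul_right hn (mem_C_of_wt P h) (e i).2
    have h2 : a⁻¹ * b * (b⁻¹ * c) = a⁻¹ * c := by group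
    rw [h2] at h1
    rw [wt_of_mem P hn, hcs, ← QuotientGroup.mk_mul]
    rcases h1 with h1 | h1
    · exact Or.inl (wt_of_mem P (n := n * ⟨(e i : G), P.subset (e i).2⟩) h1)
    · exact Or.inr (wt_of_mem P h1)
  step_lt := by
    intro x y z i h hlt
    induction x using QuotientGroup.induction_on with
    | _ a =>
    induction y using QuotientGroup.induction_on with
    | _ b =>
    induction z using QuotientGroup.induction_on with
    | _ c =>
    rw [dist_mk] at h hlt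
    rw [dist_mk, dist_mk]
    rw [hcs] at h hlt
    obtain ⟨n, hn⟩ := exists_mem_C P (a⁻¹ * b)
    rw [wt_of_mem P hn, ← QuotientGroup.mk_mul, length_mk P e cs hcs, length_mk P e cs hcs] at hlt
    rw [wt_of_mem P hn, hcs, ← QuotientGroup.mk_mul]
    apply wt_of_mem P
    obtain ⟨b₁, hb₁, b₂, hb₂, h1⟩ := mem_C.1 hn
    obtain ⟨b₃, hb₃, b₄, hb₄, h2⟩ := mem_C.1 (mem_C_of_wt P h)
    have h3 : a⁻¹ * c = b₁ * ((n : G) * (b₂ * b₃) * (e i : G)) * b₄ := by
      have : a⁻¹ * c = (a⁻¹ * b) * (b⁻¹ * c) := by group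
      rw [this, h1, h2]
      group
    rw [h3]
    exact mul_mem_C_right hb₄ (mul_mem_C_left hb₁
      (mul_mem_C_of_le_right P (e i).2 n.2 (mul_mem hb₂ hb₃) (le_of_lt hlt)))
  exists_step := by
    intro x y i
    induction x using QuotientGroup.induction_on with
    | _ a =>
    induction y using QuotientGroup.induction_on with
    | _ b =>
    obtain ⟨n, hn⟩ := exists_mem_C P (a⁻¹ * b)
    obtain ⟨b₁, hb₁, b₂, hb₂, h1⟩ := mem_C.1 hn
    refine ⟨QuotientGroup.mk (b * b₂⁻¹ * (e i : G)), ?_, ?_⟩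
    · rw [dist_mk, hcs]
      apply wt_of_mem P
      have : b⁻¹ * (b * b₂⁻¹ * (e i : G)) = b₂⁻¹ * (e i : G) := by group
      rw [this]
      exact mul_mem_C_left (inv_mem hb₂) (self_mem_C _)
    · rw [dist_mk, dist_mk, wt_of_mem P hn, hcs, ← QuotientGroup.mk_mul]
      apply wt_of_mem P
      have : a⁻¹ * (b * b₂⁻¹ * (e i : G)) = b₁ * ((n : G) * (e i : G)) := by
        have h2 : a⁻¹ * (b * b₂⁻¹ * (e i : G)) = (a⁻¹ * b) * b₂⁻¹ * (e i : G) := by group
        rw [h2, h1]
        group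
      rw [this]
      exact mul_mem_C_left hb₁ (self_mem_C _)

theorem bldg_δ (x y : G ⧸ P.B) : (bldg P e cs hcs).δ x y = dist P x y := rfl

theorem bldg_δ_mk (g h : G) :
    (bldg P e cs hcs).δ (QuotientGroup.mk g) (QuotientGroup.mk h) = wt P (g⁻¹ * h) := dist_mk P g h

theorem thick : (bldg P e cs hcs).Thick := by
  intro x i
  induction x using QuotientGroup.induction_on with
  | _ a =>
  obtain ⟨b, hb, h⟩ := exists_mem_C_self (P := P) (e i).2
  refine ⟨QuotientGroup.mk (a * (e i : G)), QuotientGroup.mk (a * ((e i : G) * b * (e i : G))), ?_, ?_, ?_⟩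
  · rw [Ne, QuotientGroup.eq]
    have h1 : (a * (e i : G))⁻¹ * (a * ((e i : G) * b * (e i : G))) = b * (e i : G) := by group
    rw [h1]
    intro h2
    apply not_mem_B (e i).2
    have h3 := mul_mem (inv_mem hb) h2
    rwa [← mul_assoc, inv_mul_cancel, one_mul] at h3
  · rw [bldg_δ_mk, hcs]
    apply wt_of_mem P
    have h1 : a⁻¹ * (a * (e i : G)) = (e i : G) := by group
    rw [h1]
    exact self_mem_C _
  · rw [bldg_δ_mk, hcs]
    apply wt_of_mem P
    have h1 : a⁻¹ * (a * ((e i : G) * b * (e i : G))) = (e i : G) * b * (e i : G) := by group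
    rw [h1]
    exact h

omit hcs hN in
/-- `G` acts by isometries, transitively on pairs of chambers at given distance. -/
theorem trans (x y x' y' : G ⧸ P.B) (h : dist P x y = dist P x' y') :
    ∃ g : G, g • x = x' ∧ g • y = y' := by
  induction x using QuotientGroup.induction_on with
  | _ a =>
  induction y using QuotientGroup.induction_on with
  | _ b =>
  induction x' using QuotientGroup.induction_on with
  | _ a' =>
  induction y' using QuotientGroup.induction_on with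
  | _ b' =>
  rw [dist_mk, dist_mk] at h
  obtain ⟨n, hn⟩ := exists_mem_C P (a⁻¹ * b)
  rw [wt_of_mem P hn] at h
  have hn' := mem_C_of_wt P h.symm
  obtain ⟨b₁, hb₁, b₂, hb₂, h1⟩ := mem_C.1 hn
  obtain ⟨c₁, hc₁, c₂, hc₂, h2⟩ := mem_C.1 hn'
  refine ⟨a' * c₁ * b₁⁻¹ * a⁻¹, ?_, ?_⟩
  · show (QuotientGroup.mk (a' * c₁ * b₁⁻¹ * a⁻¹ * a) : G ⧸ P.B) = QuotientGroup.mk a'
    rw [eq_comm, QuotientGroup.eq]
    have : a'⁻¹ * (a' * c₁ * b₁⁻¹ * a⁻¹ * a) = c₁ * b₁⁻¹ := by group
    rw [this]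
    exact mul_mem hc₁ (inv_mem hb₁)
  · show (QuotientGroup.mk (a' * c₁ * b₁⁻¹ * a⁻¹ * b) : G ⧸ P.B) = QuotientGroup.mk b'
    rw [eq_comm, QuotientGroup.eq]
    have h3 : b'⁻¹ * (a' * c₁ * b₁⁻¹ * a⁻¹ * b) = (a'⁻¹ * b')⁻¹ * c₁ * b₁⁻¹ * (a⁻¹ * b) := by group
    rw [h3, h1, h2]
    have h4 : (c₁ * (n : G) * c₂)⁻¹ * c₁ * b₁⁻¹ * (b₁ * (n : G) * b₂) = c₂⁻¹ * b₂ := by group
    rw [h4]
    exact mul_mem (inv_mem hc₂) hb₂

omit hcs hN in
theorem faithful (hcore : P.B.normalCore = ⊥) : FaithfulSMul G (G ⧸ P.B) := by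
  constructor
  intro g h hgh
  have h1 : h⁻¹ * g ∈ P.B.normalCore := by
    intro b
    have h2 : g • (QuotientGroup.mk b⁻¹ : G ⧸ P.B) = h • QuotientGroup.mk b⁻¹ := hgh _
    have h3 : (QuotientGroup.mk (h * b⁻¹) : G ⧸ P.B) = QuotientGroup.mk (g * b⁻¹) := h2.symm
    rw [QuotientGroup.eq] at h3
    have h4 : (h * b⁻¹)⁻¹ * (g * b⁻¹) = b * (h⁻¹ * g) * b⁻¹ := by group
    rwa [h4] at h3
  rw [hcore, Subgroup.mem_bot, inv_mul_eq_one] at h1
  exact h1.symm

theorem strongAct (hcore : P.B.normalCore = ⊥) : (bldg P e cs hcs).StrongAct G where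
  iso := fun g x y => dist_smul P g x y
  trans := fun x y x' y' h => trans P x y x' y' h
  faithful := faithful P hcore

end Coxeter

/-- A simple group with a (B,N)-pair of positive rank: the core of `B` is trivial. -/
theorem normalCore_eq_bot [IsSimpleGroup G] (h : P.S.Nonempty) : P.B.normalCore = ⊥ := by
  rcases (inferInstance : P.B.normalCore.Normal).eq_bot_or_eq_top with h1 | h1
  · exact h1
  · exfalso
    obtain ⟨s, hs⟩ := h
    apply not_mem_B hs
    have h2 : s ∈ P.B.normalCore := by rw [h1]; exact Subgroup.mem_top s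
    exact Subgroup.normalCore_le P.B h2

/-- Every (B,N)-pair has a type. -/
theorem bnType_mk {I : Type*} {M : CoxeterMatrix I} {e : I ≃ P.S}
    [hN : ((P.B ⊓ P.N).subgroupOf P.N).Normal] (cs : CoxeterSystem M (WP P))
    (hcs : ∀ i, cs.simple i = QuotientGroup.mk (⟨(e i : G), P.subset (e i).2⟩ : P.N)) :
    BNType P M e := ⟨hN, cs, hcs⟩

/-- The building of a (B,N)-pair of type `M`. -/
theorem exists_bldg {I : Type*} {M : CoxeterMatrix I} {e : I ≃ P.S} (h : BNType P M e) :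
    ∃ (_ : ((P.B ⊓ P.N).subgroupOf P.N).Normal) (cs : CoxeterSystem M (WP P)) (Δ : Bldg cs (G ⧸ P.B)),
      (∀ i, cs.simple i = QuotientGroup.mk (⟨(e i : G), P.subset (e i).2⟩ : P.N)) ∧
      (∀ x y, Δ.δ x y = dist P x y) ∧ Δ.Thick ∧ (P.B.normalCore = ⊥ → Δ.StrongAct G) := by
  obtain ⟨hN, cs, hcs⟩ := h
  exact ⟨hN, cs, bldg P e cs hcs, hcs, fun _ _ => rfl, thick P e cs hcs, strongAct P e cs hcs⟩

end Cfsg.Agent.Tits.OfBN
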