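import Mathlib
import Cfsg.Agent.Tits.Core

/-!
Strong exchange condition for an abstract Coxeter system of Mathlib, folding condition, parabolic
subgroups and minimal coset representatives, longest element of a finite (parabolic) Coxeter group.
-/

set_option autoImplicit false
set_option linter.unusedSectionVars false

namespace Cfsg.Agent.Tits.Exchange

open CoxeterSystem List Cfsg.Agent.Tits.Core

variable {B W : Type*} [Group W] {M : CoxeterMatrix B} (cs : CoxeterSystem M W)

local prefix:100 "s" => cs.simple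
local prefix:100 "π" => cs.wordProd
local prefix:100 "ℓ" => cs.length
local prefix:100 "ris" => cs.rightInvSeq

section Rep

open Classical in
/-- indicator of an equality, with values in `ZMod 2` -/
noncomputable def ind (a b : W) : ZMod 2 := if a = b then 1 else 0

theorem ind_of_eq {a b : W} (h : a = b) : ind a b = 1 := by simp [ind, h]

theorem ind_of_ne {a b : W} (h : a ≠ b) : ind a b = 0 := by simp [ind, h]

theorem ind_congr {a b c d : W} (h : a = b ↔ c = d) : ind a b = ind c d := by
  unfold ind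
  by_cases h' : a = b
  · rw [if_pos h', if_pos (h.1 h')]
  · rw [if_neg h', if_neg (fun h'' => h' (h.2 h''))]

/-- the elementary map `(t, e) ↦ (s_i t s_i, e + [t = s_i])` -/
noncomputable def fn (i : B) (x : W × ZMod 2) : W × ZMod 2 :=
  (s i * x.1 * s i, x.2 + ind x.1 (s i))

theorem fn_fn (i : B) (x : W × ZMod 2) : fn cs i (fn cs i x) = x := by
  unfold fn
  have h1 : s i * (s i * x.1 * s i) * s i = x.1 := by
    simp [mul_assoc]
  have h2 : ind (s i * x.1 * s i) (s i) = ind x.1 (s i) := by
    apply ind_congr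
    constructor
    · intro h
      have h3 : s i * (s i * x.1 * s i) * s i = s i * s i * s i := by rw [h]
      rw [h1] at h3
      simpa using h3
    · intro h
      rw [h]
      simp
  ext
  · exact h1
  · show x.2 + ind x.1 (s i) + ind (s i * x.1 * s i) (s i) = x.2
    rw [h2, add_assoc]
    have : ∀ a : ZMod 2, a + a = 0 := by decide
    rw [this, add_zero]

/-- the elementary permutation -/
noncomputable def fp (i : B) : Equiv.Perm (W × ZMod 2) :=
  ⟨fn cs i, fn cs i, fn_fn cs i, fn_fn cs i⟩

theorem fp_apply (i : B) (x : W × ZMod 2) :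
    fp cs i x = (s i * x.1 * s i, x.2 + ind x.1 (s i)) := rfl

theorem conj_aux (i i' : B) (k : ℕ) :
    s i' * (s i * s i') ^ k = ((s i * s i') ^ k)⁻¹ * s i' := by
  have h1 : s i' * (s i * s i') * (s i')⁻¹ = (s i * s i')⁻¹ := by simp [mul_assoc]
  have h2 : s i' * (s i * s i') ^ k * (s i')⁻¹ = ((s i * s i') ^ k)⁻¹ := by
    rw [← conj_pow, h1, inv_pow]
  rw [← h2]
  group

theorem fp_pow (i i' : B) (k : ℕ) (x : W × ZMod 2) :
    ((fp cs i * fp cs i') ^ k) x =
      ((s i * s i') ^ k * x.1 * ((s i * s i') ^ k)⁻¹,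
        x.2 + ∑ j ∈ Finset.range (2 * k), ind x.1 (s i' * (s i * s i') ^ j)) := by
  induction k with
  | zero => simp
  | succ k ih =>
    rw [pow_succ', Equiv.Perm.mul_apply, ih, Equiv.Perm.mul_apply, fp_apply, fp_apply]
    have e1 : 2 * (k + 1) = 2 * k + 1 + 1 := by ring
    rw [e1, Finset.sum_range_succ, Finset.sum_range_succ]
    set a := s i * s i' with ha
    have c1 : ind (a ^ k * x.1 * (a ^ k)⁻¹) (s i') = ind x.1 (s i' * a ^ (2 * k)) := by
      apply ind_congr
      have h1 : s i' * a ^ (2 * k) = (a ^ k)⁻¹ * s i' * a ^ k := by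
        rw [two_mul, pow_add, ← mul_assoc, conj_aux]
      rw [h1]
      constructor
      · intro h
        rw [← h]; group
      · intro h
        rw [h]; group
    have c2 : ind (s i' * (a ^ k * x.1 * (a ^ k)⁻¹) * s i') (s i) =
        ind x.1 (s i' * a ^ (2 * k + 1)) := by
      apply ind_congr
      have h1 : s i' * a ^ (2 * k + 1) = (a ^ k)⁻¹ * (s i' * s i * s i') * a ^ k := by
        have h2 : a ^ (2 * k + 1) = a ^ k * (a * a ^ k) := by
          rw [← pow_succ', ← pow_add]; congr 1; ring
        rw [h2, ← mul_assoc, conj_aux, ha]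
        simp only [mul_assoc]
      rw [h1]
      constructor
      · intro h
        rw [← h]
        have : s i' * (s i' * (a ^ k * x.1 * (a ^ k)⁻¹) * s i') * s i' =
            a ^ k * x.1 * (a ^ k)⁻¹ := by simp [mul_assoc]
        rw [this]; group
      · intro h
        rw [h]
        have : a ^ k * ((a ^ k)⁻¹ * (s i' * s i * s i') * a ^ k) * (a ^ k)⁻¹ =
            s i' * s i * s i' := by group
        rw [this]
        simp [mul_assoc]
    ext
    · show s i * (s i' * (a ^ k * x.1 * (a ^ k)⁻¹) * s i') * s i = _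
      rw [pow_succ', mul_inv_rev]
      have : a⁻¹ = s i' * s i := by rw [ha]; simp
      rw [this, ha]
      simp only [mul_assoc]
    · show _ + ind (a ^ k * x.1 * (a ^ k)⁻¹) (s i') +
        ind (s i' * (a ^ k * x.1 * (a ^ k)⁻¹) * s i') (s i) = _
      rw [c1, c2]
      simp only [add_assoc]

theorem isLiftable : M.IsLiftable (fp cs) := by
  intro i i'
  ext1 x
  rw [fp_pow, simple_mul_simple_pow]
  have key : ∑ j ∈ Finset.range (2 * M i i'), ind x.1 (s i' * (s i * s i') ^ j) = 0 := by
    rw [two_mul, Finset.sum_range_add]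
    have : ∀ j ∈ Finset.range (M i i'),
        ind x.1 (s i' * (s i * s i') ^ (M i i' + j)) = ind x.1 (s i' * (s i * s i') ^ j) := by
      intro j _
      rw [pow_add, simple_mul_simple_pow, one_mul]
    rw [Finset.sum_congr rfl this]
    have h2 : ∀ a : ZMod 2, a + a = 0 := by decide
    exact h2 _
  rw [key]
  simp

/-- The permutation representation on `W × ZMod 2`. -/
noncomputable def eta : W →* Equiv.Perm (W × ZMod 2) := cs.lift ⟨fp cs, isLiftable cs⟩

theorem eta_simple (i : B) : eta cs (s i) = fp cs i := cs.lift_apply_simple (isLiftable cs) i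

/-- The sign cocycle. -/
noncomputable def nn (w t : W) : ZMod 2 := (eta cs w (t, 0)).2

theorem eta_apply (w : W) (x : W × ZMod 2) :
    eta cs w x = (w * x.1 * w⁻¹, x.2 + nn cs w x.1) := by
  induction w using cs.simple_induction_left generalizing x with
  | one => simp [nn]
  | mul_simple_left w i ih =>
    have h1 : ∀ y : W × ZMod 2, eta cs (s i * w) y =
        (s i * (w * y.1 * w⁻¹) * s i, y.2 + nn cs w y.1 + ind (w * y.1 * w⁻¹) (s i)) := by
      intro y
      rw [map_mul, Equiv.Perm.mul_apply, ih, eta_simple, fp_apply]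
    have h2 : nn cs (s i * w) x.1 = nn cs w x.1 + ind (w * x.1 * w⁻¹) (s i) := by
      unfold nn
      rw [h1]
      show (0 : ZMod 2) + nn cs w x.1 + _ = _
      rw [zero_add]
      rfl
    rw [h1, h2]
    ext
    · simp [mul_assoc]
    · simp [add_assoc]

theorem nn_one (t : W) : nn cs 1 t = 0 := by simp [nn]

theorem nn_mul (v w t : W) : nn cs (v * w) t = nn cs w t + nn cs v (w * t * w⁻¹) := by
  have h := eta_apply cs (v * w) (t, 0)
  rw [map_mul, Equiv.Perm.mul_apply, eta_apply cs w, eta_apply cs v] at h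
  have := congrArg Prod.snd h
  simp only [zero_add] at this
  exact this.symm

theorem nn_simple (i : B) (t : W) : nn cs (s i) t = ind t (s i) := by
  unfold nn
  rw [eta_simple, fp_apply]
  simp

theorem nn_simple_self (i : B) : nn cs (s i) (s i) = 1 := by
  rw [nn_simple, ind_of_eq rfl]

theorem nn_self {t : W} (ht : cs.IsReflection t) : nn cs t t = 1 := by
  obtain ⟨w, i, rfl⟩ := ht
  have h1 : nn cs (w * s i * w⁻¹) (w * s i * w⁻¹) =
      nn cs w⁻¹ (w * s i * w⁻¹) + (nn cs (s i) (s i) + nn cs w (s i)) := by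
    rw [nn_mul, nn_mul]
    have e1 : w⁻¹ * (w * s i * w⁻¹) * w⁻¹⁻¹ = s i := by group
    rw [e1]
    have e2 : s i * s i * (s i)⁻¹ = s i := by simp
    rw [e2]
  have h2 : nn cs w⁻¹ (w * s i * w⁻¹) + nn cs w (s i) = 0 := by
    have := nn_mul cs w w⁻¹ (w * s i * w⁻¹)
    have e1 : w⁻¹ * (w * s i * w⁻¹) * w⁻¹⁻¹ = s i := by group
    rw [e1, mul_inv_cancel, nn_one] at this
    exact this.symm
  rw [h1, nn_simple_self]
  have h3 : nn cs w⁻¹ (w * s i * w⁻¹) + (1 + nn cs w (s i)) =
      1 + (nn cs w⁻¹ (w * s i * w⁻¹) + nn cs w (s i)) := by ring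
  rw [h3, h2, add_zero]

open Classical in
theorem nn_wordProd (ω : List B) (t : W) : nn cs (π ω) t = ((ris ω).count t : ℕ) := by
  induction ω with
  | nil => simp [nn_one]
  | cons i ω ih =>
    rw [wordProd_cons, nn_mul, ih, nn_simple, rightInvSeq, List.count_cons]
    have : ind (π ω * t * (π ω)⁻¹) (s i) =
        (if ((π ω)⁻¹ * s i * π ω == t) = true then (1 : ZMod 2) else 0) := by
      unfold ind
      congr 1
      rw [beq_iff_eq, eq_iff_iff]
      constructor
      · intro h
        rw [← h]; group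
      · intro h
        rw [← h]; group
    rw [this]
    push_cast
    rfl

theorem mem_ris_of_nn {ω : List B} {t : W} (h : nn cs (π ω) t = 1) : t ∈ ris ω := by
  classical
  by_contra hn
  rw [nn_wordProd, List.count_eq_zero.2 hn] at h
  simp at h

theorem nn_eq_one_iff {w t : W} (ht : cs.IsReflection t) :
    nn cs w t = 1 ↔ ℓ (w * t) < ℓ w := by
  have one : ∀ w : W, nn cs w t = 1 → ℓ (w * t) < ℓ w := by
    intro w h
    obtain ⟨ω, hω, rfl⟩ := cs.exists_isReduced w
    exact (cs.isRightInversion_of_mem_rightInvSeq hω (mem_ris_of_nn cs h)).2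
  refine ⟨one w, fun h => ?_⟩
  by_contra hne
  have h0 : nn cs w t = 0 := by
    have : ∀ a : ZMod 2, a ≠ 1 → a = 0 := by decide
    exact this _ hne
  have h1 : nn cs (w * t) t = 1 := by
    rw [nn_mul, nn_self cs ht]
    have : t * t * t⁻¹ = t := by group
    rw [this, h0, add_zero]
  have h2 := one (w * t) h1
  rw [mul_assoc, ht.mul_self, mul_one] at h2
  exact absurd h (not_lt.2 h2.le)

theorem nn_eq_one_iff_isRightInversion {w t : W} (ht : cs.IsReflection t) :
    nn cs w t = 1 ↔ cs.IsRightInversion w t := by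
  rw [nn_eq_one_iff cs ht]
  exact ⟨fun h => ⟨ht, h⟩, fun h => h.2⟩

end Rep

/-! ### Exchange -/

/-- Strong exchange condition (right version): the word need not be reduced. -/
theorem strong_exchange_right {ω : List B} {t : W} (ht : cs.IsReflection t)
    (h : ℓ (π ω * t) < ℓ (π ω)) : ∃ j < ω.length, π ω * t = π (ω.eraseIdx j) := by
  have h1 : t ∈ ris ω := mem_ris_of_nn cs ((nn_eq_one_iff cs ht).2 h)
  obtain ⟨j, hj, rfl⟩ := List.mem_iff_getElem.mp h1
  rw [cs.length_rightInvSeq] at hj
  refine ⟨j, hj, ?_⟩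
  rw [← cs.wordProd_mul_getD_rightInvSeq, List.getD_eq_getElem]

/-- Exchange condition (right version): the word need not be reduced. -/
theorem exchange_right {ω : List B} {i : B} (h : ℓ (π ω * s i) < ℓ (π ω)) :
    ∃ j < ω.length, π ω * s i = π (ω.eraseIdx j) :=
  strong_exchange_right cs (cs.isReflection_simple i) h

/-- Strong exchange condition (left version): the word need not be reduced. -/
theorem strong_exchange_left {ω : List B} {t : W} (ht : cs.IsReflection t)
    (h : ℓ (t * π ω) < ℓ (π ω)) : ∃ j < ω.length, t * π ω = π (ω.eraseIdx j) := by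
  have h1 : ℓ (π ω.reverse * t) < ℓ (π ω.reverse) := by
    rw [wordProd_reverse, length_inv]
    have : (π ω)⁻¹ * t = (t * π ω)⁻¹ := by rw [mul_inv_rev, ht.inv]
    rw [this, length_inv]
    exact h
  obtain ⟨j, hj, h2⟩ := strong_exchange_right cs ht h1
  rw [List.length_reverse] at hj
  refine ⟨ω.length - 1 - j, by omega, ?_⟩
  have h3 : (π ω.reverse * t)⁻¹ = t * π ω := by
    rw [mul_inv_rev, ht.inv, wordProd_reverse, inv_inv]
  rw [← h3, h2, ← wordProd_reverse]
  congr 1
  rw [List.eraseIdx_eq_take_drop_succ, List.eraseIdx_eq_take_drop_succ, List.reverse_append,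
    List.drop_reverse, List.take_reverse, List.reverse_reverse, List.reverse_reverse]
  have e1 : ω.length - (j + 1) = ω.length - 1 - j := by omega
  have e2 : ω.length - j = ω.length - 1 - j + 1 := by omega
  rw [e1, e2]

/-- Exchange condition (left version): the word need not be reduced. -/
theorem exchange_left {ω : List B} {i : B} (h : ℓ (s i * π ω) < ℓ (π ω)) :
    ∃ j < ω.length, s i * π ω = π (ω.eraseIdx j) :=
  strong_exchange_left cs (cs.isReflection_simple i) h

/-- Folding condition. -/
theorem fold {w : W} {i j : B} (hi : ℓ (s i * w) = ℓ w + 1) (hj : ℓ (w * s j) = ℓ w + 1) :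
    ℓ (s i * w * s j) = ℓ w + 2 ∨ s i * w = w * s j := by
  rcases cs.length_mul_simple (s i * w) j with h | h
  · left; rw [h, hi]
  · right
    obtain ⟨ω, hω, rfl⟩ := cs.exists_isReduced w
    have h1 : ℓ (π (i :: ω) * s j) < ℓ (π (i :: ω)) := by
      rw [wordProd_cons]; omega
    obtain ⟨k, hk, h2⟩ := exchange_right cs h1
    rw [wordProd_cons] at h2
    rcases k with _ | k
    · simp only [List.eraseIdx_cons_zero] at h2
      have h3 : s i * π ω * s j * s j = π ω * s j := by rw [h2]
      rwa [simple_mul_simple_cancel_right] at h3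
    · exfalso
      simp only [List.eraseIdx_cons_succ, wordProd_cons] at h2
      have h3 : π ω * s j = π (ω.eraseIdx k) := by
        have := congrArg (fun x => s i * x) h2
        simpa [mul_assoc] using this
      have h4 := cs.length_wordProd_le (ω.eraseIdx k)
      rw [← h3, hj, hω.eq] at h4
      have h5 : k < ω.length := by simpa using hk
      have h6 := List.length_eraseIdx_add_one h5
      omega

/-- Deletion: every word contains a reduced subword with the same product. -/
theorem exists_reduced_sublist (ω : List B) :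
    ∃ ω' : List B, ω'.Sublist ω ∧ cs.IsReduced ω' ∧ π ω' = π ω := by
  induction ω with
  | nil => exact ⟨[], List.Sublist.refl _, by simp [CoxeterSystem.IsReduced], rfl⟩
  | cons i ω ih =>
    obtain ⟨ω', hsub, hred, hprod⟩ := ih
    rcases cs.length_simple_mul (π ω') i with h | h
    · refine ⟨i :: ω', hsub.cons_cons i, ?_, by rw [wordProd_cons, wordProd_cons, hprod]⟩
      unfold CoxeterSystem.IsReduced
      rw [wordProd_cons, h, hred.eq, List.length_cons]
    · obtain ⟨j, hj, h2⟩ := exchange_left cs (ω := ω') (i := i) (by omega)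
      refine ⟨ω'.eraseIdx j, ((List.eraseIdx_sublist ω' j).trans hsub).cons i, ?_,
        by rw [wordProd_cons, ← hprod, h2]⟩
      unfold CoxeterSystem.IsReduced
      rw [← h2]
      have h3 := List.length_eraseIdx_add_one hj
      have h4 := hred.eq
      omega

/-! ### Inversions and length -/

theorem setOf_nn_eq {ω : List B} (hω : cs.IsReduced ω) :
    {t : W | nn cs (π ω) t = 1} = {t | t ∈ ris ω} := by
  classical
  ext t
  refine ⟨fun h => mem_ris_of_nn cs h, fun h => ?_⟩
  exact (nn_eq_one_iff_isRightInversion cs (cs.isReflection_of_mem_rightInvSeq ω h)).2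
    (cs.isRightInversion_of_mem_rightInvSeq hω h)

theorem finite_nn (w : W) : {t : W | nn cs w t = 1}.Finite := by
  classical
  obtain ⟨ω, hω, rfl⟩ := cs.exists_isReduced w
  rw [setOf_nn_eq cs hω]
  exact List.finite_toSet _

theorem ncard_nn (w : W) : {t : W | nn cs w t = 1}.ncard = ℓ w := by
  classical
  obtain ⟨ω, hω, rfl⟩ := cs.exists_isReduced w
  rw [setOf_nn_eq cs hω]
  have h1 : {t | t ∈ ris ω} = (((ris ω).toFinset : Finset W) : Set W) := by
    ext t; simp
  rw [h1, Set.ncard_coe_finset, List.toFinset_card_of_nodup hω.nodup_rightInvSeq,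
    cs.length_rightInvSeq, hω.eq]

theorem isReflection_of_nn {w t : W} (h : nn cs w t = 1) : cs.IsReflection t := by
  obtain ⟨ω, hω, rfl⟩ := cs.exists_isReduced w
  exact cs.isReflection_of_mem_rightInvSeq ω (mem_ris_of_nn cs h)

/-! ### Parabolic subgroups -/

theorem simple_mem_WJ {J : Set B} {i : B} (hi : i ∈ J) : s i ∈ WJ cs J :=
  Subgroup.subset_closure ⟨i, hi, rfl⟩

theorem WJ_mono {J K : Set B} (h : J ⊆ K) : WJ cs J ≤ WJ cs K :=
  Subgroup.closure_mono (Set.image_mono h)

theorem WJ_univ : WJ cs Set.univ = ⊤ := by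
  unfold WJ
  rw [Set.image_univ, cs.subgroup_closure_range_simple]

theorem wordProd_mem_WJ {J : Set B} {ω : List B} (h : ∀ i ∈ ω, i ∈ J) : π ω ∈ WJ cs J := by
  induction ω with
  | nil => simp [one_mem]
  | cons i ω ih =>
    rw [wordProd_cons]
    exact mul_mem (simple_mem_WJ cs (h i (by simp))) (ih fun j hj => h j (by simp [hj]))

theorem exists_word_of_mem_WJ {J : Set B} {w : W} (h : w ∈ WJ cs J) :
    ∃ ω : List B, (∀ i ∈ ω, i ∈ J) ∧ π ω = w := by
  unfold WJ at h
  induction h using Subgroup.closure_induction with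
  | mem x hx =>
    obtain ⟨i, hi, rfl⟩ := hx
    exact ⟨[i], by simpa using hi, by simp⟩
  | one => exact ⟨[], by simp, by simp⟩
  | mul x y _ _ hx hy =>
    obtain ⟨α, hα, rfl⟩ := hx
    obtain ⟨β, hβ, rfl⟩ := hy
    refine ⟨α ++ β, ?_, wordProd_append cs α β⟩
    intro i hi
    rcases List.mem_append.1 hi with hi | hi
    · exact hα i hi
    · exact hβ i hi
  | inv x _ hx =>
    obtain ⟨α, hα, rfl⟩ := hx
    exact ⟨α.reverse, fun i hi => hα i (List.mem_reverse.1 hi), wordProd_reverse cs α⟩

/-- An element of `W_J` has a reduced word with letters in `J`. -/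
theorem exists_reduced_of_mem_WJ {J : Set B} {w : W} (h : w ∈ WJ cs J) :
    ∃ ω : List B, (∀ i ∈ ω, i ∈ J) ∧ cs.IsReduced ω ∧ π ω = w := by
  obtain ⟨ω, hω, rfl⟩ := exists_word_of_mem_WJ cs h
  obtain ⟨ω', hsub, hred, hp⟩ := exists_reduced_sublist cs ω
  exact ⟨ω', fun i hi => hω i (hsub.subset hi), hred, hp⟩

theorem ris_mem_WJ {J : Set B} {ω : List B} (h : ∀ i ∈ ω, i ∈ J) {t : W} (ht : t ∈ ris ω) :
    t ∈ WJ cs J := by
  induction ω with
  | nil => simp at ht
  | cons i ω ih =>
    rw [rightInvSeq, List.mem_cons] at ht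
    rcases ht with rfl | ht
    · have h1 := wordProd_mem_WJ cs (J := J) (ω := ω) fun j hj => h j (by simp [hj])
      exact mul_mem (mul_mem (inv_mem h1) (simple_mem_WJ cs (h i (by simp)))) h1
    · exact ih (fun j hj => h j (by simp [hj])) ht

theorem mem_WJ_of_nn {J : Set B} {w t : W} (hw : w ∈ WJ cs J) (h : nn cs w t = 1) :
    t ∈ WJ cs J := by
  obtain ⟨ω, hω, hred, rfl⟩ := exists_reduced_of_mem_WJ cs hw
  exact ris_mem_WJ cs hω (mem_ris_of_nn cs h)

/-! ### Longest elements -/

theorem isLongest_of_max {J : Set B} {w : W} (hw : w ∈ WJ cs J)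
    (hmax : ∀ v ∈ WJ cs J, ℓ v ≤ ℓ w) : IsLongest cs J w := by
  classical
  have hT : {t : W | nn cs w t = 1} = {t | cs.IsReflection t ∧ t ∈ WJ cs J} := by
    ext t
    refine ⟨fun h => ⟨isReflection_of_nn cs h, mem_WJ_of_nn cs hw h⟩, fun h => ?_⟩
    refine (nn_eq_one_iff cs h.1).2 ?_
    exact lt_of_le_of_ne (hmax _ (mul_mem hw h.2)) (h.1.length_mul_left_ne w)
  have key : ∀ v ∈ WJ cs J, ℓ (v * w) + ℓ v = ℓ w := by
    intro v hv
    rw [← ncard_nn cs (v * w), ← ncard_nn cs v, ← ncard_nn cs w]
    have h1 : {t : W | nn cs v t = 1}.ncard = {t : W | nn cs v (w * t * w⁻¹) = 1}.ncard := by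
      have h2 : {t : W | nn cs v (w * t * w⁻¹) = 1} =
          (fun t => w⁻¹ * t * w) '' {t : W | nn cs v t = 1} := by
        ext t
        constructor
        · intro h
          exact ⟨w * t * w⁻¹, h, by group⟩
        · rintro ⟨u, hu, rfl⟩
          show nn cs v (w * (w⁻¹ * u * w) * w⁻¹) = 1
          have : w * (w⁻¹ * u * w) * w⁻¹ = u := by group
          rw [this]; exact hu
      rw [h2, Set.ncard_image_of_injective]
      intro a b hab
      have : w * (w⁻¹ * a * w) * w⁻¹ = w * (w⁻¹ * b * w) * w⁻¹ := by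
        simp only at hab
        rw [hab]
      simpa [mul_assoc] using this
    rw [h1]
    have h3 : {t : W | nn cs (v * w) t = 1} = {t : W | nn cs w t = 1} \
        {t : W | nn cs v (w * t * w⁻¹) = 1} := by
      ext t
      rw [Set.mem_sdiff]
      constructor
      · intro h
        change nn cs (v * w) t = 1 at h
        have ht : nn cs w t = 1 := by
          have : t ∈ {t | cs.IsReflection t ∧ t ∈ WJ cs J} :=
            ⟨isReflection_of_nn cs h, mem_WJ_of_nn cs (mul_mem hv hw) h⟩
          rw [← hT] at this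
          exact this
        refine ⟨ht, fun h' => ?_⟩
        change nn cs v (w * t * w⁻¹) = 1 at h'
        rw [nn_mul, ht, h'] at h
        exact absurd h (by decide)
      · rintro ⟨ht, h'⟩
        change nn cs w t = 1 at ht
        show nn cs (v * w) t = 1
        have h0 : nn cs v (w * t * w⁻¹) = 0 := by
          have : ∀ a : ZMod 2, a ≠ 1 → a = 0 := by decide
          exact this _ h'
        rw [nn_mul, ht, h0, add_zero]
    have h4 : {t : W | nn cs v (w * t * w⁻¹) = 1} ⊆ {t : W | nn cs w t = 1} := by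
      intro t h
      rw [hT]
      have hr := isReflection_of_nn cs h
      have hm := mem_WJ_of_nn cs hv h
      constructor
      · exact (cs.isReflection_conj_iff w t).1 hr
      · have := mul_mem (mul_mem (inv_mem hw) hm) hw
        have e : w⁻¹ * (w * t * w⁻¹) * w = t := by group
        rwa [e] at this
    rw [h3]
    exact Set.ncard_sdiff_add_ncard_of_subset h4 (finite_nn cs w)
  have hww : w * w = 1 := by
    have := key w hw
    exact cs.length_eq_zero_iff.1 (by omega)
  have hinv : w⁻¹ = w := inv_eq_of_mul_eq_one_left hww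
  refine ⟨hw, fun v hv => ⟨?_, key v hv⟩⟩
  have h1 := key v⁻¹ (inv_mem hv)
  have h2 : (w * v)⁻¹ = v⁻¹ * w := by rw [mul_inv_rev, hinv]
  rw [← cs.length_inv (w * v), h2, ← cs.length_inv v]
  exact h1

theorem exists_isLongest (J : Set B) [Finite (WJ cs J)] : ∃ w, IsLongest cs J w := by
  obtain ⟨w, hw⟩ := Finite.exists_max (fun v : WJ cs J => ℓ (v : W))
  exact ⟨w, isLongest_of_max cs w.2 fun v hv => hw ⟨v, hv⟩⟩

theorem isLongest_wJ (J : Set B) [Finite (WJ cs J)] : IsLongest cs J (wJ cs J) := by
  unfold wJ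
  rw [dif_pos (exists_isLongest cs J)]
  exact (exists_isLongest cs J).choose_spec

section Longest

variable {cs}
variable {J : Set B} {w w' : W}

theorem _root_.Cfsg.Agent.Tits.Core.IsLongest.mem (h : IsLongest cs J w) : w ∈ WJ cs J := h.1

theorem _root_.Cfsg.Agent.Tits.Core.IsLongest.mul_self (h : IsLongest cs J w) : w * w = 1 := by
  have := (h.2 w h.1).1
  exact cs.length_eq_zero_iff.1 (by omega)

theorem _root_.Cfsg.Agent.Tits.Core.IsLongest.inv_eq (h : IsLongest cs J w) : w⁻¹ = w :=
  inv_eq_of_mul_eq_one_left h.mul_self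

theorem _root_.Cfsg.Agent.Tits.Core.IsLongest.unique (h : IsLongest cs J w)
    (h' : IsLongest cs J w') : w = w' := by
  have h1 := (h.2 w' h'.1).1
  have h2 := (h'.2 w h.1).1
  have h3 : w * w' = 1 := cs.length_eq_zero_iff.1 (by
    have := cs.length_inv (w * w')
    rw [mul_inv_rev, h.inv_eq, h'.inv_eq] at this
    omega)
  rw [← inv_eq_of_mul_eq_one_right h3, h.inv_eq]

theorem _root_.Cfsg.Agent.Tits.Core.IsLongest.eq_wJ (h : IsLongest cs J w) : w = wJ cs J := by
  have h1 : ∃ w, IsLongest cs J w := ⟨w, h⟩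
  have h2 : IsLongest cs J (wJ cs J) := by
    unfold wJ
    rw [dif_pos h1]
    exact h1.choose_spec
  exact h.unique h2

theorem _root_.Cfsg.Agent.Tits.Core.IsLongest.length_le (h : IsLongest cs J w) {v : W}
    (hv : v ∈ WJ cs J) : ℓ v ≤ ℓ w := by
  have := (h.2 v hv).1
  omega

/-- an element of `W_J` of maximal length is the longest element -/
theorem _root_.Cfsg.Agent.Tits.Core.IsLongest.eq_of_length (h : IsLongest cs J w) {v : W}
    (hv : v ∈ WJ cs J) (hl : ℓ w ≤ ℓ v) : v = w := by
  have h1 := (h.2 v hv).1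
  have h2 : w * v = 1 := cs.length_eq_zero_iff.1 (by omega)
  rw [← inv_eq_of_mul_eq_one_right h2, h.inv_eq]

end Longest

section W0

variable [Finite W]

theorem isLongest_w0 : IsLongest cs Set.univ (w0 cs) := isLongest_wJ cs Set.univ

theorem mem_WJ_univ (w : W) : w ∈ WJ cs Set.univ := by rw [WJ_univ]; exact Subgroup.mem_top w

theorem w0_mul_self : w0 cs * w0 cs = 1 := (isLongest_w0 cs).mul_self

theorem w0_inv : (w0 cs)⁻¹ = w0 cs := (isLongest_w0 cs).inv_eq

theorem length_w0_mul (w : W) : ℓ (w0 cs * w) + ℓ w = ℓ (w0 cs) :=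
  ((isLongest_w0 cs).2 w (mem_WJ_univ cs w)).1

theorem length_mul_w0 (w : W) : ℓ (w * w0 cs) + ℓ w = ℓ (w0 cs) :=
  ((isLongest_w0 cs).2 w (mem_WJ_univ cs w)).2

theorem length_le_w0 (w : W) : ℓ w ≤ ℓ (w0 cs) := by
  have := length_w0_mul cs w; omega

theorem eq_w0_of_length {w : W} (h : ℓ (w0 cs) ≤ ℓ w) : w = w0 cs :=
  (isLongest_w0 cs).eq_of_length (mem_WJ_univ cs w) h

theorem length_w0_conj (w : W) : ℓ (w0 cs * w * w0 cs) = ℓ w := by
  have h1 := length_mul_w0 cs (w0 cs * w)
  have h2 := length_w0_mul cs w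
  omega

theorem exists_op (i : B) : ∃ j, s j = w0 cs * s i * w0 cs := by
  have h : ℓ (w0 cs * s i * w0 cs) = 1 := by rw [length_w0_conj, cs.length_simple]
  obtain ⟨j, hj⟩ := cs.length_eq_one_iff.1 h
  exact ⟨j, hj.symm⟩

theorem simple_op (i : B) : s (op cs i) = w0 cs * s i * w0 cs := by
  unfold op
  rw [dif_pos (exists_op cs i)]
  exact (exists_op cs i).choose_spec

theorem w0_mul_simple_op (i : B) : w0 cs * s (op cs i) = s i * w0 cs := by
  rw [simple_op, ← mul_assoc, ← mul_assoc, w0_mul_self, one_mul]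

theorem simple_op_mul_w0 (i : B) : s (op cs i) * w0 cs = w0 cs * s i := by
  rw [simple_op, mul_assoc, w0_mul_self, mul_one]

theorem simple_op_op (i : B) : s (op cs (op cs i)) = s i := by
  rw [simple_op, simple_op]
  have h : w0 cs * (w0 cs * s i * w0 cs) * w0 cs = (w0 cs * w0 cs) * s i * (w0 cs * w0 cs) := by
    simp only [mul_assoc]
  rw [h, w0_mul_self, one_mul, mul_one]

theorem op_op (hinj : Function.Injective cs.simple) (i : B) : op cs (op cs i) = i :=
  hinj (simple_op_op cs i)

theorem w0_conj_mem_WJ {J : Set B} {w : W} (hw : w ∈ WJ cs J) :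
    w0 cs * w * w0 cs ∈ WJ cs (op cs '' J) := by
  obtain ⟨ω, hω, rfl⟩ := exists_word_of_mem_WJ cs hw
  clear hw
  induction ω with
  | nil => simp [w0_mul_self, one_mem]
  | cons i ω ih =>
    rw [wordProd_cons]
    have h : w0 cs * (s i * π ω) * w0 cs = (w0 cs * s i * w0 cs) * (w0 cs * π ω * w0 cs) := by
      have : (w0 cs * s i * w0 cs) * (w0 cs * π ω * w0 cs) =
          w0 cs * s i * (w0 cs * w0 cs) * (π ω * w0 cs) := by simp only [mul_assoc]
      rw [this, w0_mul_self, mul_one]
      simp only [mul_assoc]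
    rw [h, ← simple_op]
    exact mul_mem (simple_mem_WJ cs ⟨i, hω i (by simp), rfl⟩)
      (ih fun j hj => hω j (by simp [hj]))

end W0

/-! ### Minimal coset representatives -/

/-- `v` is minimal in `v W_J` : lengths add -/
def IsMinR (J : Set B) (v : W) : Prop := ∀ u ∈ WJ cs J, ℓ (v * u) = ℓ v + ℓ u

/-- `v` is minimal in `W_J v` : lengths add -/
def IsMinL (J : Set B) (v : W) : Prop := ∀ u ∈ WJ cs J, ℓ (u * v) = ℓ u + ℓ v

theorem isMinR_inv_iff {J : Set B} {v : W} : IsMinR cs J v⁻¹ ↔ IsMinL cs J v := by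
  constructor
  · intro h u hu
    have := h u⁻¹ (inv_mem hu)
    rw [← mul_inv_rev, cs.length_inv, cs.length_inv, cs.length_inv] at this
    omega
  · intro h u hu
    have := h u⁻¹ (inv_mem hu)
    rw [← cs.length_inv (v⁻¹ * u), mul_inv_rev, inv_inv, this, cs.length_inv, cs.length_inv]
    omega

theorem isMinL_inv_iff {J : Set B} {v : W} : IsMinL cs J v⁻¹ ↔ IsMinR cs J v := by
  rw [← isMinR_inv_iff, inv_inv]

theorem isMinL_of_min {J : Set B} {v : W} (hv : ∀ u ∈ WJ cs J, ℓ v ≤ ℓ (u * v)) :
    IsMinL cs J v := by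
  intro u hu
  obtain ⟨ω, hω, hred, rfl⟩ := exists_reduced_of_mem_WJ cs hu
  obtain ⟨β, hβ, rfl⟩ := cs.exists_isReduced v
  clear hu
  induction ω with
  | nil => simp
  | cons i ω ih =>
    have hredω : cs.IsReduced ω := by
      have := hred.drop 1
      simpa using this
    have ih' := ih (fun j hj => hω j (by simp [hj])) hredω
    have hi : ℓ (s i * π ω) = ℓ (π ω) + 1 := by
      have := hred.eq
      rw [wordProd_cons] at this
      rw [this, hredω.eq, List.length_cons]
    rw [wordProd_cons, mul_assoc, hi]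
    rcases cs.length_simple_mul (π ω * π β) i with h | h
    · rw [h, ih']; omega
    · exfalso
      have h1 : ℓ (s i * π (ω ++ β)) < ℓ (π (ω ++ β)) := by
        rw [wordProd_append]; omega
      obtain ⟨k, hk, h2⟩ := exchange_left cs h1
      rw [wordProd_append] at h2
      by_cases hkω : k < ω.length
      · rw [List.eraseIdx_append_of_lt_length hkω, wordProd_append] at h2
        have h3 : s i * π ω = π (ω.eraseIdx k) := by
          rw [← mul_assoc] at h2
          exact mul_right_cancel h2
        have h4 := cs.length_wordProd_le (ω.eraseIdx k)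
        have h5 := List.length_eraseIdx_add_one hkω
        rw [← h3, hi, hredω.eq] at h4
        omega
      · rw [List.eraseIdx_append_of_length_le (by omega), wordProd_append] at h2
        set k' := k - ω.length with hk'
        have hk'' : k' < β.length := by
          rw [List.length_append] at hk; omega
        have h3 : π (β.eraseIdx k') = ((π ω)⁻¹ * s i * π ω) * π β := by
          have e1 : π (β.eraseIdx k') = (π ω)⁻¹ * (π ω * π (β.eraseIdx k')) := by group
          rw [e1, ← h2]
          simp only [mul_assoc]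
        have h4 : (π ω)⁻¹ * s i * π ω ∈ WJ cs J := by
          have h5 := wordProd_mem_WJ cs (J := J) (ω := ω) fun j hj => hω j (by simp [hj])
          exact mul_mem (mul_mem (inv_mem h5) (simple_mem_WJ cs (hω i (by simp)))) h5
        have h5 := hv _ h4
        rw [← h3] at h5
        have h6 := cs.length_wordProd_le (β.eraseIdx k')
        have h7 := List.length_eraseIdx_add_one hk''
        have h8 := hβ.eq
        omega

theorem isMinL_of_forall {J : Set B} {v : W} (hv : ∀ i ∈ J, ℓ v < ℓ (s i * v)) :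
    IsMinL cs J v := by
  -- compare with the minimal representative
  classical
  have hne : ∃ n, ∃ u ∈ WJ cs J, ℓ (u * v) = n := ⟨_, 1, one_mem _, rfl⟩
  obtain ⟨u, hu, hlen⟩ := Nat.find_spec hne
  have hmin : ∀ x ∈ WJ cs J, ℓ (u * v) ≤ ℓ (x * (u * v)) := by
    intro x hx
    rw [hlen]
    exact Nat.find_min' hne ⟨x * u, mul_mem hx hu, by rw [mul_assoc]⟩
  have hM := isMinL_of_min cs hmin
  by_cases h1 : u = 1
  · rw [h1, one_mul] at hM; exact hM
  · exfalso
    obtain ⟨ω, hω, hred, hp⟩ := exists_reduced_of_mem_WJ cs (inv_mem hu)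
    cases ω with
    | nil =>
      apply h1
      rw [wordProd_nil] at hp
      exact inv_eq_one.1 hp.symm
    | cons i ω =>
      have hi : i ∈ J := hω i (by simp)
      have h2 := hM u⁻¹ (inv_mem hu)
      have h3 : u⁻¹ * (u * v) = v := by group
      rw [h3] at h2
      have h4 := hM (π ω) (wordProd_mem_WJ cs fun j hj => hω j (by simp [hj]))
      have h5 : π ω = s i * u⁻¹ := by
        rw [← hp, wordProd_cons]; simp
      have h6 : s i * u⁻¹ * (u * v) = s i * v := by group
      rw [h5, h6, ← h5] at h4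
      have h7 : ℓ (π ω) + 1 = ℓ u⁻¹ := by
        have e1 := hred.eq
        rw [hp] at e1
        have e2 : cs.IsReduced ω := by
          have := hred.drop 1
          simpa using this
        rw [e1, e2.eq, List.length_cons]
      have h8 := hv i hi
      omega

theorem isMinL_iff {J : Set B} {v : W} : IsMinL cs J v ↔ ∀ i ∈ J, ℓ v < ℓ (s i * v) := by
  refine ⟨fun h i hi => ?_, isMinL_of_forall cs⟩
  rw [h _ (simple_mem_WJ cs hi), cs.length_simple]
  omega

theorem isMinR_iff {J : Set B} {v : W} : IsMinR cs J v ↔ ∀ i ∈ J, ℓ v < ℓ (v * s i) := by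
  rw [← isMinL_inv_iff, isMinL_iff]
  refine forall₂_congr fun i _ => ?_
  rw [← cs.length_inv (v * s i), mul_inv_rev, inv_simple, cs.length_inv]

theorem isMinL_one (J : Set B) : IsMinL cs J 1 := fun u _ => by
  rw [mul_one, cs.length_one, add_zero]

theorem isMinR_one (J : Set B) : IsMinR cs J 1 := fun u _ => by
  rw [one_mul, cs.length_one, zero_add]

theorem exists_isMinL (J : Set B) (w : W) :
    ∃ u ∈ WJ cs J, ∃ v, w = u * v ∧ IsMinL cs J v := by
  classical
  have hne : ∃ n, ∃ u ∈ WJ cs J, ℓ (u * w) = n := ⟨_, 1, one_mem _, rfl⟩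
  obtain ⟨u, hu, hlen⟩ := Nat.find_spec hne
  refine ⟨u⁻¹, inv_mem hu, u * w, by group, isMinL_of_min cs ?_⟩
  intro x hx
  rw [hlen]
  exact Nat.find_min' hne ⟨x * u, mul_mem hx hu, by rw [mul_assoc]⟩

theorem exists_isMinR (J : Set B) (w : W) :
    ∃ v, IsMinR cs J v ∧ ∃ u ∈ WJ cs J, w = v * u := by
  obtain ⟨u, hu, v, h, hv⟩ := exists_isMinL cs J w⁻¹
  refine ⟨v⁻¹, (isMinR_inv_iff cs).2 hv, u⁻¹, inv_mem hu, ?_⟩
  rw [← mul_inv_rev, ← h, inv_inv]

theorem IsMinL.unique {J : Set B} {v v' u : W} (h : IsMinL cs J v) (h' : IsMinL cs J v')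
    (hu : u ∈ WJ cs J) (he : v' = u * v) : v' = v := by
  have h1 := h u hu
  have h2 := h' u⁻¹ (inv_mem hu)
  have h3 : u⁻¹ * v' = v := by rw [he]; group
  rw [h3, cs.length_inv] at h2
  rw [← he] at h1
  have : u = 1 := cs.length_eq_zero_iff.1 (by omega)
  rw [he, this, one_mul]

theorem IsMinR.unique {J : Set B} {v v' u : W} (h : IsMinR cs J v) (h' : IsMinR cs J v')
    (hu : u ∈ WJ cs J) (he : v' = v * u) : v' = v := by
  have h1 := h u hu
  have h2 := h' u⁻¹ (inv_mem hu)
  have h3 : v' * u⁻¹ = v := by rw [he]; group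
  rw [h3, cs.length_inv] at h2
  rw [← he] at h1
  have : u = 1 := cs.length_eq_zero_iff.1 (by omega)
  rw [he, this, mul_one]

end Cfsg.Agent.Tits.Exchange
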