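import Mathlib
import Cfsg.Agent.Tits.Core
import Cfsg.Agent.Tits.OppRes
/-!
Rigidity in a residue of a thick building (S1143, route E).
-/

set_option autoImplicit false
set_option linter.unusedSectionVars false

namespace Cfsg.Agent.Tits.Rigid

open Cfsg.Agent.Tits.Core Cfsg.Agent.Tits.Core.Bldg Cfsg.Agent.Tits.OppRes

variable {I : Type*} {M : CoxeterMatrix I} {W : Type*} [Group W] {cs : CoxeterSystem M W}
variable {C C' : Type*} {Δ : Bldg cs C} {Δ' : Bldg cs C'} [F : Cox cs]

theorem mem_Res_of_delta_simple {J : Set I} {x y : C} {j : I} (hj : j ∈ J)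
    (h : Δ.δ x y = cs.simple j) : y ∈ Δ.Res J x := by
  change Δ.δ x y ∈ WJ cs J
  rw [h]
  exact simple_mem_WJ hj

/-- Two chambers `z, z'` of a `j`-panel at distance `w s_j < w` from `x` coincide. -/
theorem eq_of_short {x z z' : C} {w : W} {j : I} (hz : Δ.δ x z = w)
    (hz' : Δ.δ x z' = w) (hw : cs.length w < cs.length (w * cs.simple j))
    (h : z' ∈ Δ.Res {j} z) : z = z' := by
  have h1 : Δ.IsProj {j} z x z := isProj_of_min (mem_Res_self _ _) (by
    intro i hi
    rw [Set.mem_singleton_iff.1 hi, hz]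
    exact hw)
  have h2 : Δ.IsProj {j} z x z' := isProj_of_min h (by
    intro i hi
    rw [Set.mem_singleton_iff.1 hi, hz']
    exact hw)
  exact IsProj.unique h1 h2

theorem mem_Pan_Res {x y : C} {j : I} (h : y ∈ Δ.Pan j x) : y ∈ Δ.Res {j} x := by
  rcases h with h | h
  · rw [h]; exact mem_Res_self _ _
  · exact mem_Res_of_delta_simple (Set.mem_singleton j) h

theorem WJ_singleton {j : I} {v : W} (hv : v ∈ WJ cs {j}) : v = 1 ∨ v = cs.simple j := by
  rw [WJ, Set.image_singleton, Subgroup.mem_closure_singleton] at hv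
  obtain ⟨n, rfl⟩ := hv
  rcases Int.even_or_odd n with h | h
  · left
    obtain ⟨m, rfl⟩ := h
    rw [← two_mul, zpow_mul]
    have : cs.simple j ^ (2 : ℤ) = 1 := by
      have := cs.simple_sq j
      exact_mod_cast this
    rw [this, one_zpow]
  · right
    obtain ⟨m, rfl⟩ := h
    rw [zpow_add, zpow_mul, zpow_one]
    have : cs.simple j ^ (2 : ℤ) = 1 := by
      have := cs.simple_sq j
      exact_mod_cast this
    rw [this, one_zpow, one_mul]

theorem Pan_eq_Res (j : I) (x : C) : Δ.Pan j x = Δ.Res {j} x := by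
  ext y
  refine ⟨mem_Pan_Res, fun h => ?_⟩
  rcases WJ_singleton (cs := cs) h with h1 | h1
  · left; exact ((Δ.eq_one x y).1 h1).symm
  · right; exact h1

/-- `φ` and `ψ` agree on the panels of type in `J` of `x`. -/
def Agree (Δ : Bldg cs C) (φ ψ : C → C') (J : Set I) (x : C) : Prop :=
  ∀ j ∈ J, ∀ y ∈ Δ.Pan j x, φ y = ψ y

theorem agree_opp {J : Set I} {c x y : C} {φ ψ : C → C'}
    (hφ : Δ.IsoOn Δ' φ (Δ.Res J c)) (hψ : Δ.IsoOn Δ' ψ (Δ.Res J c))
    (hx : x ∈ Δ.Res J c) (hy : y ∈ Δ.Res J c) (hxy : Δ.δ x y = wJ cs J)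
    (hax : Agree Δ φ ψ J x) (hyy : φ y = ψ y) : Agree Δ φ ψ J y := by
  intro j hj y' hy'
  rcases hy' with h | hy'
  · rw [h]; exact hyy
  obtain ⟨k, hk, hkj⟩ := F.exists_opJ hj
  -- a chamber `x'` in the panel of type `k` of `x` with `δ x' y' = w_J s_j`
  have hlen : cs.length (wJ cs J * cs.simple j) < cs.length (wJ cs J) := by
    have h1 := F.len_wJ_mul (simple_mem_WJ (cs := cs) hj)
    rw [cs.length_simple] at h1
    omega
  have hkj' : cs.simple k * wJ cs J = wJ cs J * cs.simple j := by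
    have h2 := F.wJ_mul_self J
    calc cs.simple k * wJ cs J = (wJ cs J * wJ cs J) * cs.simple k * wJ cs J := by
          rw [h2, one_mul]
      _ = wJ cs J * (wJ cs J * cs.simple k) * wJ cs J := by group
      _ = wJ cs J * (cs.simple j * wJ cs J) * wJ cs J := by rw [hkj]
      _ = wJ cs J * cs.simple j * (wJ cs J * wJ cs J) := by group
      _ = wJ cs J * cs.simple j := by rw [h2, mul_one]
  have hex : ∃ x' ∈ Δ.Pan k x, Δ.δ x' y' = wJ cs J * cs.simple j := by
    rcases Δ.step x y y' j hy' with h | h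
    · exact ⟨x, Or.inl rfl, by rw [h, hxy]⟩
    · obtain ⟨z, hz, hyz⟩ := Δ.exists_step y' x k
      refine ⟨z, Or.inr hz, ?_⟩
      rw [Δ.symm y' z, hyz, Δ.symm x y', h, hxy, mul_inv_rev, inv_inv, cs.inv_simple, hkj']
  obtain ⟨x', hx', hd⟩ := hex
  have hagree := hax k hk x' hx'
  have hx'R : x' ∈ Δ.Res J c := by
    rw [← Res_eq hx]
    exact WJ_mono (Set.singleton_subset_iff.2 hk) (mem_Pan_Res hx')
  have hy'R : y' ∈ Δ.Res J c := by
    rw [← Res_eq hy]
    exact mem_Res_of_delta_simple hj hy'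
  have h1 : Δ'.δ (φ x') (φ y') = wJ cs J * cs.simple j := by rw [hφ _ hx'R _ hy'R, hd]
  have h2 : Δ'.δ (φ x') (ψ y') = wJ cs J * cs.simple j := by
    rw [hagree, hψ _ hx'R _ hy'R, hd]
  refine eq_of_short (j := j) h1 h2 ?_ ?_
  · rw [mul_assoc, cs.simple_mul_simple_self, mul_one]
    exact hlen
  · have h3 : Δ'.δ (φ y') (φ y) ∈ WJ cs {j} := by
      rw [hφ _ hy'R _ hy, Δ.symm y y', hy', cs.inv_simple]
      exact simple_mem_WJ (Set.mem_singleton j)
    have h4 : Δ'.δ (φ y) (ψ y') ∈ WJ cs {j} := by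
      rw [hyy, hψ _ hy _ hy'R, hy']
      exact simple_mem_WJ (Set.mem_singleton j)
    exact delta_mem_of_mem h3 h4

/-- Common opposites of adjacent chambers inside a residue. -/
theorem exists_opp2 (hth : Δ.Thick) {J : Set I} {c c' d : C} {j : I} (hj : j ∈ J)
    (hcc' : Δ.δ c c' = cs.simple j) (hcd : Δ.δ c d = wJ cs J) :
    ∃ d', (d' = d ∨ ∃ k ∈ J, Δ.δ d d' = cs.simple k) ∧ Δ.δ c d' = wJ cs J ∧
      Δ.δ c' d' = wJ cs J := by
  obtain ⟨k, hk, hkj⟩ := F.exists_opJ hj
  have hdc : Δ.δ d c = wJ cs J := by rw [Δ.symm c d, hcd, F.wJ_inv]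
  rcases Δ.step d c c' j hcc' with h | h
  · -- `c'` is not opposite `d`
    have hc'd : Δ.δ c' d = cs.simple j * wJ cs J := by
      rw [Δ.symm d c', h, hdc, mul_inv_rev, F.wJ_inv, cs.inv_simple]
    have hlen : cs.length (cs.simple j * wJ cs J) < cs.length (wJ cs J) := by
      have h1 := F.len_mul_wJ (simple_mem_WJ (cs := cs) hj)
      rw [cs.length_simple] at h1
      omega
    have hgood : ∀ y, Δ.δ d y = cs.simple k → Δ.δ c' y = wJ cs J := by
      intro y hy
      have h1 : cs.simple j * wJ cs J * cs.simple k = wJ cs J := by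
        rw [← hkj, mul_assoc, cs.simple_mul_simple_self, mul_one]
      have h2 := Δ.step_lt c' d y k hy (by rw [hc'd, h1]; exact hlen)
      rw [h2, hc'd, h1]
    obtain ⟨y, z, hyz, hy, hz⟩ := hth d k
    have h3 : Δ.δ c y = wJ cs J ∨ Δ.δ c z = wJ cs J := by
      by_contra hcon
      push Not at hcon
      have hy2 : Δ.δ c y = wJ cs J * cs.simple k := by
        rcases Δ.step c d y k hy with h4 | h4
        · rw [h4, hcd]
        · exact absurd (h4.trans hcd) hcon.1
      have hz2 : Δ.δ c z = wJ cs J * cs.simple k := by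
        rcases Δ.step c d z k hz with h4 | h4
        · rw [h4, hcd]
        · exact absurd (h4.trans hcd) hcon.2
      apply hyz
      refine eq_of_short (j := k) hy2 hz2 ?_ ?_
      · rw [mul_assoc, cs.simple_mul_simple_self, mul_one, hkj]
        exact hlen
      · refine delta_mem_of_mem (y := d) ?_ ?_
        · rw [Δ.symm d y, hy, cs.inv_simple]
          exact simple_mem_WJ (Set.mem_singleton k)
        · rw [hz]
          exact simple_mem_WJ (Set.mem_singleton k)
    rcases h3 with h3 | h3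
    · exact ⟨y, Or.inr ⟨k, hk, hy⟩, h3, hgood y hy⟩
    · exact ⟨z, Or.inr ⟨k, hk, hz⟩, h3, hgood z hz⟩
  · refine ⟨d, Or.inl rfl, hcd, ?_⟩
    rw [Δ.symm d c', h, hdc, F.wJ_inv]

/-- **Rigidity**: two maps which are isometric on a residue, agree on the panels (inside the residue)
of a chamber `c` and at one chamber of the residue opposite `c`, agree on the residue. -/
theorem rigid (hth : Δ.Thick) {J : Set I} {c d : C} {φ ψ : C → C'}
    (hφ : Δ.IsoOn Δ' φ (Δ.Res J c)) (hψ : Δ.IsoOn Δ' ψ (Δ.Res J c))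
    (hc : Agree Δ φ ψ J c) (hd : Δ.δ c d = wJ cs J) (hdd : φ d = ψ d) :
    ∀ x ∈ Δ.Res J c, φ x = ψ x := by
  -- induction on the distance from `c`
  have key : ∀ n : ℕ, ∀ x ∈ Δ.Res J c, cs.length (Δ.δ c x) = n →
      Agree Δ φ ψ J x ∧ φ x = ψ x ∧ ∃ y, Δ.δ x y = wJ cs J ∧ y ∈ Δ.Res J c ∧ φ y = ψ y := by
    intro n
    induction n with
    | zero =>
      intro x _ hn
      have h1 : Δ.δ c x = 1 := cs.length_eq_zero_iff.1 hn
      rw [← (Δ.eq_one c x).1 h1]
      refine ⟨hc, ?_, d, hd, ?_, hdd⟩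
      · by_cases hJ : J.Nonempty
        · obtain ⟨j, hj⟩ := hJ
          exact hc j hj c (Or.inl rfl)
        · rw [Set.not_nonempty_iff_eq_empty] at hJ
          have h2 : Δ.δ c d ∈ WJ cs J := by rw [hd]; exact F.wJ_mem J
          rw [hJ, WJ, Set.image_empty, Subgroup.closure_empty, Subgroup.mem_bot] at h2
          rw [(Δ.eq_one c d).1 h2]
          exact hdd
      · change Δ.δ c d ∈ WJ cs J
        rw [hd]
        exact F.wJ_mem J
    | succ n ih =>
      intro x hx hn
      have hne : Δ.δ c x ≠ 1 := by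
        intro h1
        rw [h1, cs.length_one] at hn
        omega
      obtain ⟨j, hj, hlt⟩ := F.exists_descent (v := Δ.δ c x) hx hne
      obtain ⟨x1, hx1, hcx1⟩ := Δ.exists_step c x j
      have hx1R : x1 ∈ Δ.Res J c := by
        rw [← Res_eq hx]
        exact mem_Res_of_delta_simple hj hx1
      have hl1 : cs.length (Δ.δ c x1) = n := by
        have := cs.isRightDescent_iff.1 (show cs.IsRightDescent (Δ.δ c x) j from hlt)
        rw [hcx1]
        omega
      obtain ⟨hA, he, y, hy, hyR, hyy⟩ := ih x1 hx1R hl1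
      have hx1x : Δ.δ x1 x = cs.simple j := delta_simple_symm hx1
      have hyA : Agree Δ φ ψ J y := agree_opp hφ hψ hx1R hyR hy hA hyy
      have hxx : φ x = ψ x := hA j hj x (Or.inr hx1x)
      obtain ⟨y', hy', h1, h2⟩ := exists_opp2 hth hj hx1x hy
      have hy'R : y' ∈ Δ.Res J c := by
        rcases hy' with h | ⟨k, hk, h⟩
        · rw [h]; exact hyR
        · rw [← Res_eq hyR]
          exact mem_Res_of_delta_simple hk h
      have hy'y' : φ y' = ψ y' := by
        rcases hy' with h | ⟨k, hk, h⟩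
        · rw [h]; exact hyy
        · exact hyA k hk y' (Or.inr h)
      have hy'A : Agree Δ φ ψ J y' := agree_opp hφ hψ hx1R hy'R h1 hA hy'y'
      refine ⟨agree_opp hφ hψ hy'R hx ?_ hy'A hxx, hxx, y', h2, hy'R, hy'y'⟩
      rw [Δ.symm x y', h2, F.wJ_inv]
  intro x hx
  exact (key _ x hx rfl).2.1

end Cfsg.Agent.Tits.Rigid
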