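import Mathlib
import Cfsg.Agent.Tits.Core
import Cfsg.Agent.Tits.Exchange
import Cfsg.Agent.Tits.OppRes
import Cfsg.Agent.Tits.Rigid
/-!
S1143, route E, part MOU: definitions (isometry group, charts of apartments, roots, root groups,
deep chambers) and their first properties.
-/

set_option autoImplicit false
set_option linter.unusedSectionVars false

namespace Cfsg.Agent.Tits.MouDefs

open Cfsg.Agent.Tits.Core Cfsg.Agent.Tits.Core.Bldg Cfsg.Agent.Tits.OppRes

variable {I : Type*} {M : CoxeterMatrix I} {W : Type*} [Group W] {cs : CoxeterSystem M W}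
variable {C C' : Type*}

/-! ### Definitions -/

/-- The group of isometries of a building. -/
def Aut (Δ : Bldg cs C) : Subgroup (Equiv.Perm C) where
  carrier := {g | ∀ x y, Δ.δ (g x) (g y) = Δ.δ x y}
  mul_mem' := by
    intro a b ha hb x y
    rw [Equiv.Perm.mul_apply, Equiv.Perm.mul_apply, ha, hb]
  one_mem' := fun _ _ => rfl
  inv_mem' := by
    intro a ha x y
    have h := ha (a⁻¹ x) (a⁻¹ y)
    have e : ∀ z, a (a⁻¹ z) = z := fun z => a.apply_symm_apply z
    rw [e, e] at h
    exact h.symm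

theorem mem_Aut {Δ : Bldg cs C} {g : Equiv.Perm C} :
    g ∈ Aut Δ ↔ ∀ x y, Δ.δ (g x) (g y) = Δ.δ x y := Iff.rfl

/-- A chart of an apartment: an isometry `W → C`. -/
def Chart (Δ : Bldg cs C) (σ : W → C) : Prop := ∀ v w, Δ.δ (σ v) (σ w) = v⁻¹ * w

/-- The root `w α_i`, as a set of elements of `W`. -/
def rt (cs : CoxeterSystem M W) (w : W) (i : I) : Set W :=
  {v | cs.length (w⁻¹ * v) < cs.length (cs.simple i * (w⁻¹ * v))}

/-- The root group of the root `A` in the apartment with chart `σ`. -/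
def U (Δ : Bldg cs C) (σ : W → C) (A : Set W) : Subgroup (Equiv.Perm C) where
  carrier := {g | g ∈ Aut Δ ∧ (∀ v ∈ A, g (σ v) = σ v) ∧
    ∀ v i, v ∈ A → v * cs.simple i ∈ A → ∀ y ∈ Δ.Pan i (σ v), g y = y}
  mul_mem' := by
    rintro a b ⟨ha, ha1, ha2⟩ ⟨hb, hb1, hb2⟩
    refine ⟨mul_mem ha hb, fun v hv => ?_, fun v i hv hvi y hy => ?_⟩
    · rw [Equiv.Perm.mul_apply, hb1 v hv, ha1 v hv]
    · rw [Equiv.Perm.mul_apply, hb2 v i hv hvi y hy, ha2 v i hv hvi y hy]
  one_mem' := ⟨one_mem _, fun _ _ => rfl, fun _ _ _ _ _ _ => rfl⟩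
  inv_mem' := by
    rintro a ⟨ha, ha1, ha2⟩
    refine ⟨inv_mem ha, fun v hv => ?_, fun v i hv hvi y hy => ?_⟩
    · exact Equiv.Perm.inv_eq_iff_eq.2 (ha1 v hv).symm
    · exact Equiv.Perm.inv_eq_iff_eq.2 (ha2 v i hv hvi y hy).symm

theorem mem_U {Δ : Bldg cs C} {σ : W → C} {A : Set W} {g : Equiv.Perm C} :
    g ∈ U Δ σ A ↔ g ∈ Aut Δ ∧ (∀ v ∈ A, g (σ v) = σ v) ∧
      ∀ v i, v ∈ A → v * cs.simple i ∈ A → ∀ y ∈ Δ.Pan i (σ v), g y = y := Iff.rfl

/-- `v` is deep in `A`: the residues of rank two of `v` are contained in `A`. -/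
def Deep (cs : CoxeterSystem M W) (A : Set W) (v : W) : Prop :=
  ∀ k l, ∀ u ∈ WJ cs {k, l}, v * u ∈ A

/-- The statement of Theorem EXT (extension of 2-isometries). -/
def Ext (Δ : Bldg cs C) (Δ' : Bldg cs C') : Prop :=
  ∀ (θ : C → C') (c d : C) (d' : C'), Δ.Iso2 Δ' θ c → Δ.Opp c d → Δ'.Opp (θ c) d' →
    (∀ i j, θ (Δ.proj {i, j} c d) = Δ'.proj {i, j} (θ c) d') →
    ∃ φ : C → C', (∀ x y, Δ'.δ (φ x) (φ y) = Δ.δ x y) ∧ (∀ y ∈ Δ.E2 c, φ y = θ y) ∧ φ d = d'

/-- The combinatorial facts (C0), (C1), (C2) on the roots of a finite irreducible Coxeter group of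
rank at least three. -/
structure Comb (cs : CoxeterSystem M W) : Prop where
  c0 : ∀ w i, ∃ v, Deep cs (rt cs w i) v
  c1 : ∀ w i v v', Deep cs (rt cs w i) v → Deep cs (rt cs w i) v' →
    Relation.ReflTransGen (fun a b => Deep cs (rt cs w i) a ∧ Deep cs (rt cs w i) b ∧
      ∃ k, b = a * cs.simple k) v v'
  c2 : ∀ w i v j, v ∈ rt cs w i → v * cs.simple j ∈ rt cs w i →
    ∃ y, Deep cs (rt cs w i) y ∧ ∃ k l, ∃ u ∈ WJ cs {k, l}, ∃ m, (m = k ∨ m = l) ∧
      (y * u) * cs.simple m * (y * u)⁻¹ = v * cs.simple j * v⁻¹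

/-! ### Roots -/

section Roots

open Cfsg.Agent.Tits.Exchange

theorem zmod2_ne {a b : ZMod 2} (h : a ≠ b) : a = b + 1 := by
  revert a b
  decide

theorem mem_rt_iff' {w v : W} {i : I} : v ∈ rt cs w i ↔ nn cs (v⁻¹ * w) (cs.simple i) = 0 := by
  have h1 := nn_eq_one_iff cs (w := (v⁻¹ * w)) (cs.isReflection_simple i)
  have e1 : cs.length (v⁻¹ * w * cs.simple i) = cs.length (cs.simple i * (w⁻¹ * v)) := by
    rw [← cs.length_inv]
    congr 1
    simp [mul_assoc]
  have e2 : cs.length (v⁻¹ * w) = cs.length (w⁻¹ * v) := by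
    rw [← cs.length_inv]
    congr 1
    simp
  have h2 := cs.length_simple_mul_ne (w⁻¹ * v) i
  rw [e1, e2] at h1
  constructor
  · intro h
    by_contra hne
    have h3 : nn cs (v⁻¹ * w) (cs.simple i) = 1 := by
      have := zmod2_ne hne
      rwa [zero_add] at this
    have h4 := h1.1 h3
    have h5 : cs.length (w⁻¹ * v) < cs.length (cs.simple i * (w⁻¹ * v)) := h
    omega
  · intro h
    have h3 : ¬ cs.length (cs.simple i * (w⁻¹ * v)) < cs.length (w⁻¹ * v) := by
      intro h4
      rw [h1.2 h4] at h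
      exact absurd h (by decide)
    change cs.length (w⁻¹ * v) < cs.length (cs.simple i * (w⁻¹ * v))
    omega

/-- The wall and side description of the roots. -/
theorem mem_rt_iff {w v : W} {i : I} : v ∈ rt cs w i ↔
    nn cs v⁻¹ (w * cs.simple i * w⁻¹) = nn cs w⁻¹ (w * cs.simple i * w⁻¹) := by
  rw [mem_rt_iff', nn_mul]
  have h : nn cs w (cs.simple i) = nn cs w⁻¹ (w * cs.simple i * w⁻¹) := by
    have h1 := nn_mul cs w⁻¹ w (cs.simple i)
    rw [inv_mul_cancel, nn_one] at h1
    have : ∀ a b : ZMod 2, 0 = a + b → a = b := by decide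
    exact this _ _ h1
  rw [h]
  have : ∀ a b : ZMod 2, a + b = 0 ↔ b = a := by decide
  exact this _ _

theorem mem_rt_self (w : W) (i : I) : w ∈ rt cs w i := by
  rw [mem_rt_iff]

/-- Which side of a wall: effect of one step. -/
theorem nn_step (v t : W) (j : I) :
    nn cs (v * cs.simple j)⁻¹ t = nn cs v⁻¹ t + ind t (v * cs.simple j * v⁻¹) := by
  rw [mul_inv_rev, cs.inv_simple, nn_mul, nn_simple]
  congr 1
  apply ind_congr
  constructor
  · intro h
    rw [← h]; group
  · intro h
    rw [h]; group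

theorem mul_simple_mem_rt_iff {w v : W} {i j : I} (hv : v ∈ rt cs w i) :
    v * cs.simple j ∈ rt cs w i ↔ w * cs.simple i * w⁻¹ ≠ v * cs.simple j * v⁻¹ := by
  rw [mem_rt_iff] at hv ⊢
  rw [nn_step, hv]
  constructor
  · intro h he
    rw [ind_of_eq he] at h
    have : ∀ a : ZMod 2, a + 1 ≠ a := by decide
    exact this _ h
  · intro h
    rw [ind_of_ne h, add_zero]

/-- The wall of a root which is crossed in a step. -/
theorem wall_of_cross {w v : W} {i j : I} (hv : v ∈ rt cs w i) (hvj : v * cs.simple j ∉ rt cs w i) :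
    w * cs.simple i * w⁻¹ = v * cs.simple j * v⁻¹ := by
  by_contra h
  exact hvj ((mul_simple_mem_rt_iff hv).2 h)

theorem mul_simple_not_mem_rt (w : W) (i : I) : w * cs.simple i ∉ rt cs w i := by
  intro h
  exact (mul_simple_mem_rt_iff (mem_rt_self w i)).1 h rfl

/-- A root is determined by its wall and one element. -/
theorem rt_eq_of_wall {w v : W} {i j : I} (hv : v ∈ rt cs w i)
    (h : w * cs.simple i * w⁻¹ = v * cs.simple j * v⁻¹) : rt cs w i = rt cs v j := by
  ext x
  have h1 := mem_rt_iff.1 hv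
  rw [mem_rt_iff, mem_rt_iff, ← h, h1]

/-- A root is determined by any boundary step. -/
theorem rt_eq_of_cross {w v : W} {i j : I} (hv : v ∈ rt cs w i)
    (hvj : v * cs.simple j ∉ rt cs w i) : rt cs w i = rt cs v j :=
  rt_eq_of_wall hv (wall_of_cross hv hvj)

theorem rt_compl (w : W) (i : I) : (rt cs w i)ᶜ = rt cs (w * cs.simple i) i := by
  ext v
  have e : w * cs.simple i * cs.simple i * (w * cs.simple i)⁻¹ = w * cs.simple i * w⁻¹ := by
    simp [mul_assoc]
  rw [Set.mem_compl_iff, mem_rt_iff, mem_rt_iff, e, nn_step, ind_of_eq rfl]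
  have : ∀ a b : ZMod 2, ¬ a = b ↔ a = b + 1 := by decide
  exact this _ _

theorem mul_mem_rt_iff {w v x : W} {i : I} : x * v ∈ rt cs (x * w) i ↔ v ∈ rt cs w i := by
  have e : (x * w)⁻¹ * (x * v) = w⁻¹ * v := by group
  change cs.length ((x * w)⁻¹ * (x * v)) < cs.length (cs.simple i * ((x * w)⁻¹ * (x * v))) ↔ _
  rw [e]
  rfl

theorem mul_mem_rt_iff' {w v x : W} {i : I} : x * v ∈ rt cs w i ↔ v ∈ rt cs (x⁻¹ * w) i := by
  rw [← mul_mem_rt_iff (x := x) (w := x⁻¹ * w), mul_inv_cancel_left]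

/-- The reflection in the wall of a root interchanges the root and its opposite. -/
theorem refl_mul_mem_rt_iff {w v : W} {i : I} :
    (w * cs.simple i * w⁻¹) * v ∈ rt cs w i ↔ v ∉ rt cs w i := by
  rw [mul_mem_rt_iff']
  have e : (w * cs.simple i * w⁻¹)⁻¹ * w = w * cs.simple i := by simp [mul_assoc]
  rw [e, ← rt_compl]
  rfl

end Roots

/-! ### Charts -/

section Charts

variable {Δ : Bldg cs C}

theorem Chart.aut {σ : W → C} (h : Chart Δ σ) {g : Equiv.Perm C} (hg : g ∈ Aut Δ) :
    Chart Δ (fun v => g (σ v)) := fun v w => by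
  rw [hg, h]

theorem Chart.translate {σ : W → C} (h : Chart Δ σ) (x : W) : Chart Δ (fun v => σ (x * v)) :=
  fun v w => by
    rw [h]
    group

theorem Chart.adj {σ : W → C} (h : Chart Δ σ) (v : W) (i : I) :
    Δ.δ (σ v) (σ (v * cs.simple i)) = cs.simple i := by
  rw [h, inv_mul_cancel_left]

theorem Chart.injective {σ : W → C} (h : Chart Δ σ) : Function.Injective σ := by
  intro v w hvw
  have h1 := h v w
  rw [hvw, (Δ.eq_one _ _).2 rfl] at h1
  exact (inv_mul_eq_one.1 h1.symm)

variable [F : Cox cs]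

theorem Chart.opp {σ : W → C} (h : Chart Δ σ) (v : W) : Δ.Opp (σ v) (σ (v * w0 cs)) := by
  change Δ.δ _ _ = _
  rw [h, inv_mul_cancel_left]

/-- A map which preserves adjacency is a chart. -/
theorem chart_of_adj {σ : W → C} (h : ∀ v i, Δ.δ (σ v) (σ (v * cs.simple i)) = cs.simple i) :
    Chart Δ σ := by
  intro v w
  have key : ∀ n : ℕ, ∀ u : W, cs.length u = n → Δ.δ (σ v) (σ (v * u)) = u := by
    intro n
    induction n with
    | zero =>
      intro u hu
      rw [cs.length_eq_zero_iff.1 hu, mul_one, delta_self]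
    | succ n ih =>
      intro u hu
      have hne : u ≠ 1 := by
        rintro rfl
        rw [cs.length_one] at hu
        omega
      obtain ⟨i, hi⟩ := cs.exists_rightDescent_of_ne_one hne
      have hi' := cs.isRightDescent_iff.1 hi
      have h1 := ih (u * cs.simple i) (by omega)
      have h2 := h (v * (u * cs.simple i)) i
      have e1 : u * cs.simple i * cs.simple i = u := by
        rw [mul_assoc, cs.simple_mul_simple_self, mul_one]
      have e2 : v * (u * cs.simple i) * cs.simple i = v * u := by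
        rw [mul_assoc, e1]
      rw [e2] at h2
      have h3 := Δ.step_lt _ _ _ i h2 (by rw [h1, e1]; omega)
      rw [h3, h1, e1]
  have h1 := key _ (v⁻¹ * w) rfl
  rwa [mul_inv_cancel_left] at h1

/-- Uniqueness of the intermediate chambers of galleries of reduced type. -/
theorem eq_of_between {x z y y' : C} {w v : W} (h : cs.length (w * v) = cs.length w + cs.length v)
    (hy : Δ.δ x y = w) (hy' : Δ.δ x y' = w) (hz : Δ.δ y z = v) (hz' : Δ.δ y' z = v) : y = y' := by
  induction hn : cs.length w generalizing x w with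
  | zero =>
    have h1 : w = 1 := cs.length_eq_zero_iff.1 hn
    rw [← (Δ.eq_one x y).1 (by rw [hy, h1]), ← (Δ.eq_one x y').1 (by rw [hy', h1])]
  | succ n ih =>
    have hne : w ≠ 1 := by
      rintro rfl
      rw [cs.length_one] at hn
      omega
    obtain ⟨i, hi⟩ := cs.exists_leftDescent_of_ne_one hne
    have hi' := cs.isLeftDescent_iff.1 hi
    have e1 : cs.simple i * (cs.simple i * w) = w := by
      rw [← mul_assoc, cs.simple_mul_simple_self, one_mul]
    -- the chambers `a`, `a'` of the panel of `x` towards `y`, `y'`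
    have hstep : ∀ b, Δ.δ x b = w → ∃ a, Δ.δ x a = cs.simple i ∧ Δ.δ a b = cs.simple i * w := by
      intro b hb
      obtain ⟨a, ha, hba⟩ := Δ.exists_step b x i
      refine ⟨a, ha, ?_⟩
      rw [Δ.symm b a, hba, Δ.symm x b, hb, mul_inv_rev, inv_inv, cs.inv_simple]
    obtain ⟨a, ha, hab⟩ := hstep y hy
    obtain ⟨a', ha', hab'⟩ := hstep y' hy'
    have hlen : cs.length (cs.simple i * w * v) = cs.length (cs.simple i * w) + cs.length v := by
      have h5 := cs.length_mul_le (cs.simple i * w) v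
      have h6 := cs.length_mul_le (cs.simple i) (cs.simple i * w * v)
      rw [← mul_assoc, ← mul_assoc, cs.simple_mul_simple_self, one_mul, cs.length_simple] at h6
      omega
    have hxz : Δ.δ a z = cs.simple i * w * v := by
      rw [delta_comp (y := y) (by rw [hab, hz]; exact hlen), hab, hz]
    have hxz' : Δ.δ a' z = cs.simple i * w * v := by
      rw [delta_comp (y := y') (by rw [hab', hz']; exact hlen), hab', hz']
    have haa : a = a' := by
      refine Rigid.eq_of_short (Δ := Δ) (j := i) (x := z) (w := (cs.simple i * w * v)⁻¹) ?_ ?_ ?_ ?_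
      · rw [Δ.symm a z, hxz]
      · rw [Δ.symm a' z, hxz']
      · have e2 : (cs.simple i * w * v)⁻¹ * cs.simple i = (w * v)⁻¹ := by
          rw [← cs.inv_simple i, ← mul_inv_rev, ← mul_assoc, ← mul_assoc, cs.inv_simple,
            cs.simple_mul_simple_self, one_mul]
        rw [e2, cs.length_inv, cs.length_inv]
        omega
      · refine delta_mem_of_mem (y := x) ?_ ?_
        · rw [Δ.symm x a, ha, cs.inv_simple]
          exact OppRes.simple_mem_WJ (Set.mem_singleton i)
        · rw [ha']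
          exact OppRes.simple_mem_WJ (Set.mem_singleton i)
    rw [← haa] at hab'
    exact ih hlen hab hab' (by omega)

/-- Two charts which agree at two opposite elements are equal. -/
theorem Chart.ext_opp {σ σ' : W → C} (h : Chart Δ σ) (h' : Chart Δ σ') {v : W}
    (h1 : σ v = σ' v) (h2 : σ (v * w0 cs) = σ' (v * w0 cs)) : σ = σ' := by
  funext w
  refine eq_of_between (Δ := Δ) (x := σ v) (z := σ (v * w0 cs)) (w := v⁻¹ * w)
    (v := w⁻¹ * (v * w0 cs)) ?_ (h v w) (by rw [h1]; exact h' v w) (h w _)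
    (by rw [h2]; exact h' w _)
  have e : v⁻¹ * w * (w⁻¹ * (v * w0 cs)) = w0 cs := by group
  have h3 := F.len_mul_w0 (w⁻¹ * v)
  have h4 : cs.length (v⁻¹ * w) = cs.length (w⁻¹ * v) := by
    rw [← cs.length_inv]
    congr 1
    group
  rw [e, h4, ← mul_assoc]
  omega

/-- There is a chart through two opposite chambers. -/
theorem exists_chart {x y : C} (h : Δ.Opp x y) (v : W) :
    ∃ σ, Chart Δ σ ∧ σ v = x ∧ σ (v * w0 cs) = y := by
  -- the chamber at distance `w` from `x` on the way to `y`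
  have hex : ∀ w : W, ∃ a, Δ.δ x a = w ∧ Δ.δ a y = w⁻¹ * w0 cs := by
    intro w
    -- walk from `x`
    have key : ∀ n : ℕ, ∀ w : W, cs.length w = n →
        ∃ a, Δ.δ x a = w ∧ Δ.δ a y = w⁻¹ * w0 cs := by
      intro n
      induction n with
      | zero =>
        intro w hw
        rw [cs.length_eq_zero_iff.1 hw]
        exact ⟨x, delta_self x, by rw [inv_one, one_mul]; exact h⟩
      | succ n ih =>
        intro w hw
        have hne : w ≠ 1 := by
          rintro rfl
          rw [cs.length_one] at hw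
          omega
        obtain ⟨i, hi⟩ := cs.exists_rightDescent_of_ne_one hne
        have hi' := cs.isRightDescent_iff.1 hi
        obtain ⟨a, ha1, ha2⟩ := ih (w * cs.simple i) (by omega)
        obtain ⟨z, hz1, hz2⟩ := Δ.exists_step y a i
        have e1 : w * cs.simple i * cs.simple i = w := by
          rw [mul_assoc, cs.simple_mul_simple_self, mul_one]
        refine ⟨z, ?_, ?_⟩
        · have h3 := Δ.step_lt x a z i hz1 (by rw [ha1, e1]; omega)
          rw [h3, ha1, e1]
        · rw [Δ.symm y z, hz2, Δ.symm a y, ha2]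
          simp [mul_assoc]
    exact key _ w rfl
  choose f hf1 hf2 using hex
  have hlen : ∀ w : W, cs.length (w * (w⁻¹ * w0 cs)) = cs.length w + cs.length (w⁻¹ * w0 cs) := by
    intro w
    have h3 := F.len_mul_w0 w⁻¹
    rw [cs.length_inv] at h3
    rw [mul_inv_cancel_left]
    omega
  have huniq : ∀ w a, Δ.δ x a = w → Δ.δ a y = w⁻¹ * w0 cs → a = f w := fun w a h1 h2 =>
    eq_of_between (Δ := Δ) (hlen w) h1 (hf1 w) h2 (hf2 w)
  -- adjacency
  have hadj1 : ∀ w i, cs.length w < cs.length (w * cs.simple i) →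
      Δ.δ (f w) (f (w * cs.simple i)) = cs.simple i := by
    intro w i hlt
    obtain ⟨z, hz1, hz2⟩ := Δ.exists_step y (f w) i
    have e : z = f (w * cs.simple i) := by
      apply huniq
      · have h3 := Δ.step_lt x (f w) z i hz1 (by rw [hf1]; exact hlt)
        rw [h3, hf1]
      · rw [Δ.symm y z, hz2, Δ.symm (f w) y, hf2, mul_inv_rev, inv_inv, mul_inv_rev,
          cs.inv_simple, mul_assoc]
    rw [← e]
    exact hz1
  have hadj : ∀ w i, Δ.δ (f w) (f (w * cs.simple i)) = cs.simple i := by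
    intro w i
    rcases lt_or_gt_of_ne (cs.length_mul_simple_ne w i) with h1 | h1
    · have h2 := hadj1 (w * cs.simple i) i (by
        rw [mul_assoc, cs.simple_mul_simple_self, mul_one]; exact h1)
      rw [mul_assoc, cs.simple_mul_simple_self, mul_one] at h2
      exact delta_simple_symm h2
    · exact hadj1 w i h1
  have hchart : Chart Δ f := chart_of_adj hadj
  refine ⟨fun w => f (v⁻¹ * w), hchart.translate v⁻¹, ?_, ?_⟩
  · change f (v⁻¹ * v) = x
    rw [inv_mul_cancel]
    exact ((Δ.eq_one _ _).1 (hf1 1)).symm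
  · change f (v⁻¹ * (v * w0 cs)) = y
    rw [inv_mul_cancel_left]
    refine (Δ.eq_one _ _).1 ?_
    rw [hf2, inv_mul_cancel]

/-- An isometry which is the identity on the panels of a chamber and fixes an opposite chamber is
the identity. -/
theorem aut_eq_of_rigid (hth : Δ.Thick) {g h : Equiv.Perm C} (hg : g ∈ Aut Δ) (hh : h ∈ Aut Δ)
    {c d : C} (hcd : Δ.Opp c d) (h1 : ∀ y ∈ Δ.E1 c, g y = h y) (hd : g d = h d) : g = h := by
  ext x
  refine Rigid.rigid (Δ := Δ) (Δ' := Δ) hth (J := Set.univ) (c := c) (d := d) (φ := g) (ψ := h)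
    (fun a _ b _ => hg a b) (fun a _ b _ => hh a b) (fun j _ y hy => h1 y ⟨j, hy⟩) hcd hd x ?_
  change Δ.δ c x ∈ WJ cs Set.univ
  rw [WJ_univ]
  exact Subgroup.mem_top _

end Charts

end Cfsg.Agent.Tits.MouDefs
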