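import Mathlib
import Cfsg.Agent.ChevalleyStructure.CoxeterGeom
/-!
Roots of a finite crystallographic Coxeter group (on top of `ChevalleyStructure.CoxeterGeom`).

* `exists_cartan` : a Coxeter matrix with labels in `{2,3,4,6}` has a Cartan matrix;
* `IsRoot`, positivity, `s_i` permutes the positive roots different from `α_i`, roots are primitive;
* the `W`-invariant integral form `form`, dominance;
* `Good`, `conn` : the good chambers of a root are connected.
-/

set_option autoImplicit false

namespace Cfsg.Agent.Tits.Roots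

open CoxeterSystem Cfsg.Agent.ChevalleyStructure.CoxeterGeom

/-- Existence of a Cartan matrix. -/
theorem exists_cartan {I : Type*} [Finite I] (M : CoxeterMatrix I)
    (hM : ∀ i j, i ≠ j → M i j = 2 ∨ M i j = 3 ∨ M i j = 4 ∨ M i j = 6) :
    ∃ A : I → I → ℤ, IsCartan M A := by
  classical
  obtain ⟨n, ⟨e⟩⟩ := Finite.exists_equiv_fin I
  refine ⟨fun i j => if i = j then 2 else if M i j = 2 then 0 else if M i j = 3 then -1 else
    if e i < e j then -1 else if M i j = 4 then -2 else -3, ⟨fun i => by simp, fun i j hij => ?_⟩⟩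
  have hji : j ≠ i := Ne.symm hij
  have hs : M j i = M i j := M.symmetric i j ▸ rfl
  have hlt : e i < e j ∨ e j < e i := lt_or_gt_of_ne (fun h => hij (e.injective h))
  rcases hM i j hij with h | h | h | h
  · left; simp [hij, hji, hs, h]
  · right; left; simp [hij, hji, hs, h]
  · right; right; left
    rcases hlt with h1 | h1
    · simp [hij, hji, hs, h, h1, not_lt_of_gt h1]
    · simp [hij, hji, hs, h, h1, not_lt_of_gt h1]
  · right; right; right
    rcases hlt with h1 | h1
    · simp [hij, hji, hs, h, h1, not_lt_of_gt h1]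
    · simp [hij, hji, hs, h, h1, not_lt_of_gt h1]

variable {I W : Type*} [Fintype I] [DecidableEq I] [Group W] {M : CoxeterMatrix I}
  (cs : CoxeterSystem M W) {A : I → I → ℤ} (h : IsCartan M A)

/-- The simple root `α_i`. -/
def sr (i : I) : I → ℤ := Pi.single i 1

omit [Fintype I] in
theorem sr_self (i : I) : sr i i = 1 := by simp [sr]

omit [Fintype I] in
theorem sr_ne {i j : I} (hij : j ≠ i) : sr i j = 0 := by simp [sr, hij]

omit [Fintype I] in
theorem sr_nonneg (i : I) : (0 : I → ℤ) ≤ sr i := Pi.single_nonneg.2 zero_le_one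

/-- `x` is a root. -/
def IsRoot (x : I → ℤ) : Prop := ∃ w i, x = rep cs h w (sr i)

theorem isRoot_sr (i : I) : IsRoot cs h (sr i) := ⟨1, i, by rw [map_one, Module.End.one_apply]⟩

theorem rep_inv_apply (w : W) (x : I → ℤ) : rep cs h w⁻¹ (rep cs h w x) = x := by
  rw [← rep_mul_apply, inv_mul_cancel, map_one, Module.End.one_apply]

theorem rep_apply_inv (w : W) (x : I → ℤ) : rep cs h w (rep cs h w⁻¹ x) = x := by
  rw [← rep_mul_apply, mul_inv_cancel, map_one, Module.End.one_apply]

variable {cs h} in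
theorem IsRoot.act {x : I → ℤ} (hx : IsRoot cs h x) (w : W) : IsRoot cs h (rep cs h w x) := by
  obtain ⟨v, i, rfl⟩ := hx
  exact ⟨w * v, i, by rw [rep_mul_apply]⟩

variable {cs h} in
theorem IsRoot.neg {x : I → ℤ} (hx : IsRoot cs h x) : IsRoot cs h (-x) := by
  obtain ⟨v, i, rfl⟩ := hx
  exact ⟨v * cs.simple i, i, by rw [sr, rep_mul_simple_single]⟩

variable {cs h} in
theorem IsRoot.pos_or_neg {x : I → ℤ} (hx : IsRoot cs h x) : 0 ≤ x ∨ x ≤ 0 := by
  obtain ⟨v, i, rfl⟩ := hx
  exact nonneg_or_nonpos cs h v i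

variable {cs h} in
theorem IsRoot.ne_zero {x : I → ℤ} (hx : IsRoot cs h x) : x ≠ 0 := by
  obtain ⟨v, i, rfl⟩ := hx
  exact rep_single_ne_zero cs h v i

variable {cs h} in
theorem IsRoot.not_pos_neg {x : I → ℤ} (hx : IsRoot cs h x) (h1 : 0 ≤ x) : ¬ x ≤ 0 :=
  fun h2 => hx.ne_zero (le_antisymm h2 h1)

variable {cs h} in
theorem IsRoot.not_nonneg_iff {x : I → ℤ} (hx : IsRoot cs h x) : ¬ 0 ≤ x ↔ x ≤ 0 := by
  constructor
  · intro h1; exact hx.pos_or_neg.resolve_left h1
  · intro h1 h2; exact hx.not_pos_neg h2 h1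

variable {cs h} in
theorem IsRoot.not_nonneg_iff_neg {x : I → ℤ} (hx : IsRoot cs h x) : ¬ 0 ≤ x ↔ 0 ≤ -x := by
  rw [hx.not_nonneg_iff, neg_nonneg]

/-- Roots are primitive vectors. -/
theorem isUnit_of_smul {x y : I → ℤ} (hx : IsRoot cs h x) (m : ℤ) (hxy : x = m • y) : IsUnit m := by
  obtain ⟨w, i, rfl⟩ := hx
  have h1 := congrArg (rep cs h w⁻¹) hxy
  rw [rep_inv_apply, map_smul] at h1
  have h2 := congrFun h1 i
  rw [sr_self, Pi.smul_apply, smul_eq_mul] at h2
  exact IsUnit.of_mul_eq_one _ h2.symm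

theorem rep_simple_apply (i : I) (x : I → ℤ) (k : I) (hk : k ≠ i) :
    rep cs h (cs.simple i) x k = x k := by
  rw [rep_simple, refl_apply, Pi.sub_apply, Pi.single_apply, if_neg hk, sub_zero]

theorem rep_simple_apply_self (i : I) (x : I → ℤ) :
    rep cs h (cs.simple i) x i = x i - pairing A i x := by
  rw [rep_simple, refl_apply, Pi.sub_apply, Pi.single_apply, if_pos rfl]

theorem rep_simple_eq (i : I) (x : I → ℤ) :
    rep cs h (cs.simple i) x = x - pairing A i x • sr i := by
  rw [rep_simple, refl_apply, sr, ← Pi.single_smul, smul_eq_mul, mul_one]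

theorem rep_simple_sr (i : I) : rep cs h (cs.simple i) (sr i) = - sr i := by
  rw [rep_simple, sr, refl_single_self h]

variable {cs h} in
/-- A positive root supported at `i` is `α_i`. -/
theorem IsRoot.eq_sr {x : I → ℤ} (hx : IsRoot cs h x) (h0 : 0 ≤ x) (i : I) (hi : ∀ k, k ≠ i → x k = 0) :
    x = sr i := by
  have h1 : x = x i • sr i := by
    funext k
    by_cases hk : k = i
    · subst hk; rw [Pi.smul_apply, sr_self, smul_eq_mul, mul_one]
    · rw [Pi.smul_apply, sr_ne hk, smul_zero, hi k hk]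
  have h2 := isUnit_of_smul cs h hx _ h1
  rcases Int.isUnit_iff.1 h2 with h3 | h3
  · rw [h3, one_smul] at h1; exact h1
  · have h4 := h0 i
    rw [h3] at h4
    exact absurd h4 (by simp)

variable {cs h} in
/-- `s_i` permutes the positive roots other than `α_i`. -/
theorem IsRoot.simple_nonneg {x : I → ℤ} (hx : IsRoot cs h x) (h0 : 0 ≤ x) (i : I) (hi : x ≠ sr i) :
    0 ≤ rep cs h (cs.simple i) x := by
  by_cases hk : ∀ k, k ≠ i → x k = 0
  · exact absurd (hx.eq_sr h0 i hk) hi
  · push Not at hk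
    obtain ⟨k, hk, hk0⟩ := hk
    rcases (hx.act (cs.simple i)).pos_or_neg with h1 | h1
    · exact h1
    · have h2 := h1 k
      rw [rep_simple_apply cs h i x k hk] at h2
      exact absurd (le_antisymm h2 (h0 k)) hk0

/-! ### pairing and labels -/

include h in
omit [Fintype I] [DecidableEq I] in
theorem cartan_nonpos {i j : I} (hij : i ≠ j) : A i j ≤ 0 := by
  rcases h.rel i j hij with ⟨_, h1, _⟩ | ⟨_, h1, _⟩ | ⟨_, ⟨h1, _⟩ | ⟨h1, _⟩⟩ | ⟨_, ⟨h1, _⟩ | ⟨h1, _⟩⟩ <;>
    rw [h1] <;> decide

include h in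
omit [Fintype I] [DecidableEq I] in
theorem cartan_neg {i j : I} (hij : i ≠ j) (h2 : M i j ≠ 2) : A i j < 0 := by
  rcases h.rel i j hij with ⟨h0, h1, _⟩ | ⟨_, h1, _⟩ | ⟨_, ⟨h1, _⟩ | ⟨h1, _⟩⟩ | ⟨_, ⟨h1, _⟩ | ⟨h1, _⟩⟩
  · exact absurd h0 h2
  all_goals rw [h1]; decide

include h in
omit [Fintype I] [DecidableEq I] in
theorem cartan_zero {i j : I} (hij : i ≠ j) (h2 : M i j = 2) : A i j = 0 := by
  rcases h.rel i j hij with ⟨h0, h1, _⟩ | ⟨h0, _⟩ | ⟨h0, _⟩ | ⟨h0, _⟩
  · exact h1
  all_goals rw [h0] at h2; exact absurd h2 (by decide)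

include h in
omit [DecidableEq I] in
/-- If `x ≥ 0`, `x_k = 0` and `x_q > 0` for some neighbour `q` of `k`, then `⟨x, α_k^∨⟩ < 0`. -/
theorem pairing_neg {x : I → ℤ} (h0 : 0 ≤ x) {k q : I} (hk : x k = 0) (hq : 0 < x q) (hkq : M k q ≠ 2) :
    pairing A k x < 0 := by
  have hne : k ≠ q := by rintro rfl; omega
  unfold pairing
  refine Finset.sum_neg' (fun j _ => ?_) ⟨q, Finset.mem_univ q, ?_⟩
  · by_cases hj : j = k
    · subst hj; rw [hk, mul_zero]
    · exact mul_nonpos_of_nonpos_of_nonneg (cartan_nonpos h (Ne.symm hj)) (h0 j)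
  · exact mul_neg_of_neg_of_pos (cartan_neg h hne hkq) hq

/-! ### The invariant form -/

/-- A `W`-invariant form. -/
noncomputable def form [Fintype W] (x y : I → ℤ) : ℤ := ∑ w : W, ∑ b, (rep cs h w x) b * (rep cs h w y) b

variable [Fintype W]

theorem form_comm (x y : I → ℤ) : form cs h x y = form cs h y x := by
  unfold form
  exact Finset.sum_congr rfl fun w _ => Finset.sum_congr rfl fun b _ => mul_comm _ _

theorem form_add_right (x y z : I → ℤ) : form cs h x (y + z) = form cs h x y + form cs h x z := by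
  unfold form
  simp only [map_add, Pi.add_apply, mul_add, Finset.sum_add_distrib]

theorem form_smul_right (c : ℤ) (x y : I → ℤ) : form cs h x (c • y) = c * form cs h x y := by
  unfold form
  simp only [map_smul, Pi.smul_apply, smul_eq_mul, Finset.mul_sum]
  exact Finset.sum_congr rfl fun w _ => Finset.sum_congr rfl fun b _ => by ring

theorem form_neg_right (x y : I → ℤ) : form cs h x (-y) = - form cs h x y := by
  have := form_smul_right cs h (-1) x y
  rwa [neg_one_smul, neg_one_mul] at this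

theorem form_sub_right (x y z : I → ℤ) : form cs h x (y - z) = form cs h x y - form cs h x z := by
  rw [sub_eq_add_neg, form_add_right, form_neg_right, sub_eq_add_neg]

theorem form_zero_right (x : I → ℤ) : form cs h x 0 = 0 := by
  have := form_smul_right cs h 0 x 0
  rwa [zero_smul, zero_mul] at this

theorem form_add_left (x y z : I → ℤ) : form cs h (x + y) z = form cs h x z + form cs h y z := by
  rw [form_comm, form_add_right, form_comm cs h z x, form_comm cs h z y]

theorem form_smul_left (c : ℤ) (x y : I → ℤ) : form cs h (c • x) y = c * form cs h x y := by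
  rw [form_comm, form_smul_right, form_comm]

theorem form_neg_left (x y : I → ℤ) : form cs h (-x) y = - form cs h x y := by
  rw [form_comm, form_neg_right, form_comm]

theorem form_sub_left (x y z : I → ℤ) : form cs h (x - y) z = form cs h x z - form cs h y z := by
  rw [form_comm, form_sub_right, form_comm cs h z x, form_comm cs h z y]

theorem form_rep (g : W) (x y : I → ℤ) : form cs h (rep cs h g x) (rep cs h g y) = form cs h x y := by
  unfold form
  refine Fintype.sum_equiv (Equiv.mulRight g) _ _ fun w => ?_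
  simp only [Equiv.coe_mulRight, rep_mul_apply]

theorem form_rep_left (g : W) (x y : I → ℤ) : form cs h (rep cs h g x) y = form cs h x (rep cs h g⁻¹ y) := by
  rw [← form_rep cs h g x, rep_apply_inv]

theorem form_pos {x : I → ℤ} (hx : x ≠ 0) : 0 < form cs h x x := by
  unfold form
  have hn : ∀ w : W, 0 ≤ ∑ b, (rep cs h w x) b * (rep cs h w x) b := fun w =>
    Finset.sum_nonneg fun b _ => mul_self_nonneg _
  refine Finset.sum_pos' (fun w _ => hn w) ⟨1, Finset.mem_univ _, ?_⟩
  rw [map_one, Module.End.one_apply]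
  obtain ⟨b, hb⟩ : ∃ b, x b ≠ 0 := by
    by_contra hcon
    push Not at hcon
    exact hx (funext hcon)
  exact Finset.sum_pos' (fun b _ => mul_self_nonneg _) ⟨b, Finset.mem_univ _, mul_self_pos.2 hb⟩

theorem form_nonneg (x : I → ℤ) : 0 ≤ form cs h x x := by
  by_cases hx : x = 0
  · rw [hx, form_zero_right]
  · exact (form_pos cs h hx).le

omit [Fintype I] in
theorem sr_ne_zero (i : I) : (sr i : I → ℤ) ≠ 0 := by
  intro h0
  have := congrFun h0 i
  rw [sr_self] at this
  exact one_ne_zero this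

/-- `2 (x, α_i) = ⟨x, α_i^∨⟩ (α_i, α_i)`. -/
theorem two_form (i : I) (x : I → ℤ) :
    2 * form cs h x (sr i) = pairing A i x * form cs h (sr i) (sr i) := by
  have h1 := form_rep cs h (cs.simple i) x (sr i)
  rw [rep_simple_sr, rep_simple_eq, form_neg_right, form_sub_left, form_smul_left] at h1
  linarith

theorem form_sr_pos_iff (i : I) (x : I → ℤ) : 0 < form cs h x (sr i) ↔ 0 < pairing A i x := by
  have h1 := two_form cs h i x
  have h2 := form_pos cs h (sr_ne_zero i)
  constructor
  · intro h3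
    by_contra h4
    have := mul_nonpos_of_nonpos_of_nonneg (not_lt.1 h4) h2.le
    linarith
  · intro h3
    have := mul_pos h3 h2
    linarith

theorem form_sr_nonneg_iff (i : I) (x : I → ℤ) : 0 ≤ form cs h x (sr i) ↔ 0 ≤ pairing A i x := by
  have h1 := two_form cs h i x
  have h2 := form_pos cs h (sr_ne_zero i)
  constructor
  · intro h3
    by_contra h4
    have := mul_neg_of_neg_of_pos (not_le.1 h4) h2
    linarith
  · intro h3
    have := mul_nonneg h3 h2.le
    linarith

theorem form_eq_sum (x y : I → ℤ) : form cs h x y = ∑ k, y k * form cs h x (sr k) := by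
  have hy : y = ∑ k, y k • sr k := by
    funext b
    rw [Finset.sum_apply]
    simp only [Pi.smul_apply, smul_eq_mul, sr, Pi.single_apply]
    simp
  have hl : ∀ (s : Finset I), form cs h x (∑ k ∈ s, y k • sr k) = ∑ k ∈ s, y k * form cs h x (sr k) := by
    intro s
    induction s using Finset.induction_on with
    | empty => rw [Finset.sum_empty, Finset.sum_empty, form_zero_right]
    | insert a s ha ih => rw [Finset.sum_insert ha, Finset.sum_insert ha, form_add_right, form_smul_right, ih]
  conv_lhs => rw [hy]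
  exact hl Finset.univ

/-- `x` is dominant. -/
def Dom (A : I → I → ℤ) (x : I → ℤ) : Prop := ∀ i, 0 ≤ pairing A i x

theorem form_nonneg_of_dom {x y : I → ℤ} (hx : Dom A x) (hy : 0 ≤ y) : 0 ≤ form cs h x y := by
  rw [form_eq_sum]
  exact Finset.sum_nonneg fun k _ => mul_nonneg (hy k) ((form_sr_nonneg_iff cs h k x).2 (hx k))

include cs h in
/-- A positive vector has a positive coefficient `x_i` with `⟨x, α_i^∨⟩ > 0`. -/
theorem exists_pairing_pos {x : I → ℤ} (h0 : 0 ≤ x) (hx : x ≠ 0) : ∃ i, 0 < x i ∧ 0 < pairing A i x := by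
  by_contra hcon
  push Not at hcon
  have h1 := form_pos cs h hx
  rw [form_eq_sum] at h1
  refine absurd h1 (not_lt.2 (Finset.sum_nonpos fun k _ => ?_))
  rcases (h0 k).lt_or_eq with h2 | h2
  · refine mul_nonpos_of_nonneg_of_nonpos h2.le ?_
    by_contra h3
    exact absurd ((form_sr_pos_iff cs h k x).1 (not_le.1 h3)) (not_lt.2 (hcon k h2))
  · rw [← h2]
    simp

/-! ### Good chambers -/

omit [Fintype W] in
/-- `w` is a good chamber for the root `r`: `w⁻¹ r` is a positive root whose support has at least three elements. -/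
def Good (r : I → ℤ) (w : W) : Prop :=
  0 ≤ rep cs h w⁻¹ r ∧ ∀ i j, ∃ k, k ≠ i ∧ k ≠ j ∧ 0 < rep cs h w⁻¹ r k

omit [Fintype W] in
theorem rep_mul_simple_inv (r : I → ℤ) (w : W) (i : I) :
    rep cs h (w * cs.simple i)⁻¹ r = rep cs h (cs.simple i) (rep cs h w⁻¹ r) := by
  rw [mul_inv_rev, inv_simple, rep_mul_apply]

/-- The height of a vector. -/
def ht (x : I → ℤ) : ℤ := ∑ k, x k

omit [Fintype W] in
theorem ht_simple (i : I) (x : I → ℤ) : ht (rep cs h (cs.simple i) x) = ht x - pairing A i x := by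
  rw [rep_simple_eq]
  unfold ht
  simp only [Pi.sub_apply, Pi.smul_apply, smul_eq_mul, Finset.sum_sub_distrib]
  congr 1
  simp only [sr, Pi.single_apply]
  simp

omit [Fintype W] in
theorem good_climb {r : I → ℤ} {w : W} (hw : Good cs h r w) {i : I}
    (hi : pairing A i (rep cs h w⁻¹ r) ≤ 0) : Good cs h r (w * cs.simple i) := by
  have hle : ∀ k, rep cs h w⁻¹ r k ≤ rep cs h (w * cs.simple i)⁻¹ r k := by
    intro k
    rw [rep_mul_simple_inv]
    by_cases hk : k = i
    · subst hk; rw [rep_simple_apply_self]; linarith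
    · rw [rep_simple_apply cs h i _ k hk]
  refine ⟨fun k => (hw.1 k).trans (hle k), fun a b => ?_⟩
  obtain ⟨k, h1, h2, h3⟩ := hw.2 a b
  exact ⟨k, h1, h2, h3.trans_le (hle k)⟩

omit [Fintype W] in
/-- Adjacency of good chambers. -/
def Adj (r : I → ℤ) (u v : W) : Prop := Good cs h r u ∧ Good cs h r v ∧ ∃ i, v = u * cs.simple i

omit [Fintype W] in
theorem Adj.symm {r : I → ℤ} {u v : W} (huv : Adj cs h r u v) : Adj cs h r v u := by
  obtain ⟨h1, h2, i, rfl⟩ := huv
  exact ⟨h2, h1, i, by rw [simple_mul_simple_cancel_right]⟩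

omit [Fintype W] in
theorem conn_symm {r : I → ℤ} {u v : W} (huv : Relation.ReflTransGen (Adj cs h r) u v) :
    Relation.ReflTransGen (Adj cs h r) v u := by
  induction huv with
  | refl => exact Relation.ReflTransGen.refl
  | tail _ h2 ih => exact Relation.ReflTransGen.head (Adj.symm cs h h2) ih

omit [Fintype W] in
/-- Every good chamber is connected to a good chamber where the root is dominant. -/
theorem exists_dom [Finite W] {r : I → ℤ} {w : W} (hw : Good cs h r w) :
    ∃ v, Good cs h r v ∧ Relation.ReflTransGen (Adj cs h r) w v ∧ Dom A (rep cs h v⁻¹ r) := by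
  let S : Set W := {v | Good cs h r v ∧ Relation.ReflTransGen (Adj cs h r) w v}
  have hS : S.Finite := Set.toFinite S
  have hne : S.Nonempty := ⟨w, hw, Relation.ReflTransGen.refl⟩
  obtain ⟨v, ⟨hv1, hv2⟩, hmax⟩ := Set.exists_max_image S (fun v => ht (rep cs h v⁻¹ r)) hS hne
  refine ⟨v, hv1, hv2, fun i => ?_⟩
  by_contra hneg
  have hneg' := not_le.1 hneg
  have hg : Good cs h r (v * cs.simple i) := good_climb cs h hv1 hneg'.le
  have h1 := hmax (v * cs.simple i) ⟨hg, hv2.tail ⟨hv1, hg, i, rfl⟩⟩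
  rw [rep_mul_simple_inv, ht_simple] at h1
  linarith

/-- Two good chambers where the root is dominant are connected. -/
theorem conn_of_dom {r : I → ℤ} (n : ℕ) : ∀ {u v : W}, Good cs h r u → Good cs h r v →
    Dom A (rep cs h u⁻¹ r) → Dom A (rep cs h v⁻¹ r) → cs.length (v⁻¹ * u) = n →
    Relation.ReflTransGen (Adj cs h r) u v := by
  induction n using Nat.strong_induction_on with
  | _ n ih =>
    intro u v hu hv hdu hdv hn
    by_cases h1 : v⁻¹ * u = 1
    · have : u = v := by rw [inv_mul_eq_one] at h1; exact h1.symm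
      rw [this]
    · obtain ⟨i, hi⟩ := cs.exists_rightDescent_of_ne_one h1
      have hi' : cs.length (v⁻¹ * u * cs.simple i) < cs.length (v⁻¹ * u) := hi
      have h2 : rep cs h (v⁻¹ * u) (sr i) ≤ 0 := nonpos_of_lt cs h _ i hi'
      have h3 : form cs h (rep cs h u⁻¹ r) (sr i) = form cs h (rep cs h v⁻¹ r) (rep cs h (v⁻¹ * u) (sr i)) := by
        rw [← form_rep cs h (v⁻¹ * u)]
        congr 1
        rw [rep_mul_apply, rep_apply_inv]
      have h4 : form cs h (rep cs h v⁻¹ r) (rep cs h (v⁻¹ * u) (sr i)) ≤ 0 := by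
        have := form_nonneg_of_dom cs h hdv (neg_nonneg.2 h2)
        rw [form_neg_right] at this
        linarith
      have h5 : pairing A i (rep cs h u⁻¹ r) = 0 := by
        have h6 := two_form cs h i (rep cs h u⁻¹ r)
        have h7 := form_pos cs h (sr_ne_zero (I := I) i)
        have h8 := hdu i
        rw [h3] at h6
        by_contra hne
        have h9 : 0 < pairing A i (rep cs h u⁻¹ r) := lt_of_le_of_ne h8 (Ne.symm hne)
        have := mul_pos h9 h7
        linarith
      have h6 : rep cs h (u * cs.simple i)⁻¹ r = rep cs h u⁻¹ r := by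
        rw [rep_mul_simple_inv, rep_simple_eq, h5, zero_smul, sub_zero]
      have h7 : Good cs h r (u * cs.simple i) := good_climb cs h hu h5.le
      have h8 := ih (cs.length (v⁻¹ * (u * cs.simple i))) (by rw [← mul_assoc]; omega) h7 hv
        (by rw [h6]; exact hdu) hdv rfl
      exact Relation.ReflTransGen.head ⟨hu, h7, i, rfl⟩ h8

/-- The good chambers of a root are connected. -/
theorem conn {r : I → ℤ} {u v : W} (hu : Good cs h r u) (hv : Good cs h r v) :
    Relation.ReflTransGen (Adj cs h r) u v := by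
  obtain ⟨u', h1, h2, h3⟩ := exists_dom cs h hu
  obtain ⟨v', h4, h5, h6⟩ := exists_dom cs h hv
  exact (h2.trans (conn_of_dom cs h _ h1 h4 h3 h6 rfl)).trans (conn_symm cs h h5)

end Cfsg.Agent.Tits.Roots
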