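import Mathlib
import Cfsg.Agent.Tits.Core
import Cfsg.Agent.Tits.Roots
/-!
Combinatorics of the roots (half-apartments) of a finite irreducible Coxeter group of rank at least three, statements
(C0), (C1), (C2) of `blueprints/S1143-MOU.md`.

* `rt cs w i : Set W` : the root `w · α_i`, `{v | ℓ (w⁻¹ v) < ℓ (s_i w⁻¹ v)}`;
* `Deep cs A v` : all rank two residues of `v` are contained in `A`;
* `exists_deep` (C0), `deep_conn` (C1), `exists_deep_wall` (C2).
-/

set_option autoImplicit false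

namespace Cfsg.Agent.Tits.RootComb

open CoxeterSystem Cfsg.Agent.ChevalleyStructure.CoxeterGeom Cfsg.Agent.Tits.Roots Cfsg.Agent.Tits.Core

/-- The root `w · α_i`. -/
def rt {I W : Type*} [Group W] {M : CoxeterMatrix I} (cs : CoxeterSystem M W) (w : W) (i : I) : Set W :=
  {v | cs.length (w⁻¹ * v) < cs.length (cs.simple i * (w⁻¹ * v))}

/-- `v` is deep in `A`: all the rank two residues of `v` lie in `A`. -/
def Deep {I W : Type*} [Group W] {M : CoxeterMatrix I} (cs : CoxeterSystem M W) (A : Set W) (v : W) : Prop :=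
  ∀ k l : I, ∀ u ∈ WJ cs {k, l}, v * u ∈ A

/-- Hypotheses on the diagram: connected, at least three nodes, labels in `{2,3,4,6}`. -/
structure Diag {I : Type*} (M : CoxeterMatrix I) : Prop where
  labels : ∀ i j, i ≠ j → M i j = 2 ∨ M i j = 3 ∨ M i j = 4 ∨ M i j = 6
  conn : ∀ J : Set I, J.Nonempty → J ≠ Set.univ → ∃ a ∈ J, ∃ b, b ∉ J ∧ M a b ≠ 2
  three : ∀ i j : I, ∃ k, k ≠ i ∧ k ≠ j

section Fin

variable {I W : Type*} [Fintype I] [DecidableEq I] [Group W] {M : CoxeterMatrix I}
  (cs : CoxeterSystem M W) {A : I → I → ℤ} (h : IsCartan M A)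

theorem mem_rt_iff (w v : W) (i : I) : v ∈ rt cs w i ↔ 0 ≤ rep cs h v⁻¹ (rep cs h w (sr i)) := by
  have h1 := lt_iff' cs h (v⁻¹ * w) i
  rw [← rep_mul_apply, sr, ← h1]
  unfold rt
  rw [Set.mem_ofPred_eq, ← cs.length_inv (w⁻¹ * v), ← cs.length_inv (cs.simple i * (w⁻¹ * v))]
  simp only [mul_inv_rev, inv_inv, inv_simple]

theorem isRoot_rt (w : W) (i : I) : IsRoot cs h (rep cs h w (sr i)) := ⟨w, i, rfl⟩

/-- Elements of `W_J` do not change the coordinates outside `J`. -/
theorem rep_apply_of_mem {J : Set I} {u : W} (hu : u ∈ WJ cs J) (x : I → ℤ) {k : I} (hk : k ∉ J) :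
    rep cs h u x k = x k := by
  induction hu using Subgroup.closure_induction generalizing x with
  | mem y hy =>
    obtain ⟨j, hj, rfl⟩ := hy
    exact rep_simple_apply cs h j x k (fun hkj => hk (hkj ▸ hj))
  | one => rw [map_one, Module.End.one_apply]
  | mul y z _ _ ihy ihz => rw [rep_mul_apply, ihy, ihz]
  | inv y _ ih =>
    have := ih (rep cs h y⁻¹ x)
    rw [rep_apply_inv] at this
    exact this.symm

theorem deep_of_good {w : W} {i : I} {v : W} (hg : Good cs h (rep cs h w (sr i)) v) :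
    Deep cs (rt cs w i) v := by
  intro k l u hu
  rw [mem_rt_iff cs h]
  obtain ⟨m, h1, h2, h3⟩ := hg.2 k l
  have hm : m ∉ ({k, l} : Set I) := by
    rintro (h4 | h4)
    · exact h1 h4
    · exact h2 h4
  have h4 : rep cs h (v * u)⁻¹ (rep cs h w (sr i)) m = rep cs h v⁻¹ (rep cs h w (sr i)) m := by
    rw [mul_inv_rev, rep_mul_apply]
    exact rep_apply_of_mem cs h (inv_mem hu) _ hm
  rcases ((isRoot_rt cs h w i).act (v * u)⁻¹).pos_or_neg with h5 | h5
  · exact h5
  · have h6 := h5 m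
    rw [h4] at h6
    exact absurd h6 (not_le.2 h3)

theorem good_of_deep [Finite W] {w : W} {i : I} {v : W} (hd : Deep cs (rt cs w i) v) :
    Good cs h (rep cs h w (sr i)) v := by
  classical
  have : Fintype W := Fintype.ofFinite W
  have h0 : ∀ k l, ∀ u ∈ WJ cs {k, l}, 0 ≤ rep cs h (v * u)⁻¹ (rep cs h w (sr i)) := by
    intro k l u hu
    rw [← mem_rt_iff cs h]
    exact hd k l u hu
  have h1 : 0 ≤ rep cs h v⁻¹ (rep cs h w (sr i)) := by
    have := h0 i i 1 (one_mem _)
    rwa [mul_one] at this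
  refine ⟨h1, fun k l => ?_⟩
  by_contra hcon
  push Not at hcon
  obtain ⟨u, hu, hmin⟩ := Set.exists_min_image (WJ cs ({k, l} : Set I) : Set W)
    (fun u => ht (rep cs h (v * u)⁻¹ (rep cs h w (sr i)))) (Set.toFinite _) ⟨1, one_mem _⟩
  have hr := (isRoot_rt cs h w i).act (v * u)⁻¹
  obtain ⟨m, hm1, hm2⟩ := exists_pairing_pos cs h (h0 k l u hu) hr.ne_zero
  have hm : m ∈ ({k, l} : Set I) := by
    by_contra hm
    have h4 : rep cs h (v * u)⁻¹ (rep cs h w (sr i)) m = rep cs h v⁻¹ (rep cs h w (sr i)) m := by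
      rw [mul_inv_rev, rep_mul_apply]
      exact rep_apply_of_mem cs h (inv_mem hu) _ hm
    rw [h4] at hm1
    refine absurd hm1 (not_lt.2 (hcon m ?_ ?_))
    · rintro rfl; exact hm (Set.mem_insert _ _)
    · rintro rfl; exact hm (Set.mem_insert_of_mem _ rfl)
  have h5 := hmin (u * cs.simple m) (mul_mem hu (Subgroup.subset_closure ⟨m, hm, rfl⟩))
  rw [← mul_assoc, rep_mul_simple_inv, ht_simple] at h5
  linarith

theorem deep_iff_good [Finite W] {w : W} {i : I} {v : W} :
    Deep cs (rt cs w i) v ↔ Good cs h (rep cs h w (sr i)) v :=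
  ⟨good_of_deep cs h, deep_of_good cs h⟩

/-- Three distinct positive coordinates. -/
theorem good_of_three {r : I → ℤ} (hr : IsRoot cs h r) {w : W} {a b c : I} (hab : a ≠ b) (hac : a ≠ c) (hbc : b ≠ c)
    (ha : 0 < rep cs h w⁻¹ r a) (hb : 0 < rep cs h w⁻¹ r b) (hc : 0 < rep cs h w⁻¹ r c) : Good cs h r w := by
  refine ⟨?_, fun i j => ?_⟩
  · rcases (hr.act w⁻¹).pos_or_neg with h1 | h1
    · exact h1
    · exact absurd (h1 a) (not_le.2 ha)
  · by_cases h1 : a ≠ i ∧ a ≠ j
    · exact ⟨a, h1.1, h1.2, ha⟩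
    by_cases h2 : b ≠ i ∧ b ≠ j
    · exact ⟨b, h2.1, h2.2, hb⟩
    refine ⟨c, ?_, ?_, hc⟩
    · rintro rfl
      rw [not_and_or, not_not, not_not] at h1 h2
      rcases h1 with h1 | h1
      · exact hac h1
      · rcases h2 with h2 | h2
        · exact hbc h2
        · exact hab (h1.trans h2.symm)
    · rintro rfl
      rw [not_and_or, not_not, not_not] at h1 h2
      rcases h1 with h1 | h1
      · rcases h2 with h2 | h2
        · exact hab (h1.trans h2.symm)
        · exact hbc h2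
      · exact hac h1

/-- New coordinates appear at the neighbours of the support. -/
theorem new_coord {x : I → ℤ} (h0 : 0 ≤ x) {k q : I} (hk : x k = 0) (hq : 0 < x q) (hkq : M q k ≠ 2) :
    0 < rep cs h (cs.simple k) x k := by
  rw [rep_simple_apply_self, hk]
  have := pairing_neg h h0 hk hq (by rw [M.symmetric]; exact hkq)
  linarith

theorem old_coord {x : I → ℤ} {k q : I} (hqk : q ≠ k) (hq : 0 < x q) :
    0 < rep cs h (cs.simple k) x q := by
  rw [rep_simple_apply cs h k x q hqk]; exact hq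

theorem simple_nonneg_of_zero {x : I → ℤ} (h0 : 0 ≤ x) {k : I} (hk : x k = 0) :
    0 ≤ rep cs h (cs.simple k) x := by
  intro m
  by_cases hm : m = k
  · subst hm
    rw [rep_simple_apply_self, hk]
    have : pairing A m x ≤ 0 := by
      unfold pairing
      refine Finset.sum_nonpos fun j _ => ?_
      by_cases hj : j = m
      · subst hj; rw [hk, mul_zero]
      · exact mul_nonpos_of_nonpos_of_nonneg (cartan_nonpos h (Ne.symm hj)) (h0 j)
    show (0 : ℤ) ≤ 0 - pairing A m x
    linarith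
  · rw [rep_simple_apply cs h k x m hm]; exact h0 m

omit [Fintype I] [DecidableEq I] in
theorem mul_comm_of_two {k i : I} (hki : M k i = 2) :
    cs.simple k * cs.simple i = cs.simple i * cs.simple k := by
  have h1 : (cs.simple k * cs.simple i) ^ 2 = 1 := by
    rw [← hki]; exact cs.simple_mul_simple_pow k i
  have h2 : cs.simple k * cs.simple i * (cs.simple k * cs.simple i) = 1 := by rw [← pow_two, h1]
  have h3 := eq_inv_of_mul_eq_one_left h2
  rwa [mul_inv_rev, inv_simple, inv_simple] at h3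

/-- **(C0)**, vector form. -/
theorem exists_good (hD : Diag M) {r : I → ℤ} (hr : IsRoot cs h r) : ∃ v, Good cs h r v := by
  obtain ⟨w, i, rfl⟩ := hr
  have hr : IsRoot cs h (rep cs h w (sr i)) := ⟨w, i, rfl⟩
  -- a neighbour `k` of `i`
  obtain ⟨a, ha, k, hk, hak⟩ := hD.conn {i} ⟨i, rfl⟩ (by
    intro hu
    obtain ⟨k, h1, _⟩ := hD.three i i
    have : k ∈ ({i} : Set I) := by rw [hu]; exact Set.mem_univ k
    exact h1 this)
  rw [Set.mem_singleton_iff] at ha hk
  subst ha
  obtain ⟨b, hb, l, hl, hbl⟩ := hD.conn {a, k} ⟨a, Set.mem_insert _ _⟩ (by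
    intro hu
    obtain ⟨m, h1, h2⟩ := hD.three a k
    have : m ∈ ({a, k} : Set I) := by rw [hu]; exact Set.mem_univ m
    rcases this with h3 | h3
    · exact h1 h3
    · exact h2 h3)
  have hla : l ≠ a := fun h1 => hl (h1 ▸ Set.mem_insert _ _)
  have hlk : l ≠ k := fun h1 => hl (h1 ▸ Set.mem_insert_of_mem _ rfl)
  have e0 : rep cs h w⁻¹ (rep cs h w (sr a)) = sr a := rep_inv_apply cs h w _
  have e1 : rep cs h (w * cs.simple k)⁻¹ (rep cs h w (sr a)) = rep cs h (cs.simple k) (sr a) := by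
    rw [rep_mul_simple_inv, e0]
  have e2 : rep cs h (w * cs.simple k * cs.simple l)⁻¹ (rep cs h w (sr a)) =
      rep cs h (cs.simple l) (rep cs h (cs.simple k) (sr a)) := by
    rw [rep_mul_simple_inv, e1]
  have c1 : 0 < rep cs h (cs.simple k) (sr a) k :=
    new_coord cs h (sr_nonneg a) (sr_ne hk) (by rw [sr_self]; exact one_pos) hak
  have c2 : 0 < rep cs h (cs.simple k) (sr a) a :=
    old_coord cs h (Ne.symm hk) (by rw [sr_self]; exact one_pos)
  have c3 : rep cs h (cs.simple k) (sr a) l = 0 := by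
    rw [rep_simple_apply cs h k _ l hlk, sr_ne hla]
  have c4 : 0 ≤ rep cs h (cs.simple k) (sr a) := simple_nonneg_of_zero cs h (sr_nonneg a) (sr_ne hk)
  have c5 : 0 < rep cs h (cs.simple k) (sr a) b := by
    rcases hb with hb | hb
    · rw [hb]; exact c2
    · rw [hb]; exact c1
  refine ⟨w * cs.simple k * cs.simple l, good_of_three cs h hr (a := a) (b := k) (c := l)
    (Ne.symm hk) (Ne.symm hla) (Ne.symm hlk) ?_ ?_ ?_⟩
  · rw [e2]; exact old_coord cs h (Ne.symm hla) c2
  · rw [e2]; exact old_coord cs h (Ne.symm hlk) c1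
  · rw [e2]; exact new_coord cs h c4 c3 c5 hbl

/-- **(C2)**, vector form. -/
theorem exists_good_wall (hD : Diag M) {r : I → ℤ} (hr : IsRoot cs h r) {v : W} {i : I}
    (hv : 0 ≤ rep cs h v⁻¹ r) (hvi : 0 ≤ rep cs h (v * cs.simple i)⁻¹ r) :
    ∃ w, Good cs h r w ∧ ∃ k l, ∃ u ∈ WJ cs {k, l}, ∃ m ∈ ({k, l} : Set I),
      (w * u) * cs.simple m * (w * u)⁻¹ = v * cs.simple i * v⁻¹ := by
  set x := rep cs h v⁻¹ r with hx
  have hxr : IsRoot cs h x := hr.act v⁻¹
  rw [rep_mul_simple_inv, ← hx] at hvi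
  have hxi : x ≠ sr i := by
    rintro h1
    rw [h1, rep_simple_sr] at hvi
    exact (isRoot_sr cs h i).not_pos_neg (sr_nonneg i) (neg_nonneg.1 hvi)
  by_cases hg : ∀ p q, ∃ k, k ≠ p ∧ k ≠ q ∧ 0 < x k
  · refine ⟨v, ⟨hv, hg⟩, i, i, 1, one_mem _, i, Set.mem_insert _ _, ?_⟩
    rw [mul_one]
  push Not at hg
  obtain ⟨p, q, hpq⟩ := hg
  have hz : ∀ k, k ≠ p → k ≠ q → x k = 0 := fun k h1 h2 => le_antisymm (hpq k h1 h2) (hv k)
  -- the support is `{p, q}`
  by_cases hboth : p ≠ q ∧ 0 < x p ∧ 0 < x q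
  · obtain ⟨hne, hp, hq⟩ := hboth
    obtain ⟨b, hb, k, hk, hbk⟩ := hD.conn {p, q} ⟨p, Set.mem_insert _ _⟩ (by
      intro hu
      obtain ⟨m, h1, h2⟩ := hD.three p q
      have : m ∈ ({p, q} : Set I) := by rw [hu]; exact Set.mem_univ m
      rcases this with h3 | h3
      · exact h1 h3
      · exact h2 h3)
    have hkp : k ≠ p := fun h1 => hk (h1 ▸ Set.mem_insert _ _)
    have hkq : k ≠ q := fun h1 => hk (h1 ▸ Set.mem_insert_of_mem _ rfl)
    have hbx : 0 < x b := by
      rcases hb with hb | hb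
      · rw [hb]; exact hp
      · rw [hb]; exact hq
    refine ⟨v * cs.simple k, good_of_three cs h hr (a := p) (b := q) (c := k) hne (Ne.symm hkp) (Ne.symm hkq)
      ?_ ?_ ?_, k, i, cs.simple k, Subgroup.subset_closure ⟨k, Set.mem_insert _ _, rfl⟩, i,
      Set.mem_insert_of_mem _ rfl, ?_⟩
    · rw [rep_mul_simple_inv, ← hx]; exact old_coord cs h (Ne.symm hkp) hp
    · rw [rep_mul_simple_inv, ← hx]; exact old_coord cs h (Ne.symm hkq) hq
    · rw [rep_mul_simple_inv, ← hx]; exact new_coord cs h hv (hz k hkp hkq) hbx hbk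
    · rw [simple_mul_simple_cancel_right]
  -- the support is one element
  obtain ⟨a, ha⟩ : ∃ a, x = sr a := by
    by_cases hp : 0 < x p
    · refine ⟨p, hxr.eq_sr hv p fun k hk => ?_⟩
      by_cases hkq : k = q
      · subst hkq
        by_contra h1
        exact hboth ⟨Ne.symm hk, hp, lt_of_le_of_ne (hv k) (Ne.symm h1)⟩
      · exact hz k hk hkq
    · refine ⟨q, hxr.eq_sr hv q fun k hk => ?_⟩
      by_cases hkp : k = p
      · subst hkp
        exact le_antisymm (not_lt.1 hp) (hv k)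
      · exact hz k hkp hk
  have hai : i ≠ a := by rintro rfl; exact hxi ha
  rw [ha] at hx
  have haa : (0 : ℤ) < (sr a : I → ℤ) a := by rw [sr_self]; exact one_pos
  -- general construction: `a`, a neighbour `k` of `a`, a neighbour `l` of `{a, k}`
  have key : ∀ k, k ≠ a → M a k ≠ 2 → ∀ l, l ≠ a → l ≠ k → (M a l ≠ 2 ∨ M k l ≠ 2) →
      Good cs h r (v * cs.simple k * cs.simple l) := by
    intro k hk hak l hla hlk hl
    have e1 : rep cs h (v * cs.simple k)⁻¹ r = rep cs h (cs.simple k) (sr a) := by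
      rw [rep_mul_simple_inv, ← hx]
    have e2 : rep cs h (v * cs.simple k * cs.simple l)⁻¹ r =
        rep cs h (cs.simple l) (rep cs h (cs.simple k) (sr a)) := by
      rw [rep_mul_simple_inv, e1]
    have c1 : 0 < rep cs h (cs.simple k) (sr a) k :=
      new_coord cs h (sr_nonneg a) (sr_ne hk) haa hak
    have c2 : 0 < rep cs h (cs.simple k) (sr a) a := old_coord cs h (Ne.symm hk) haa
    have c3 : rep cs h (cs.simple k) (sr a) l = 0 := by
      rw [rep_simple_apply cs h k _ l hlk, sr_ne hla]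
    have c4 : 0 ≤ rep cs h (cs.simple k) (sr a) := simple_nonneg_of_zero cs h (sr_nonneg a) (sr_ne hk)
    refine good_of_three cs h hr (a := a) (b := k) (c := l) (Ne.symm hk) (Ne.symm hla) (Ne.symm hlk) ?_ ?_ ?_
    · rw [e2]; exact old_coord cs h (Ne.symm hla) c2
    · rw [e2]; exact old_coord cs h (Ne.symm hlk) c1
    · rw [e2]
      rcases hl with hl | hl
      · exact new_coord cs h c4 c3 c2 hl
      · exact new_coord cs h c4 c3 c1 hl
  have third : ∀ k, k ≠ a → ∃ l, l ≠ a ∧ l ≠ k ∧ (M a l ≠ 2 ∨ M k l ≠ 2) := by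
    intro k hk
    obtain ⟨b, hb, l, hl, hbl⟩ := hD.conn {a, k} ⟨a, Set.mem_insert _ _⟩ (by
      intro hu
      obtain ⟨m, h1, h2⟩ := hD.three a k
      have : m ∈ ({a, k} : Set I) := by rw [hu]; exact Set.mem_univ m
      rcases this with h3 | h3
      · exact h1 h3
      · exact h2 h3)
    refine ⟨l, fun h1 => hl (h1 ▸ Set.mem_insert _ _), fun h1 => hl (h1 ▸ Set.mem_insert_of_mem _ rfl), ?_⟩
    rcases hb with hb | hb
    · left; rw [← hb]; exact hbl
    · right; rw [← hb]; exact hbl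
  by_cases hia : M a i ≠ 2
  · obtain ⟨l, hla, hli, hl⟩ := third i hai
    refine ⟨v * cs.simple i * cs.simple l, key i hai hia l hla hli hl, i, l, cs.simple l,
      Subgroup.subset_closure ⟨l, Set.mem_insert_of_mem _ rfl, rfl⟩, i, Set.mem_insert _ _, ?_⟩
    rw [simple_mul_simple_cancel_right, simple_mul_simple_cancel_right, mul_inv_rev, inv_simple, mul_assoc]
  rw [not_not] at hia
  obtain ⟨b, hb, k, hk, hbk⟩ := hD.conn {a} ⟨a, rfl⟩ (by
    intro hu
    obtain ⟨k, h1, _⟩ := hD.three a a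
    have : k ∈ ({a} : Set I) := by rw [hu]; exact Set.mem_univ k
    exact h1 this)
  rw [Set.mem_singleton_iff] at hb hk
  subst hb
  have hki : k ≠ i := by rintro rfl; exact hbk hia
  by_cases hkin : M k i ≠ 2
  · -- `w = v s_k s_i`
    refine ⟨v * cs.simple k * cs.simple i, key k hk hbk i hai (Ne.symm hki) (Or.inr hkin), k, i,
      cs.simple i * cs.simple k, mul_mem (Subgroup.subset_closure ⟨i, Set.mem_insert_of_mem _ rfl, rfl⟩)
        (Subgroup.subset_closure ⟨k, Set.mem_insert _ _, rfl⟩), i, Set.mem_insert_of_mem _ rfl, ?_⟩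
    rw [← mul_assoc, simple_mul_simple_cancel_right, simple_mul_simple_cancel_right]
  · rw [not_not] at hkin
    obtain ⟨l, hla, hlk, hl⟩ := third k hk
    refine ⟨v * cs.simple k * cs.simple l, key k hk hbk l hla hlk hl, l, i, cs.simple l,
      Subgroup.subset_closure ⟨l, Set.mem_insert _ _, rfl⟩, i, Set.mem_insert_of_mem _ rfl, ?_⟩
    rw [simple_mul_simple_cancel_right, mul_inv_rev, inv_simple, mul_assoc v, mul_comm_of_two cs hkin,
      ← mul_assoc v, ← mul_assoc, simple_mul_simple_cancel_right]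

end Fin

/-! ### The statements (C0), (C1), (C2) -/

variable {I W : Type*} [Finite I] [Group W] [Finite W] {M : CoxeterMatrix I} (cs : CoxeterSystem M W)

omit [Finite W] in
/-- **(C0)** every root has a deep element. -/
theorem exists_deep (hD : Diag M) (w : W) (i : I) : ∃ v, Deep cs (rt cs w i) v := by
  classical
  have := Fintype.ofFinite I
  obtain ⟨A, h⟩ := exists_cartan M hD.labels
  obtain ⟨v, hv⟩ := exists_good cs h hD (isRoot_rt cs h w i)
  exact ⟨v, deep_of_good cs h hv⟩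

/-- Adjacency of deep elements. -/
def DeepAdj (A : Set W) (u v : W) : Prop := Deep cs A u ∧ Deep cs A v ∧ ∃ i, v = u * cs.simple i

/-- **(C1)** the deep elements of a root are connected. -/
theorem deep_conn (hD : Diag M) {w : W} {i : I} {u v : W} (hu : Deep cs (rt cs w i) u)
    (hv : Deep cs (rt cs w i) v) : Relation.ReflTransGen (DeepAdj cs (rt cs w i)) u v := by
  classical
  have := Fintype.ofFinite I
  have := Fintype.ofFinite W
  obtain ⟨A, h⟩ := exists_cartan M hD.labels
  have h1 := conn cs h (good_of_deep cs h hu) (good_of_deep cs h hv)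
  induction h1 with
  | refl => exact Relation.ReflTransGen.refl
  | tail _ h2 ih =>
    exact (ih (deep_of_good cs h h2.1)).tail ⟨deep_of_good cs h h2.1, deep_of_good cs h h2.2.1, h2.2.2⟩

omit [Finite W] in
/-- **(C2)** every wall different from the wall of the root `rt cs w₀ i₀` which has a panel inside the root
crosses a rank two residue of a deep element. -/
theorem exists_deep_wall (hD : Diag M) {w₀ : W} {i₀ : I} {v : W} {i : I} (hv : v ∈ rt cs w₀ i₀)
    (hvi : v * cs.simple i ∈ rt cs w₀ i₀) :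
    ∃ w, Deep cs (rt cs w₀ i₀) w ∧ ∃ k l, ∃ u ∈ WJ cs {k, l}, ∃ m ∈ ({k, l} : Set I),
      (w * u) * cs.simple m * (w * u)⁻¹ = v * cs.simple i * v⁻¹ := by
  classical
  have := Fintype.ofFinite I
  obtain ⟨A, h⟩ := exists_cartan M hD.labels
  rw [mem_rt_iff cs h] at hv hvi
  obtain ⟨w, hw, k, l, u, hu, m, hm, e⟩ := exists_good_wall cs h hD (isRoot_rt cs h w₀ i₀) hv hvi
  exact ⟨w, deep_of_good cs h hw, k, l, u, hu, m, hm, e⟩

/-! ### Elementary facts on roots -/

section Elem

omit [Finite I] [Finite W]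

theorem mem_rt_self (w : W) (i : I) : w ∈ rt cs w i := by
  show cs.length (w⁻¹ * w) < cs.length (cs.simple i * (w⁻¹ * w))
  rw [inv_mul_cancel, mul_one, cs.length_one, cs.length_simple]
  exact one_pos

theorem mul_simple_notMem_rt (w : W) (i : I) : w * cs.simple i ∉ rt cs w i := by
  show ¬ cs.length (w⁻¹ * (w * cs.simple i)) < cs.length (cs.simple i * (w⁻¹ * (w * cs.simple i)))
  rw [inv_mul_cancel_left, simple_mul_simple_self, cs.length_one]
  omega

/-- `W` acts on the roots by left multiplication. -/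
theorem mem_rt_mul (x w v : W) (i : I) : x * v ∈ rt cs (x * w) i ↔ v ∈ rt cs w i := by
  unfold rt
  rw [Set.mem_ofPred_eq, Set.mem_ofPred_eq, mul_inv_rev]
  simp only [mul_assoc, inv_mul_cancel_left]

/-- The opposite root. -/
theorem mem_rt_mul_simple (w v : W) (i : I) : v ∈ rt cs (w * cs.simple i) i ↔ v ∉ rt cs w i := by
  unfold rt
  rw [Set.mem_ofPred_eq, Set.mem_ofPred_eq, mul_inv_rev, inv_simple, mul_assoc, simple_mul_simple_cancel_left]
  have := cs.length_simple_mul_ne (w⁻¹ * v) i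
  omega

theorem rt_compl (w : W) (i : I) : rt cs (w * cs.simple i) i = (rt cs w i)ᶜ := by
  ext v
  rw [mem_rt_mul_simple, Set.mem_compl_iff]

/-- Reflection in the wall of the root. -/
theorem reflection_mem_rt (w v : W) (i : I) :
    w * cs.simple i * w⁻¹ * v ∈ rt cs w i ↔ v ∉ rt cs w i := by
  have h1 := mem_rt_mul cs (w * cs.simple i * w⁻¹) (w * cs.simple i) v i
  have h2 : w * cs.simple i * w⁻¹ * (w * cs.simple i) = w := by
    rw [mul_assoc, inv_mul_cancel_left, simple_mul_simple_cancel_right]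
  rw [h2] at h1
  rw [h1, mem_rt_mul_simple]

end Elem

end Cfsg.Agent.Tits.RootComb
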