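import Mathlib
import Cfsg.Agent.Tits.RootComb
import Cfsg.Agent.Tits.MouDefs
import Cfsg.Agent.LieRecognition.BNCox
/-!
`comb : Diag M → MouDefs.Comb cs` and `Diag` for the types `A_n, C_n, D_n, E_n, F_4`.
-/

set_option autoImplicit false

namespace Cfsg.Agent.Tits.CombInst

open Cfsg.Agent.Tits.RootComb Cfsg.Agent.LieRecognition.BNCox Cfsg.Agent.LieRecognition.CoxClass

/-- The combinatorial facts (C0), (C1), (C2). -/
theorem comb {I W : Type*} [Finite I] [Group W] [Finite W] {M : CoxeterMatrix I} (cs : CoxeterSystem M W)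
    (hD : Diag M) : MouDefs.Comb cs where
  c0 := fun w i => exists_deep cs hD w i
  c1 := fun w i v v' hv hv' => deep_conn cs hD (w := w) (i := i) hv hv'
  c2 := fun w i v j hv hvj => by
    obtain ⟨y, hy, k, l, u, hu, m, hm, e⟩ := exists_deep_wall cs hD (w₀ := w) (i₀ := i) hv hvj
    exact ⟨y, hy, k, l, u, hu, m, hm, e⟩

/-- A diagram on `Fin n` where every node `i > 0` has a smaller neighbour is connected. -/
theorem diag_of_par {n : ℕ} (hn : 3 ≤ n) (M : CoxeterMatrix (Fin n))
    (hl : ∀ i j, i ≠ j → M i j = 2 ∨ M i j = 3 ∨ M i j = 4 ∨ M i j = 6)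
    (hp : ∀ i : Fin n, 0 < i.1 → ∃ j : Fin n, j.1 < i.1 ∧ M i j ≠ 2) : Diag M where
  labels := hl
  three := by
    intro i j
    by_contra hcon
    push Not at hcon
    have h0 := hcon ⟨0, by omega⟩
    have h1 := hcon ⟨1, by omega⟩
    have h2 := hcon ⟨2, by omega⟩
    simp only [ne_eq, Fin.ext_iff] at h0 h1 h2
    omega
  conn := by
    intro J hJ hJu
    by_contra hcon
    push Not at hcon
    have key : ∀ S : Set (Fin n), (⟨0, by omega⟩ : Fin n) ∈ S → (∀ a ∈ S, ∀ b, b ∉ S → M a b = 2) →
        S = Set.univ := by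
      intro S h0 hS
      rw [Set.eq_univ_iff_forall]
      have : ∀ k : ℕ, ∀ i : Fin n, i.1 = k → i ∈ S := by
        intro k
        induction k using Nat.strong_induction_on with
        | _ k ih =>
          intro i hi
          by_cases hi0 : i.1 = 0
          · have : i = ⟨0, by omega⟩ := Fin.ext hi0
            rw [this]; exact h0
          · obtain ⟨j, hj, hM⟩ := hp i (Nat.pos_of_ne_zero hi0)
            have hjS := ih j.1 (by omega) j rfl
            by_contra hiS
            have := hS j hjS i hiS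
            rw [M.symmetric] at this
            exact hM this
      exact fun i => this i.1 i rfl
    by_cases h0 : (⟨0, by omega⟩ : Fin n) ∈ J
    · exact hJu (key J h0 hcon)
    · have h1 := key Jᶜ h0 (fun a ha b hb => by
        rw [M.symmetric]
        exact hcon b (not_not.1 hb) a ha)
      obtain ⟨x, hx⟩ := hJ
      have : x ∈ Jᶜ := by rw [h1]; exact Set.mem_univ x
      exact this hx

theorem diag_A {n : ℕ} (hn : 3 ≤ n) : Diag (cA n) :=
  diag_of_par hn _ (fun i j hij => by
    rw [cA_apply]; unfold mA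
    have : (i : ℕ) ≠ j := fun h => hij (Fin.ext h)
    split_ifs <;> simp_all) (fun i hi => ⟨⟨i.1 - 1, by omega⟩, by simp only; omega, by
    rw [cA_apply]; unfold mA
    simp only
    split_ifs <;> omega⟩)

theorem diag_C {n : ℕ} (hn : 3 ≤ n) : Diag (cC n) :=
  diag_of_par hn _ (fun i j hij => by
    rw [cC_apply]; unfold mC
    have : (i : ℕ) ≠ j := fun h => hij (Fin.ext h)
    split_ifs <;> simp_all) (fun i hi => ⟨⟨i.1 - 1, by omega⟩, by simp only; omega, by
    rw [cC_apply]; unfold mC
    simp only
    split_ifs <;> omega⟩)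

theorem diag_F : Diag cF :=
  diag_of_par (by norm_num) _ (fun i j hij => by
    rw [cF_apply]; unfold mF
    have : (i : ℕ) ≠ j := fun h => hij (Fin.ext h)
    split_ifs <;> simp_all) (fun i hi => ⟨⟨i.1 - 1, by omega⟩, by simp only; omega, by
    rw [cF_apply]; unfold mF
    simp only
    split_ifs <;> omega⟩)

theorem diag_D {n : ℕ} (hn : 4 ≤ n) : Diag (cD n) :=
  diag_of_par (by omega) _ (fun i j hij => by
    rw [cD_apply]; unfold mD
    have : (i : ℕ) ≠ j := fun h => hij (Fin.ext h)
    split_ifs <;> simp_all) (fun i hi => by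
    by_cases h1 : i.1 + 1 = n
    · refine ⟨⟨n - 3, by omega⟩, by simp only; omega, ?_⟩
      rw [cD_apply]; unfold mD
      simp only
      split_ifs <;> omega
    · refine ⟨⟨i.1 - 1, by omega⟩, by simp only; omega, ?_⟩
      rw [cD_apply]; unfold mD
      simp only
      split_ifs <;> omega)

theorem diag_E {n : ℕ} (hn : 4 ≤ n) : Diag (cE n) :=
  diag_of_par (by omega) _ (fun i j hij => by
    rw [cE_apply]; unfold mE
    have : (i : ℕ) ≠ j := fun h => hij (Fin.ext h)
    split_ifs <;> simp_all) (fun i hi => by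
    by_cases h1 : i.1 + 1 = n
    · refine ⟨⟨2, by omega⟩, by simp only; omega, ?_⟩
      rw [cE_apply]; unfold mE
      simp only
      split_ifs with h2 h3
      · omega
      · omega
      · exact absurd (Or.inr (Or.inr (Or.inr ⟨trivial, h1⟩))) h3
    · refine ⟨⟨i.1 - 1, by omega⟩, by simp only; omega, ?_⟩
      rw [cE_apply]; unfold mE
      simp only
      split_ifs <;> omega)

end Cfsg.Agent.Tits.CombInst
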