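import Cfsg.Agent.Tits.ExtBraid

/-!
The extension theorem (Tits 4.1.2) for buildings of spherical type with all `m_{ij} ≤ 4`:
a 2-isometry `θ` at `c`, compatible with the opposite chambers `d`, `d'`, extends to an isometry.
-/

set_option autoImplicit false
set_option linter.unusedSectionVars false

namespace Cfsg.Agent.Tits.Ext

open Cfsg.Agent.Tits.Core Cfsg.Agent.Tits.Core.Bldg Cfsg.Agent.Tits.Exchange

variable {I : Type*} {M : CoxeterMatrix I} {W : Type*} [Group W] {cs : CoxeterSystem M W}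
  {C C' : Type*} (Δ : Bldg cs C) (Δ' : Bldg cs C')

local prefix:100 "ℓ" => cs.length

section Galleries

/-- products of initial segments of a word -/
def pp (cs : CoxeterSystem M W) (f : ℕ → I) : ℕ → W
  | 0 => 1
  | k + 1 => pp cs f k * cs.simple (f k)

theorem exists_gallery_seq (f : ℕ → I) (m : ℕ) (hf : ∀ k ≤ m, ℓ (pp cs f k) = k) {x z : C}
    (hxz : Δ.δ x z = pp cs f m) :
    ∃ y : ℕ → C, y 0 = x ∧ y m = z ∧ (∀ k < m, Δ.δ (y k) (y (k + 1)) = cs.simple (f k)) ∧
      ∀ k ≤ m, Δ.δ x (y k) = pp cs f k := by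
  induction m generalizing z with
  | zero =>
    refine ⟨fun _ => x, rfl, Δ.eq_of_δ_eq_one hxz, fun k hk => absurd hk (by omega), ?_⟩
    intro k hk
    obtain rfl : k = 0 := by omega
    exact Δ.δ_self x
  | succ m ih =>
    obtain ⟨z', hz, hz'⟩ := Δ.exists_step x z (f m)
    rw [hxz, pp, cs.simple_mul_simple_cancel_right] at hz'
    obtain ⟨y, h0, h1, h2, h3⟩ := ih (fun k hk => hf k (by omega)) hz'
    refine ⟨fun k => if k ≤ m then y k else z, ?_, ?_, ?_, ?_⟩
    · simpa using h0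
    · simp
    · intro k hk
      rcases Nat.lt_or_ge k m with h | h
      · have a1 : k ≤ m := by omega
        have a2 : k + 1 ≤ m := by omega
        simp only [a1, a2, if_true]
        exact h2 k h
      · obtain rfl : k = m := by omega
        have a2 : ¬ (k + 1 ≤ k) := by omega
        simp only [le_refl, a2, if_true, if_false, h1]
        exact Δ.δ_symm_simple hz
    · intro k hk
      rcases Nat.lt_or_ge m k with h | h
      · obtain rfl : k = m + 1 := by omega
        have a2 : ¬ (m + 1 ≤ m) := by omega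
        simp only [a2, if_false]
        exact hxz
      · simp only [h, if_true]
        exact h3 k h

variable [Finite W] [Finite I]

/-- alternating type -/
def alt (i j : I) (k : ℕ) : I := if Even k then i else j

theorem pp_alt {i j : I} (hij : i ≠ j) (hm : M i j = 2 ∨ M i j = 3 ∨ M i j = 4) :
    (∀ k ≤ M i j, ℓ (pp cs (alt i j) k) = k) ∧ pp cs (alt i j) (M i j) = wJ cs {i, j} := by
  have e0 : pp cs (alt i j) 0 = 1 := rfl
  have e1 : pp cs (alt i j) 1 = cs.simple i := by
    simp [pp, alt]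
  have e2 : pp cs (alt i j) 2 = cs.simple i * cs.simple j := by
    simp [pp, alt]
  have e3 : pp cs (alt i j) 3 = cs.simple i * cs.simple j * cs.simple i := by
    simp [pp, alt]
  have n3 : ¬ Even 3 := by decide
  have e4 : pp cs (alt i j) 4 = cs.simple i * cs.simple j * cs.simple i * cs.simple j := by
    simp [pp, alt, n3]
  have l0 : ℓ (pp cs (alt i j) 0) = 0 := by rw [e0, cs.length_one]
  have l1 : ℓ (pp cs (alt i j) 1) = 1 := by rw [e1, cs.length_simple]
  have l2 : ℓ (pp cs (alt i j) 2) = 2 := by rw [e2, Generic.length_two cs hij]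
  rcases hm with hm | hm | hm
  · rw [hm]
    refine ⟨fun k hk => ?_, by rw [e2, Generic.wJ_two cs hij hm]⟩
    interval_cases k <;> assumption
  · rw [hm]
    have l3 : ℓ (pp cs (alt i j) 3) = 3 := by
      rw [e3, Generic.length_three cs hij (by omega)]
    refine ⟨fun k hk => ?_, by rw [e3, Generic.wJ_three cs hij hm]⟩
    interval_cases k <;> assumption
  · rw [hm]
    have l3 : ℓ (pp cs (alt i j) 3) = 3 := by
      rw [e3, Generic.length_three cs hij (by omega)]
    have l4 : ℓ (pp cs (alt i j) 4) = 4 := by rw [e4, Generic.length_four cs hij hm]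
    refine ⟨fun k hk => ?_, by rw [e4, Generic.wJ_four cs hij hm]⟩
    interval_cases k <;> assumption

end Galleries

theorem proj_apt_step [Finite W] [Finite I] {a b : C} (hab : Δ.Opp a b) (v : W) (i : I) :
    Δ.proj {i} (apt Δ a b v) (apt Δ a b (v * w0 cs)) = apt Δ a b (v * cs.simple i) := by
  apply Δ.proj_eq_of_isProj
  apply Δ.isProj_of_isMinR
  · rw [← Pan_eq_Res]
    exact Δ.mem_Pan_of_δ (apt_step Δ hab v i)
  · rw [isMinR_iff]
    rintro k rfl
    have e : (v * w0 cs)⁻¹ * (v * cs.simple k) = w0 cs * cs.simple k := by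
      rw [mul_inv_rev, w0_inv]; group
    rw [apt_δ Δ hab, e, cs.simple_mul_simple_cancel_right]
    have l2 := length_w0_mul cs (cs.simple k)
    rw [cs.length_simple] at l2
    omega

section Main

variable [Finite W] [Nonempty I] [Finite I] (c d : C) (c' d' : C') (θ : C → C')

/-- states obtained from the base state by transport -/
inductive Tr : C → (C → C') → Prop
  | base : Tr c θ
  | step {x : C} {α : C → C'} {i : I} {z : C} {α₁ : C → C'} :
      Tr x α → Tp Δ Δ' c d c' d' x α i z α₁ → Tr z α₁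

variable {Δ Δ' c d c' d' θ}

theorem Tr.st (hθ : St Δ Δ' c d c' d' c θ) {z : C} {α : C → C'}
    (h : Tr Δ Δ' c d c' d' θ z α) : St Δ Δ' c d c' d' z α := by
  cases h with
  | base => exact hθ
  | step _ ht => exact ht.st'

theorem exists_Tr (hth : Δ.Thick) (hcd : Δ.Opp c d) (hcd' : Δ'.Opp c' d')
    (hθ : St Δ Δ' c d c' d' c θ) (z : C) : ∃ α, Tr Δ Δ' c d c' d' θ z α := by
  generalize hn : ℓ (Δ.δ c z) = n
  induction n generalizing z with
  | zero =>
    rw [cs.length_eq_zero_iff] at hn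
    obtain rfl := Δ.eq_of_δ_eq_one hn
    exact ⟨θ, Tr.base⟩
  | succ n ih =>
    have hne : Δ.δ c z ≠ 1 := fun h1 => by rw [h1, cs.length_one] at hn; omega
    obtain ⟨i, hi⟩ := cs.exists_rightDescent_of_ne_one hne
    rw [cs.isRightDescent_iff] at hi
    obtain ⟨x, hx, hx'⟩ := Δ.exists_step c z i
    obtain ⟨α, hα⟩ := ih x (by rw [hx']; omega)
    have hup : ℓ (Δ.δ c x) < ℓ (Δ.δ c x * cs.simple i) := by
      rw [hx', cs.simple_mul_simple_cancel_right]; omega
    obtain ⟨α₁, h1, h2⟩ := (hα.st hθ).transport simple_injective hth hcd hcd'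
      (Δ.δ_symm_simple hx) hup
    exact ⟨α₁, Tr.step hα ⟨Δ.δ_symm_simple hx, hup, hα.st hθ, h1, h2⟩⟩

/-- the lower chamber of a panel is unique -/
theorem lower_unique {x₁ x₂ z : C} {i : I} (h1 : Δ.δ x₁ z = cs.simple i)
    (h2 : Δ.δ x₂ z = cs.simple i) (u1 : ℓ (Δ.δ c x₁) < ℓ (Δ.δ c x₁ * cs.simple i))
    (u2 : ℓ (Δ.δ c x₂) < ℓ (Δ.δ c x₂ * cs.simple i)) : x₁ = x₂ := by
  by_contra hne
  have e1 := Δ.step_lt c x₁ z i h1 u1
  have e2 := Δ.step_lt c x₂ z i h2 u2
  rw [e1] at e2
  have e3 := mul_right_cancel e2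
  have hP1 : x₁ ∈ Δ.Pan i z := Δ.mem_Pan_of_δ (Δ.δ_symm_simple h1)
  have hP2 : x₂ ∈ Δ.Pan i z := Δ.mem_Pan_of_δ (Δ.δ_symm_simple h2)
  have h3 := Δ.step_lt c x₁ x₂ i (Δ.δ_eq_of_mem_Pan hP1 hP2 hne) u1
  rw [← e3] at h3
  have h4 := cs.length_mul_simple_ne (Δ.δ c x₁) i
  rw [← h3] at h4
  exact h4 rfl

/-- uniqueness of the states below level `n` -/
def UB (Δ : Bldg cs C) (Δ' : Bldg cs C') (c d : C) (c' d' : C') (θ : C → C') (n : ℕ) : Prop :=
  ∀ z, ℓ (Δ.δ c z) < n → ∀ α α', Tr Δ Δ' c d c' d' θ z α → Tr Δ Δ' c d c' d' θ z α' →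
    ∀ p ∈ Δ.E2 z, α p = α' p

theorem UB.tp (hth : Δ.Thick) (hcd : Δ.Opp c d) (hcd' : Δ'.Opp c' d')
    (hθ : St Δ Δ' c d c' d' c θ) {n : ℕ} (hU : UB Δ Δ' c d c' d' θ n) {x z : C} {i : I}
    (hxz : Δ.δ x z = cs.simple i) (hup : ℓ (Δ.δ c x) < ℓ (Δ.δ c x * cs.simple i))
    (hz : ℓ (Δ.δ c z) < n) {α α₁ : C → C'} (hα : Tr Δ Δ' c d c' d' θ x α)
    (hα₁ : Tr Δ Δ' c d c' d' θ z α₁) : Tp Δ Δ' c d c' d' x α i z α₁ := by
  obtain ⟨α₂, h1, h2⟩ := (hα.st hθ).transport simple_injective hth hcd hcd' hxz hup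
  refine ⟨hxz, hup, hα.st hθ, hα₁.st hθ, fun k y hy => ?_⟩
  have hzk : z ∈ Δ.Res {i, k} x := Δ.Pan_subset_Res (by simp) x (Δ.mem_Pan_of_δ hxz)
  have h3 := hU z hz α₁ α₂ hα₁ (Tr.step hα ⟨hxz, hup, hα.st hθ, h1, h2⟩) y
    ((mem_E2 Δ).2 ⟨_, two_pair i k, by rwa [Δ.Res_eq_of_mem hzk]⟩)
  rw [h3, h2 k y hy]

/-- chain of states along a gallery going up, ending with a prescribed transported state -/
theorem exists_chain (hth : Δ.Thick) (hcd : Δ.Opp c d) (hcd' : Δ'.Opp c' d')
    (hθ : St Δ Δ' c d c' d' c θ) {n : ℕ} (hU : UB Δ Δ' c d c' d' θ n)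
    {S : C → C → C'} (hS : ∀ z, Tr Δ Δ' c d c' d' θ z (S z)) (f : ℕ → I) {m : ℕ} (hm : 0 < m)
    {y : ℕ → C} (hy : ∀ k < m, Δ.δ (y k) (y (k + 1)) = cs.simple (f k))
    (hlen : ∀ k ≤ m, ℓ (Δ.δ c (y k)) = ℓ (Δ.δ c (y 0)) + k) (hn : ℓ (Δ.δ c (y m)) ≤ n)
    {x₁ : C} {α₁ α : C → C'} (hx₁ : Tr Δ Δ' c d c' d' θ x₁ α₁)
    (ht : Tp Δ Δ' c d c' d' x₁ α₁ (f (m - 1)) (y m) α) :
    ∃ A : ℕ → C → C', A 0 = S (y 0) ∧ A m = α ∧
      ∀ k < m, Tp Δ Δ' c d c' d' (y k) (A k) (f k) (y (k + 1)) (A (k + 1)) := by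
  have hup : ∀ k < m, ℓ (Δ.δ c (y k)) < ℓ (Δ.δ c (y k) * cs.simple (f k)) := by
    intro k hk
    have h1 := hlen k (by omega)
    have h2 := hlen (k + 1) (by omega)
    rcases Δ.step c (y k) (y (k + 1)) (f k) (hy k hk) with h | h
    · rw [← h]; omega
    · rw [h] at h2; omega
  refine ⟨fun k => if k < m then S (y k) else α, by simp [hm], by simp, fun k hk => ?_⟩
  rcases Nat.lt_or_ge (k + 1) m with h | h
  · simp only [hk, h, if_true]
    refine hU.tp hth hcd hcd' hθ (hy k hk) (hup k hk) ?_ (hS _) (hS _)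
    have h1 := hlen (k + 1) (by omega)
    have h2 := hlen m le_rfl
    omega
  · obtain rfl : m = k + 1 := by omega
    simp only [hk, lt_irrefl, if_true, if_false]
    rw [Nat.add_sub_cancel] at ht
    have he : x₁ = y k := lower_unique ht.δ_eq (hy k hk) ht.up (hup k hk)
    subst he
    refine ⟨hy k hk, hup k hk, (hS _).st hθ, ht.st', fun l p hp => ?_⟩
    rw [ht.eq l p hp]
    refine hU (y k) ?_ _ _ hx₁ (hS _) p ((mem_E2 Δ).2 ⟨_, two_pair _ _, hp⟩)
    have h1 := hlen k (by omega)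
    have h2 := hlen (k + 1) le_rfl
    omega

theorem uniqueness (hM : ∀ i j, i ≠ j → M i j = 2 ∨ M i j = 3 ∨ M i j = 4) (hth : Δ.Thick)
    (hcd : Δ.Opp c d) (hcd' : Δ'.Opp c' d') (hθ : St Δ Δ' c d c' d' c θ) (n : ℕ) :
    UB Δ Δ' c d c' d' θ n := by
  induction n with
  | zero => exact fun z hz => absurd hz (by omega)
  | succ n ih =>
    intro z hz α α' hα hα' p hp
    rcases Nat.lt_or_ge (ℓ (Δ.δ c z)) n with hlt | hge
    · exact ih z hlt α α' hα hα' p hp
    have hzn : ℓ (Δ.δ c z) = n := by omega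
    have hinj : Function.Injective cs.simple := simple_injective
    cases hα with
    | base =>
      cases hα' with
      | base => rfl
      | step h2 t2 =>
        exfalso
        have h3 := Δ.step_lt c _ c _ t2.δ_eq t2.up
        have h4 := t2.up
        rw [← h3, Δ.δ_self, cs.length_one] at h4
        omega
    | step h1 t1 =>
      cases hα' with
      | base =>
        exfalso
        have h3 := Δ.step_lt c _ c _ t1.δ_eq t1.up
        have h4 := t1.up
        rw [← h3, Δ.δ_self, cs.length_one] at h4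
        omega
      | step h2 t2 =>
        rename_i x₁ α₁ i x₂ α₂ j
        have z1 := Δ.step_lt c _ _ _ t1.δ_eq t1.up
        have z2 := Δ.step_lt c _ _ _ t2.δ_eq t2.up
        have hlt1 : ℓ (Δ.δ c x₁) < n := by rw [← hzn, z1]; exact t1.up
        by_cases hij : i = j
        · subst hij
          have hx : x₁ = x₂ := lower_unique t1.δ_eq t2.δ_eq t1.up t2.up
          subst hx
          refine St.uniq' hth t1.δ_eq t1.st' t2.st' t1.eq (fun k y hy => ?_) p hp
          rw [t2.eq k y hy]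
          exact (ih x₁ hlt1 _ _ h1 h2 y ((mem_E2 Δ).2 ⟨_, two_pair _ _, hy⟩)).symm
        · -- both `i` and `j` are descents
          have hm := hM i j hij
          have hm' : M j i = 2 ∨ M j i = 3 ∨ M j i = 4 := by rwa [M.symmetric]
          set x := Δ.proj {i, j} z c with hx
          have hzR : z ∈ Δ.Res {i, j} z := Δ.self_mem_Res _ z
          have hxR : x ∈ Δ.Res {i, j} z := Δ.proj_mem _ _ _
          have hmin := Δ.isMinR_δ_proj {i, j} z c
          rw [← hx] at hmin
          have hcz := Δ.δ_proj_mul (u := c) hzR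
          rw [← hx] at hcz
          have ht : Δ.δ x z ∈ WJ cs {i, j} := Δ.δ_mem_of_mem_Res hxR hzR
          have hd : ∀ k ∈ ({i, j} : Set I), ℓ (Δ.δ c z * cs.simple k) < ℓ (Δ.δ c z) →
              ℓ (cs.simple k * (Δ.δ x z)⁻¹) < ℓ (Δ.δ x z)⁻¹ := by
            intro k hk hlt
            rw [hcz, hmin _ ht, mul_assoc, hmin _ (mul_mem ht (simple_mem_WJ cs hk))] at hlt
            have e : cs.simple k * (Δ.δ x z)⁻¹ = (Δ.δ x z * cs.simple k)⁻¹ := by
              rw [mul_inv_rev, cs.inv_simple]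
            rw [e, cs.length_inv, cs.length_inv]
            omega
          have hdi : ℓ (Δ.δ c z * cs.simple i) < ℓ (Δ.δ c z) := by
            rw [z1, cs.simple_mul_simple_cancel_right]; exact t1.up
          have hdj : ℓ (Δ.δ c z * cs.simple j) < ℓ (Δ.δ c z) := by
            rw [z2, cs.simple_mul_simple_cancel_right]; exact t2.up
          have hxz : Δ.δ x z = wJ cs {i, j} := by
            have h3 : (Δ.δ x z)⁻¹ = wJ cs {i, j} := by
              apply Generic.eq_wJ_of_descents cs (inv_mem ht)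
              rintro k (rfl | hk)
              · exact hd _ (by simp) hdi
              · rw [Set.mem_singleton_iff] at hk
                subst hk
                exact hd _ (by simp) hdj
            rw [← inv_inv (Δ.δ x z), h3, (isLongest_wJ cs {i, j}).inv_eq]
          obtain ⟨hl1, hw1⟩ := pp_alt (cs := cs) hij hm
          obtain ⟨hl2, hw2⟩ := pp_alt (cs := cs) (Ne.symm hij) hm'
          rw [M.symmetric j i] at hl2 hw2
          obtain ⟨y, y0, ym, yδ, yp⟩ := exists_gallery_seq Δ (alt i j) (M i j) hl1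
            (hxz.trans hw1.symm)
          obtain ⟨y', y0', ym', yδ', yp'⟩ := exists_gallery_seq Δ (alt j i) (M i j) hl2
            (hxz.trans (by rw [hw2, Set.pair_comm]))
          have hlen : ∀ f : ℕ → I, (∀ k ≤ M i j, ℓ (pp cs f k) = k) →
              (∀ k, f k ∈ ({i, j} : Set I)) → ∀ g : ℕ → C,
              (g 0 = x) → (∀ k ≤ M i j, Δ.δ x (g k) = pp cs f k) →
              ∀ k ≤ M i j, ℓ (Δ.δ c (g k)) = ℓ (Δ.δ c (g 0)) + k := by
            intro f hf hfJ g g0 hg k hk
            have hmem : ∀ k, pp cs f k ∈ WJ cs {i, j} := by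
              intro k
              induction k with
              | zero => exact one_mem _
              | succ k ih => exact mul_mem ih (simple_mem_WJ cs (hfJ k))
            have h4 := hmin _ (hmem k)
            have h5 : Δ.δ c (g k) = Δ.δ c x * pp cs f k := by
              rw [← hg k hk]
              apply Δ.δ_mul
              rw [hg k hk, h4]
            rw [h5, h4, g0, hf k hk]
          have hyl := hlen (alt i j) hl1 (fun k => by unfold alt; split_ifs <;> simp) y y0 yp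
          have hyl' := hlen (alt j i) hl2 (fun k => by unfold alt; split_ifs <;> simp) y' y0' yp'
          have hpos : 0 < M i j := by omega
          choose S hS using exists_Tr hth hcd hcd' hθ
          subst ym
          rw [← ym'] at t1 t2 hzn
          have e00 : y 0 = y' 0 := y0.trans y0'.symm
          rcases Nat.even_or_odd (M i j - 1) with he | ho
          · have f1 : alt i j (M i j - 1) = i := if_pos he
            have f2 : alt j i (M i j - 1) = j := if_pos he
            obtain ⟨A, A0, Am, hA⟩ := exists_chain hth hcd hcd' hθ ih hS (alt i j) hpos yδ hyl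
              (by rw [← ym', hzn]) h1 (α := α) (by rw [f1, ← ym']; exact t1)
            obtain ⟨B, B0, Bm, hB⟩ := exists_chain hth hcd hcd' hθ ih hS (alt j i) hpos yδ' hyl'
              (by rw [hzn]) h2 (α := α') (by rw [f2]; exact t2)
            rw [← Am, ← Bm]
            exact braid hth hcd hcd' hij hm y y' A B hA hB e00 (by rw [A0, B0, e00]) ym'.symm p hp
          · have f1 : alt i j (M i j - 1) = j := if_neg (Nat.not_even_iff_odd.2 ho)
            have f2 : alt j i (M i j - 1) = i := if_neg (Nat.not_even_iff_odd.2 ho)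
            obtain ⟨A, A0, Am, hA⟩ := exists_chain hth hcd hcd' hθ ih hS (alt i j) hpos yδ hyl
              (by rw [← ym', hzn]) h2 (α := α') (by rw [f1, ← ym']; exact t2)
            obtain ⟨B, B0, Bm, hB⟩ := exists_chain hth hcd hcd' hθ ih hS (alt j i) hpos yδ' hyl'
              (by rw [hzn]) h1 (α := α) (by rw [f2]; exact t1)
            rw [← Am, ← Bm]
            exact (braid hth hcd hcd' hij hm y y' A B hA hB e00 (by rw [A0, B0, e00]) ym'.symm
              p hp).symm

/-- The isometry extending a state at `c`. -/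
theorem ext_of_state (hM : ∀ i j, i ≠ j → M i j = 2 ∨ M i j = 3 ∨ M i j = 4) (hth : Δ.Thick)
    (hcd : Δ.Opp c d) (hcd' : Δ'.Opp c' d') (hθ : St Δ Δ' c d c' d' c θ) :
    ∃ φ : C → C', (∀ x y, Δ'.δ (φ x) (φ y) = Δ.δ x y) ∧ (∀ y ∈ Δ.E2 c, φ y = θ y) ∧
      φ d = d' := by
  have hU := fun n => uniqueness hM hth hcd hcd' hθ n
  choose S hS using exists_Tr hth hcd hcd' hθ
  have hSt := fun z => (hS z).st hθ
  have hiso : ∀ x i a b, a ∈ Δ.Pan i x → b ∈ Δ.Pan i x → Δ'.δ (S x a) (S x b) = Δ.δ a b := by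
    intro x i a b ha hb
    rw [Pan_eq_Res] at ha hb
    exact (hSt x).good.iso _ (two_singleton i) a ha b hb
  -- (F1)
  have F1 : ∀ x z i, Δ.δ x z = cs.simple i → ℓ (Δ.δ c x) < ℓ (Δ.δ c x * cs.simple i) →
      ∀ k, ∀ y ∈ Δ.Res {i, k} x, S z y = S x y := by
    intro x z i hxz hup
    exact ((hU (ℓ (Δ.δ c z) + 1)).tp hth hcd hcd' hθ hxz hup (by omega) (hS x) (hS z)).eq
  have F1' : ∀ x z i, Δ.δ x z = cs.simple i → ℓ (Δ.δ c x) < ℓ (Δ.δ c x * cs.simple i) →
      ∀ y ∈ Δ.Pan i x, S z y = S x y := by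
    intro x z i hxz hup y hy
    exact F1 x z i hxz hup i y (Δ.Pan_subset_Res (by simp) x hy)
  have hself : ∀ x i, x ∈ Δ.Pan i x := fun x i => Δ.self_mem_Pan i x
  -- (F2)
  have F2 : ∀ x z i, Δ.δ x z = cs.simple i → Δ'.δ (S x x) (S z z) = cs.simple i := by
    have up : ∀ x z i, Δ.δ x z = cs.simple i → ℓ (Δ.δ c x) < ℓ (Δ.δ c x * cs.simple i) →
        Δ'.δ (S x x) (S z z) = cs.simple i := by
      intro x z i hxz hup
      have hz : z ∈ Δ.Pan i x := Δ.mem_Pan_of_δ hxz
      rw [F1' x z i hxz hup z hz, hiso x i x z (hself x i) hz, hxz]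
    intro x z i hxz
    rcases lt_or_gt_of_ne (cs.length_mul_simple_ne (Δ.δ c x) i) with h | h
    · rcases Δ.step c x z i hxz with h1 | h1
      · have h2 := up z x i (Δ.δ_symm_simple hxz) (by
          rw [h1, cs.simple_mul_simple_cancel_right]; exact h)
        exact Δ'.δ_symm_simple h2
      · obtain ⟨x₀, h2, h3⟩ := Δ.exists_step c x i
        have hne : x₀ ≠ z := by
          rintro rfl
          rw [h1] at h3
          rw [← h3] at h
          exact lt_irrefl _ h
        have hx₀ : x₀ ∈ Δ.Pan i x := Δ.mem_Pan_of_δ h2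
        have hz : z ∈ Δ.Pan i x := Δ.mem_Pan_of_δ hxz
        have hup : ℓ (Δ.δ c x₀) < ℓ (Δ.δ c x₀ * cs.simple i) := by
          rw [h3, cs.simple_mul_simple_cancel_right]; exact h
        have e1 := F1' x₀ x i (Δ.δ_symm_simple h2) hup x (Δ.mem_Pan_symm hx₀)
        have e2 := F1' x₀ z i (Δ.δ_eq_of_mem_Pan hx₀ hz hne) hup z
          (Δ.mem_Pan_trans (Δ.mem_Pan_symm hx₀) hz)
        rw [e1, e2, hiso x₀ i x z (Δ.mem_Pan_symm hx₀)
          (Δ.mem_Pan_trans (Δ.mem_Pan_symm hx₀) hz), hxz]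
    · exact up x z i hxz h
  -- (F3)
  have F3 : ∀ x z, Δ'.δ (S x x) (S z z) = Δ.δ x z := by
    intro x z
    generalize hn : ℓ (Δ.δ x z) = n
    induction n generalizing z with
    | zero =>
      rw [cs.length_eq_zero_iff] at hn
      rw [hn, Δ.eq_of_δ_eq_one hn, Δ'.δ_self]
    | succ n ih =>
      have hne : Δ.δ x z ≠ 1 := fun h1 => by rw [h1, cs.length_one] at hn; omega
      obtain ⟨i, hi⟩ := cs.exists_rightDescent_of_ne_one hne
      rw [cs.isRightDescent_iff] at hi
      obtain ⟨z', hz, hz'⟩ := Δ.exists_step x z i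
      have h1 := ih z' (by rw [hz']; omega)
      have h2 := F2 z' z i (Δ.δ_symm_simple hz)
      rw [Δ'.step_lt _ _ _ i h2 (by
        rw [h1, hz', cs.simple_mul_simple_cancel_right]; omega), h1, hz',
        cs.simple_mul_simple_cancel_right]
  -- (F4)
  have hSc : ∀ y ∈ Δ.E2 c, S c y = θ y :=
    hU (ℓ (Δ.δ c c) + 1) c (by omega) _ _ (hS c) Tr.base
  have F4 : ∀ i j, ∀ n, ∀ y ∈ Δ.Res {i, j} c, ℓ (Δ.δ c y) = n →
      ∀ a ∈ Δ.Res {i, j} c, S y a = θ a := by
    intro i j n
    induction n with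
    | zero =>
      intro y _ hn a ha
      rw [cs.length_eq_zero_iff] at hn
      obtain rfl := Δ.eq_of_δ_eq_one hn
      exact hSc a ((mem_E2 Δ).2 ⟨_, two_pair i j, ha⟩)
    | succ n ih =>
      intro y hy hn a ha
      obtain ⟨ω, hω, hred, hp⟩ := exists_reduced_of_mem_WJ cs hy
      rcases List.eq_nil_or_concat ω with rfl | ⟨ω', k, rfl⟩
      · rw [cs.wordProd_nil] at hp
        rw [← hp, cs.length_one] at hn
        omega
      have hk : k ∈ ({i, j} : Set I) := hω k (by simp)
      rw [List.concat_eq_append, cs.wordProd_append, cs.wordProd_singleton] at hp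
      have hlt : ℓ (Δ.δ c y * cs.simple k) < ℓ (Δ.δ c y) := by
        rw [← hp, cs.simple_mul_simple_cancel_right]
        have h1 := hred.eq
        rw [List.concat_eq_append, cs.wordProd_append, cs.wordProd_singleton, List.length_append,
          List.length_singleton] at h1
        have h2 := cs.length_wordProd_le ω'
        omega
      obtain ⟨y', hy', hy''⟩ := Δ.exists_step c y k
      have hyk : y' ∈ Δ.Pan k y := Δ.mem_Pan_of_δ hy'
      have hy'R : y' ∈ Δ.Res {i, j} c := Δ.mem_Res_trans hy (Δ.Pan_subset_Res hk y hyk)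
      have hn' : ℓ (Δ.δ c y') = n := by
        rw [hy'']
        have := cs.length_mul_simple (Δ.δ c y) k
        omega
      have hup : ℓ (Δ.δ c y') < ℓ (Δ.δ c y' * cs.simple k) := by
        rw [hy'', cs.simple_mul_simple_cancel_right]; exact hlt
      rw [← ih y' hy'R hn' a ha]
      have ha' : a ∈ Δ.Res {i, j} y' := by rwa [Δ.Res_eq_of_mem hy'R]
      rcases hk with rfl | hk
      · exact F1 y' y k (Δ.δ_symm_simple hy') hup j a ha'
      · rw [Set.mem_singleton_iff] at hk
        subst hk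
        exact F1 y' y k (Δ.δ_symm_simple hy') hup i a (by rwa [Set.pair_comm])
  -- (F5)
  have hc : S c c = c' := by
    have h1 := (hSt c).δ_eq
    rw [Δ.δ_self] at h1
    exact (Δ'.eq_of_δ_eq_one h1).symm
  have F5 : ∀ n, ∀ w : W, ℓ w = n → S (apt Δ c d w) (apt Δ c d w) = apt Δ' c' d' w := by
    intro n
    induction n with
    | zero =>
      intro w hw
      rw [cs.length_eq_zero_iff] at hw
      subst hw
      rw [apt_one Δ hcd, apt_one Δ' hcd', hc]
    | succ n ih =>
      intro w hw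
      have hne : w ≠ 1 := fun h1 => by rw [h1, cs.length_one] at hw; omega
      obtain ⟨i, hi⟩ := cs.exists_rightDescent_of_ne_one hne
      rw [cs.isRightDescent_iff] at hi
      obtain ⟨v, rfl⟩ : ∃ v, w = v * cs.simple i := ⟨w * cs.simple i, by simp⟩
      rw [cs.simple_mul_simple_cancel_right] at hi
      have h1 := ih v (by omega)
      have hstep := apt_step Δ hcd v i
      have hδ := δ_apt Δ hcd v
      have h2 := F1' _ _ i hstep (by rw [hδ]; omega) _ (Δ.mem_Pan_of_δ hstep)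
      have h3 := (hSt (apt Δ c d v)).good.proj _ (two_singleton i)
      rw [hδ, proj_apt_step Δ hcd, h1, proj_apt_step Δ' hcd'] at h3
      rw [h2, h3]
  refine ⟨fun z => S z z, F3, ?_, ?_⟩
  · rintro y ⟨i, j, hy⟩
    exact F4 i j _ y hy rfl y hy
  · have := F5 _ (w0 cs) rfl
    rwa [apt_w0 Δ hcd, apt_w0 Δ' hcd'] at this

end Main

/-- **Extension theorem** (Tits 4.1.2, spherical case with all labels `≤ 4`): a 2-isometry `θ` at
`c` which is compatible with the chambers `d`, `d'` opposite to `c`, `θ c`, extends to an isometry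
mapping `d` to `d'`. -/
theorem EXT [Finite W] [Finite I] {Δ : Bldg cs C} {Δ' : Bldg cs C'}
    (hM : ∀ i j, i ≠ j → M i j = 2 ∨ M i j = 3 ∨ M i j = 4) (hth : Δ.Thick) {θ : C → C'}
    {c d : C} {d' : C'} (hθ : Iso2 Δ Δ' θ c) (hcd : Δ.Opp c d) (hcd' : Δ'.Opp (θ c) d')
    (hp : ∀ i j, θ (Δ.proj {i, j} c d) = Δ'.proj {i, j} (θ c) d') :
    ∃ φ : C → C', (∀ x y, Δ'.δ (φ x) (φ y) = Δ.δ x y) ∧ (∀ y ∈ Δ.E2 c, φ y = θ y) ∧
      φ d = d' := by
  rcases isEmpty_or_nonempty I with hI | hI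
  · have hW : ∀ w : W, w = 1 := by
      intro w
      have h := mem_WJ_univ cs w
      rw [WJ, Set.univ_eq_empty_iff.2 hI, Set.image_empty, Subgroup.closure_empty,
        Subgroup.mem_bot] at h
      exact h
    refine ⟨θ, fun x y => by rw [hW (Δ.δ x y), hW (Δ'.δ _ _)], fun _ _ => rfl, ?_⟩
    exact Δ'.eq_of_δ_eq_one (hW _)
  · have hst : St Δ Δ' c d (θ c) d' c θ := by
      refine ⟨by rw [Δ.δ_self, Δ'.δ_self], ?_⟩
      rw [Δ.δ_self, one_mul, apt_w0 Δ hcd, apt_w0 Δ' hcd']
      refine ⟨rfl, hcd, hcd', ?_, ?_⟩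
      · rintro _ ⟨i, j, rfl⟩
        exact hθ i j
      · rintro _ ⟨i, j, rfl⟩
        exact hp i j
    exact ext_of_state hM hth hcd hcd' hst

end Cfsg.Agent.Tits.Ext
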