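import Mathlib
import Cfsg.Agent.Tits.Core
import Cfsg.Agent.Tits.Exchange
import Cfsg.Agent.Tits.OppRes
import Cfsg.Agent.Tits.Rigid
import Cfsg.Agent.Tits.MouDefs
/-!
S1143, route E, part MOU: existence and regularity of the root groups (M1), conjugation (M2),
reflections (M3).  Theorem EXT and the combinatorics (C0)–(C2) are hypotheses.
-/

set_option autoImplicit false
set_option linter.unusedSectionVars false

namespace Cfsg.Agent.Tits.Mou

open Cfsg.Agent.Tits.Core Cfsg.Agent.Tits.Core.Bldg Cfsg.Agent.Tits.OppRes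
open Cfsg.Agent.Tits.MouDefs

variable {I : Type*} {M : CoxeterMatrix I} {W : Type*} [Group W] {cs : CoxeterSystem M W}
variable {C : Type*} {Δ : Bldg cs C} [F : Cox cs]

/-! ### Elementary facts -/

theorem pan_map {g : Equiv.Perm C} (hg : g ∈ Aut Δ) {i : I} {x y : C} (h : y ∈ Δ.Pan i x) :
    g y ∈ Δ.Pan i (g x) := by
  rcases h with h | h
  · left; rw [h]
  · right; rw [hg]; exact h

theorem pan_map_of_fix {g : Equiv.Perm C} (hg : g ∈ Aut Δ) {i : I} {x y : C} (hx : g x = x)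
    (h : y ∈ Δ.Pan i x) : g y ∈ Δ.Pan i x := by
  have := pan_map hg h
  rwa [hx] at this

theorem pan_symm {i : I} {x y : C} (h : y ∈ Δ.Pan i x) : x ∈ Δ.Pan i y := by
  rcases h with h | h
  · left; exact h.symm
  · right; exact delta_simple_symm h

theorem pan_eq {i : I} {x y : C} (h : y ∈ Δ.Pan i x) : Δ.Pan i y = Δ.Pan i x := by
  rw [Rigid.Pan_eq_Res, Rigid.Pan_eq_Res]
  exact Res_eq (Rigid.mem_Pan_Res h)

theorem delta_of_pan {i : I} {x y z : C} (hy : y ∈ Δ.Pan i x) (hz : z ∈ Δ.Pan i x) (hne : y ≠ z) :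
    Δ.δ y z = cs.simple i := by
  rw [← pan_eq hy] at hz
  rcases hz with h | h
  · exact absurd h.symm hne
  · exact h

theorem mem_pan_chart {σ : W → C} (hσ : Chart Δ σ) (v : W) (i : I) :
    σ (v * cs.simple i) ∈ Δ.Pan i (σ v) := Or.inr (hσ.adj v i)

theorem mem_pan_chart' {σ : W → C} (hσ : Chart Δ σ) (v : W) (i : I) :
    σ v ∈ Δ.Pan i (σ (v * cs.simple i)) := pan_symm (mem_pan_chart hσ v i)

theorem len_mul_simple_comm {u : W} {i j : I} (h : cs.simple i * u = u * cs.simple j)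
    (hl : cs.length u < cs.length (cs.simple i * u)) : cs.length u < cs.length (u * cs.simple j) := by
  rw [← h]; exact hl

/-- (PAR) An isometry which fixes `x` and `y` and is trivial on a panel of `x` is trivial on the
parallel panel of `y`. -/
theorem par {g : Equiv.Perm C} (hg : g ∈ Aut Δ) {x y : C} {i j : I} (hy : g y = y)
    (h : cs.simple i * Δ.δ x y = Δ.δ x y * cs.simple j)
    (hl : cs.length (Δ.δ x y) < cs.length (cs.simple i * Δ.δ x y))
    (hp : ∀ z ∈ Δ.Pan i x, g z = z) : ∀ z ∈ Δ.Pan j y, g z = z := by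
  intro z hz
  rcases hz with hz | hz
  · rw [hz, hy]
  have hl' := len_mul_simple_comm h hl
  have h1 : Δ.δ x z = Δ.δ x y * cs.simple j := Δ.step_lt x y z j hz hl'
  obtain ⟨x', hx1, hx2⟩ := Δ.exists_step z x i
  have h2 : Δ.δ x' z = Δ.δ x y := by
    rw [Δ.symm z x', hx2, Δ.symm x z, h1, ← h]
    simp
  have h3 : Δ.δ x' (g z) = Δ.δ x y := by
    have h4 := hg x' z
    rw [hp x' (Or.inr hx1)] at h4
    rw [h4, h2]
  refine (Rigid.eq_of_short (j := j) h3 h2 hl' ?_)
  rw [← Rigid.Pan_eq_Res]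
  have h5 : g z ∈ Δ.Pan j y := pan_map_of_fix hg hy (Or.inr hz)
  rw [pan_eq h5]
  exact Or.inr hz

theorem proj_chart {σ : W → C} (hσ : Chart Δ σ) (J : Set I) (v : W) :
    Δ.proj J (σ v) (σ (v * w0 cs)) = σ (v * wJ cs J) := by
  apply eq_proj
  apply isProj_of_min
  · change Δ.δ _ _ ∈ WJ cs J
    rw [hσ, inv_mul_cancel_left]
    exact F.wJ_mem J
  · intro j hj
    have e : Δ.δ (σ (v * w0 cs)) (σ (v * wJ cs J)) = w0 cs * wJ cs J := by
      rw [hσ, mul_inv_rev, mul_assoc, inv_mul_cancel_left, F.w0_inv]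
    rw [e, mul_assoc]
    have h1 := F.len_w0_mul (wJ cs J)
    have h2 := F.len_w0_mul (wJ cs J * cs.simple j)
    have h3 := F.len_wJ_mul (simple_mem_WJ (cs := cs) hj)
    rw [cs.length_simple] at h3
    omega

theorem Deep.mem {A : Set W} {v : W} [Nonempty I] (h : Deep cs A v) : v ∈ A := by
  have i := Classical.arbitrary I
  have := h i i 1 (one_mem _)
  rwa [mul_one] at this

theorem Deep.mem' {A : Set W} {v : W} (i : I) (h : Deep cs A v) : v ∈ A := by
  have := h i i 1 (one_mem _)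
  rwa [mul_one] at this

theorem Deep.mul_simple {A : Set W} {v : W} (h : Deep cs A v) (i : I) : v * cs.simple i ∈ A :=
  h i i _ (simple_mem_WJ (by simp))

theorem Deep.mul_wJ {A : Set W} {v : W} (h : Deep cs A v) (i j : I) : v * wJ cs {i, j} ∈ A :=
  h i j _ (F.wJ_mem _)

/-! ### The antipodal element of a boundary step -/

theorem len_simple_w0 (i : I) : cs.length (cs.simple i * w0 cs) + 1 = cs.length (w0 cs) := by
  have h := F.len_mul_w0 (cs.simple i)
  rwa [cs.length_simple] at h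

/-- `v s_i w₀` is in the root `v α_i`. -/
theorem anti_mem (v : W) (i : I) : v * cs.simple i * w0 cs ∈ rt cs v i := by
  have h := len_simple_w0 (cs := cs) i
  change cs.length (v⁻¹ * (v * cs.simple i * w0 cs)) <
    cs.length (cs.simple i * (v⁻¹ * (v * cs.simple i * w0 cs)))
  have e : v⁻¹ * (v * cs.simple i * w0 cs) = cs.simple i * w0 cs := by group
  rw [e, ← mul_assoc, cs.simple_mul_simple_self, one_mul]
  omega

theorem w0_not_mem (v : W) (i : I) : v * w0 cs ∉ rt cs v i := by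
  have h := len_simple_w0 (cs := cs) i
  intro h1
  have h2 : cs.length (v⁻¹ * (v * w0 cs)) < cs.length (cs.simple i * (v⁻¹ * (v * w0 cs))) := h1
  rw [inv_mul_cancel_left] at h2
  omega

/-- A root is the convex hull of `v` and `v s_i w₀`. -/
theorem hull {v a : W} {i : I} (ha : a ∈ rt cs v i) :
    cs.length (v⁻¹ * a * (a⁻¹ * (v * cs.simple i * w0 cs))) =
      cs.length (v⁻¹ * a) + cs.length (a⁻¹ * (v * cs.simple i * w0 cs)) := by
  have e1 : v⁻¹ * a * (a⁻¹ * (v * cs.simple i * w0 cs)) = cs.simple i * w0 cs := by group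
  have e2 : a⁻¹ * (v * cs.simple i * w0 cs) = (cs.simple i * (v⁻¹ * a))⁻¹ * w0 cs := by
    rw [mul_inv_rev, mul_inv_rev, inv_inv, cs.inv_simple]
    group
  rw [e1, e2]
  have h1 := F.len_mul_w0 (cs.simple i * (v⁻¹ * a))⁻¹
  have h2 := len_simple_w0 (cs := cs) i
  have h3 : cs.length (v⁻¹ * a) < cs.length (cs.simple i * (v⁻¹ * a)) := ha
  have h4 := cs.length_simple_mul (v⁻¹ * a) i
  rw [cs.length_inv] at h1
  omega

/-- Two charts which agree at `v` and `v s_i w₀` agree on the root `v α_i`. -/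
theorem Chart.agree {σ σ' : W → C} (hσ : Chart Δ σ) (hσ' : Chart Δ σ') {v : W} {i : I}
    (h1 : σ' v = σ v) (h2 : σ' (v * cs.simple i * w0 cs) = σ (v * cs.simple i * w0 cs)) :
    ∀ a ∈ rt cs v i, σ' a = σ a := by
  intro a ha
  refine eq_of_between (Δ := Δ) (x := σ v) (z := σ (v * cs.simple i * w0 cs)) (hull ha) ?_
    (hσ _ _) ?_ (hσ _ _)
  · rw [← h1, hσ']
  · rw [← h2, hσ']

/-- (D) The charts with a given root half-apartment. -/
theorem exists_chart_root {σ : W → C} (hσ : Chart Δ σ) {v : W} {i : I} {x : C}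
    (hx : x ∈ Δ.Pan i (σ v)) (hne : x ≠ σ v) :
    ∃ σ', Chart Δ σ' ∧ (∀ a ∈ rt cs v i, σ' a = σ a) ∧ σ' (v * cs.simple i) = x := by
  have hxv : Δ.δ (σ v) x = cs.simple i := by
    rcases hx with h | h
    · exact absurd h hne
    · exact h
  have he : Δ.δ (σ v) (σ (v * cs.simple i * w0 cs)) = cs.simple i * w0 cs := by
    rw [hσ]; group
  have hopp : Δ.Opp x (σ (v * cs.simple i * w0 cs)) := by
    have h1 : Δ.δ (σ (v * cs.simple i * w0 cs)) (σ v) = (cs.simple i * w0 cs)⁻¹ := by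
      rw [Δ.symm _ _, he]
    have e : (cs.simple i * w0 cs)⁻¹ * cs.simple i = (w0 cs)⁻¹ := by
      rw [mul_inv_rev, cs.inv_simple, mul_assoc, cs.simple_mul_simple_self, mul_one]
    have h2 := Δ.step_lt _ _ _ i hxv (by
      rw [h1, e, cs.length_inv, cs.length_inv]
      have := len_simple_w0 (cs := cs) i
      omega)
    rw [h1, e] at h2
    change Δ.δ _ _ = _
    rw [Δ.symm _ x, h2, inv_inv]
  obtain ⟨σ', hσ', h1, h2⟩ := exists_chart hopp (v * cs.simple i)
  have h3 : σ' v = σ v := by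
    refine eq_of_between (Δ := Δ) (x := x) (z := σ (v * cs.simple i * w0 cs)) (w := cs.simple i)
      (v := cs.simple i * w0 cs) ?_ ?_ (delta_simple_symm hxv) ?_ he
    · rw [← mul_assoc, cs.simple_mul_simple_self, one_mul, cs.length_simple]
      have := len_simple_w0 (cs := cs) i
      omega
    · rw [← h1, hσ', mul_inv_rev, mul_assoc, inv_mul_cancel, mul_one, cs.inv_simple]
    · rw [← h2, hσ']; group
  exact ⟨σ', hσ', Chart.agree hσ hσ' h3 h2, h1⟩

/-! ### Existence of root elements -/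

/-- The permutation defined by an isometry of a finite building. -/
theorem exists_perm [Finite C] {φ : C → C} (h : ∀ x y, Δ.δ (φ x) (φ y) = Δ.δ x y) :
    ∃ g ∈ Aut Δ, ∀ x, g x = φ x := by
  have hinj : Function.Injective φ := by
    intro x y hxy
    have h1 := h x y
    rw [hxy, delta_self] at h1
    exact (Δ.eq_one x y).1 h1.symm
  refine ⟨Equiv.ofBijective φ (Finite.injective_iff_bijective.1 hinj), ?_, fun x => rfl⟩
  intro x y
  exact h x y

/-- (A) -/
theorem exists_aut_deep [Finite C] (hext : Ext Δ Δ) {A : Set W} {v : W} (hv : Deep cs A v)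
    (i₀ : I) {σ σ' : W → C} (hσ : Chart Δ σ) (hσ' : Chart Δ σ') (hA : ∀ a ∈ A, σ' a = σ a) :
    ∃ g ∈ Aut Δ, (∀ y ∈ Δ.E2 (σ v), g y = y) ∧ ∀ w, g (σ w) = σ' w := by
  have hvv : σ' v = σ v := hA v (Deep.mem' i₀ hv)
  obtain ⟨φ, h1, h2, h3⟩ := hext id (σ v) (σ (v * w0 cs)) (σ' (v * w0 cs))
    (fun i j a _ b _ => rfl) (hσ.opp v) (by
      change Δ.Opp (σ v) _
      rw [← hvv]; exact hσ'.opp v) (by
      intro i j
      change Δ.proj {i, j} (σ v) _ = Δ.proj {i, j} (σ v) _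
      rw [proj_chart hσ, ← hvv, proj_chart hσ', hA _ (Deep.mul_wJ hv i j)])
  obtain ⟨g, hg, hg'⟩ := exists_perm h1
  refine ⟨g, hg, fun y hy => by rw [hg', h2 y hy]; rfl, ?_⟩
  have h4 : (fun w => g (σ w)) = σ' := by
    refine Chart.ext_opp (hσ.aut hg) hσ' (v := v) ?_ ?_
    · rw [hg', h2 _ ⟨i₀, i₀, mem_Res_self _ _⟩, hvv]; rfl
    · rw [hg', h3]
  intro w
  exact congrFun h4 w

/-- (B), one step. -/
theorem deep_step (hth : Δ.Thick) {A : Set W} {a : W} {k : I}
    (hb : Deep cs A (a * cs.simple k)) {σ : W → C} (hσ : Chart Δ σ) {g : Equiv.Perm C}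
    (hg : g ∈ Aut Δ) (hgA : ∀ v ∈ A, g (σ v) = σ v) (hfix : ∀ y ∈ Δ.E2 (σ a), g y = y) :
    ∀ y ∈ Δ.E2 (σ (a * cs.simple k)), g y = y := by
  rintro y ⟨k', l', hy⟩
  have hpan : ∀ l, ∀ y ∈ Δ.Pan l (σ (a * cs.simple k)), g y = y := by
    intro l y hy
    apply hfix y
    refine ⟨k, l, ?_⟩
    have h1 : σ (a * cs.simple k) ∈ Δ.Res {k, l} (σ a) :=
      Rigid.mem_Res_of_delta_simple (by simp) (hσ.adj a k)
    rw [← Res_eq h1]
    rcases hy with h | h
    · rw [h]; exact mem_Res_self _ _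
    · exact Rigid.mem_Res_of_delta_simple (by simp) h
  refine Rigid.rigid (Δ := Δ) (Δ' := Δ) hth (J := {k', l'}) (c := σ (a * cs.simple k))
    (d := σ (a * cs.simple k * wJ cs {k', l'})) (φ := g) (ψ := id)
    (fun x _ y _ => hg x y) (fun x _ y _ => rfl) (fun j _ y hy => hpan j y hy) ?_ ?_ y hy
  · rw [hσ, inv_mul_cancel_left]
  · exact hgA _ (Deep.mul_wJ hb k' l')

/-- (B) -/
theorem deep_path (hth : Δ.Thick) {A : Set W} {σ : W → C} (hσ : Chart Δ σ) {g : Equiv.Perm C}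
    (hg : g ∈ Aut Δ) (hgA : ∀ v ∈ A, g (σ v) = σ v) {v v' : W}
    (hpath : Relation.ReflTransGen (fun a b => Deep cs A a ∧ Deep cs A b ∧
      ∃ k, b = a * cs.simple k) v v')
    (hfix : ∀ y ∈ Δ.E2 (σ v), g y = y) : ∀ y ∈ Δ.E2 (σ v'), g y = y := by
  induction hpath with
  | refl => exact hfix
  | tail _ h ih =>
    obtain ⟨_, hb, k, rfl⟩ := h
    exact deep_step hth hb hσ hg hgA ih

/-- (C) -/
theorem mem_U_of_deep (hth : Δ.Thick) (hc : Comb cs) {w : W} {i : I} {σ : W → C}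
    (hσ : Chart Δ σ) {g : Equiv.Perm C} (hg : g ∈ Aut Δ)
    (hgA : ∀ v ∈ rt cs w i, g (σ v) = σ v) {v : W} (hv : Deep cs (rt cs w i) v)
    (hfix : ∀ y ∈ Δ.E2 (σ v), g y = y) : g ∈ U Δ σ (rt cs w i) := by
  refine ⟨hg, hgA, ?_⟩
  intro x j hx hxj
  obtain ⟨y, hy, k, l, u, hu, m, hm, ht⟩ := hc.c2 w i x j hx hxj
  have hyfix := deep_path hth hσ hg hgA (hc.c1 w i v y hv hy) hfix
  have hmkl : m ∈ ({k, l} : Set I) := by
    rcases hm with rfl | rfl <;> simp
  have hres : ∀ b : W, b ∈ WJ cs {k, l} → σ (y * b) ∈ Δ.Res {k, l} (σ y) := by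
    intro b hb
    change Δ.δ (σ y) (σ (y * b)) ∈ WJ cs {k, l}
    rw [hσ, inv_mul_cancel_left]
    exact hb
  have hpanfix : ∀ b : W, b ∈ WJ cs {k, l} → ∀ z ∈ Δ.Pan m (σ (y * b)), g z = z := by
    intro b hb z hz
    apply hyfix z
    refine ⟨k, l, ?_⟩
    rw [← Res_eq (hres b hb)]
    rcases hz with h | h
    · rw [h]; exact mem_Res_self _ _
    · exact Rigid.mem_Res_of_delta_simple hmkl h
  -- the conclusion for an element `b` with the right side
  have key : ∀ b : W, b ∈ WJ cs {k, l} → (y * b) * cs.simple m * (y * b)⁻¹ = x * cs.simple j * x⁻¹ →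
      x ∈ rt cs (y * b) m → ∀ z ∈ Δ.Pan j (σ x), g z = z := by
    intro b hb hwall hside
    refine par hg (i := m) (x := σ (y * b)) (hgA x hx) ?_ ?_ (hpanfix b hb)
    · rw [hσ]
      have h1 : (y * b)⁻¹ * ((y * b) * cs.simple m * (y * b)⁻¹) * x =
        (y * b)⁻¹ * (x * cs.simple j * x⁻¹) * x := by rw [hwall]
      calc cs.simple m * ((y * b)⁻¹ * x)
          = (y * b)⁻¹ * ((y * b) * cs.simple m * (y * b)⁻¹) * x := by group
        _ = (y * b)⁻¹ * (x * cs.simple j * x⁻¹) * x := h1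
        _ = (y * b)⁻¹ * x * cs.simple j := by group
    · rw [hσ]; exact hside
  by_cases hside : x ∈ rt cs (y * u) m
  · exact key u hu ht hside
  · have hside' : x ∈ rt cs (y * (u * cs.simple m)) m := by
      rw [← mul_assoc, ← rt_compl]
      exact hside
    refine key _ (mul_mem hu (simple_mem_WJ hmkl)) ?_ hside'
    rw [← ht]
    simp [mul_assoc]

/-- (M1), existence: for a boundary step `v, v s_i` of the root `A` and `x ≠ σ v` in the panel there
is an element of the root group with `σ (v s_i) ↦ x`. -/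
theorem exists_root_elt [Finite C] (hth : Δ.Thick) (hext : Ext Δ Δ) (hc : Comb cs)
    {σ : W → C} (hσ : Chart Δ σ) {v : W} {i : I} {x : C}
    (hx : x ∈ Δ.Pan i (σ v)) (hne : x ≠ σ v) :
    ∃ g ∈ U Δ σ (rt cs v i), g (σ (v * cs.simple i)) = x := by
  obtain ⟨σ', hσ', h1, h2⟩ := exists_chart_root hσ hx hne
  obtain ⟨y, hy⟩ := hc.c0 v i
  obtain ⟨g, hg, hg1, hg2⟩ := exists_aut_deep hext hy i hσ hσ' h1
  refine ⟨g, mem_U_of_deep hth hc hσ hg (fun a ha => by rw [hg2, h1 a ha]) hy hg1, ?_⟩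
  rw [hg2, h2]

theorem U_fix {σ : W → C} {A : Set W} {g : Equiv.Perm C} (hg : g ∈ U Δ σ A) {v : W}
    (hv : v ∈ A) : g (σ v) = σ v := hg.2.1 v hv

theorem U_fix_pan {σ : W → C} {A : Set W} {g : Equiv.Perm C} (hg : g ∈ U Δ σ A) {v : W} {i : I}
    (hv : v ∈ A) (hvi : v * cs.simple i ∈ A) {y : C} (hy : y ∈ Δ.Pan i (σ v)) : g y = y :=
  hg.2.2 v i hv hvi y hy

/-- An element of a root group which fixes the whole apartment is trivial. -/
theorem eq_one_of_fix (hth : Δ.Thick) (hc : Comb cs) {σ : W → C} (hσ : Chart Δ σ) {w : W} {i : I}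
    {g : Equiv.Perm C} (hg : g ∈ U Δ σ (rt cs w i)) (h : ∀ v, g (σ v) = σ v) : g = 1 := by
  obtain ⟨y, hy⟩ := hc.c0 w i
  refine aut_eq_of_rigid hth hg.1 (one_mem _) (hσ.opp y) ?_ ?_
  · rintro z ⟨k, hz⟩
    exact U_fix_pan hg (Deep.mem' i hy) (Deep.mul_simple hy k) hz
  · exact h _

/-- (M1), freeness. -/
theorem eq_one_of_fix_step (hth : Δ.Thick) (hc : Comb cs) {σ : W → C} (hσ : Chart Δ σ) {v : W}
    {i : I} {g : Equiv.Perm C} (hg : g ∈ U Δ σ (rt cs v i))
    (h : g (σ (v * cs.simple i)) = σ (v * cs.simple i)) : g = 1 := by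
  apply eq_one_of_fix hth hc hσ hg
  have h1 : (fun w => g (σ w)) = σ :=
    Chart.ext_opp (hσ.aut hg.1) hσ (v := v * cs.simple i) h (U_fix hg (anti_mem v i))
  exact fun w => congrFun h1 w

/-- (M1), freeness, general form. -/
theorem eq_one_of_fix_pan [Finite C] (hth : Δ.Thick) (hext : Ext Δ Δ) (hc : Comb cs)
    {σ : W → C} (hσ : Chart Δ σ) {v : W} {i : I} {g : Equiv.Perm C}
    (hg : g ∈ U Δ σ (rt cs v i)) {x : C} (hx : x ∈ Δ.Pan i (σ v)) (hne : x ≠ σ v)
    (h : g x = x) : g = 1 := by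
  obtain ⟨a, ha, hax⟩ := exists_root_elt hth hext hc hσ hx hne
  have h1 : a⁻¹ * g * a = 1 := by
    apply eq_one_of_fix_step hth hc hσ (mul_mem (mul_mem (inv_mem ha) hg) ha)
    rw [Equiv.Perm.mul_apply, Equiv.Perm.mul_apply, hax, h]
    exact Equiv.Perm.inv_eq_iff_eq.2 hax.symm
  have h2 : g = a * (a⁻¹ * g * a) * a⁻¹ := by group
  rw [h2, h1, mul_one, mul_inv_cancel]

/-- (M1): the root group of `v α_i` is transitive on the chambers `≠ σ v` of the panel. -/
theorem exists_root_elt' [Finite C] (hth : Δ.Thick) (hext : Ext Δ Δ) (hc : Comb cs)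
    {σ : W → C} (hσ : Chart Δ σ) {v : W} {i : I} {x x' : C}
    (hx : x ∈ Δ.Pan i (σ v)) (hne : x ≠ σ v) (hx' : x' ∈ Δ.Pan i (σ v)) (hne' : x' ≠ σ v) :
    ∃ g ∈ U Δ σ (rt cs v i), g x = x' := by
  obtain ⟨a, ha, hax⟩ := exists_root_elt hth hext hc hσ hx hne
  obtain ⟨b, hb, hbx⟩ := exists_root_elt hth hext hc hσ hx' hne'
  refine ⟨b * a⁻¹, mul_mem hb (inv_mem ha), ?_⟩
  rw [Equiv.Perm.mul_apply, ← hbx]
  congr 1
  exact Equiv.Perm.inv_eq_iff_eq.2 hax.symm

/-- (M1): uniqueness. -/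
theorem root_elt_unique [Finite C] (hth : Δ.Thick) (hext : Ext Δ Δ) (hc : Comb cs)
    {σ : W → C} (hσ : Chart Δ σ) {v : W} {i : I} {g g' : Equiv.Perm C}
    (hg : g ∈ U Δ σ (rt cs v i)) (hg' : g' ∈ U Δ σ (rt cs v i)) {x : C}
    (hx : x ∈ Δ.Pan i (σ v)) (hne : x ≠ σ v) (h : g x = g' x) : g = g' := by
  have h1 : g'⁻¹ * g = 1 := by
    apply eq_one_of_fix_pan hth hext hc hσ (mul_mem (inv_mem hg') hg) hx hne
    rw [Equiv.Perm.mul_apply, h]
    exact g'.symm_apply_apply x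
  exact (inv_mul_eq_one.1 h1).symm

/-- The order of a root group. -/
theorem card_U [Finite C] (hth : Δ.Thick) (hext : Ext Δ Δ) (hc : Comb cs)
    {σ : W → C} (hσ : Chart Δ σ) (v : W) (i : I) :
    Nat.card (U Δ σ (rt cs v i)) + 1 = Nat.card (Δ.Pan i (σ v)) := by
  classical
  -- the chambers of the panel different from `σ v`
  let T : Set C := {x | x ∈ Δ.Pan i (σ v) ∧ x ≠ σ v}
  have hbase : σ (v * cs.simple i) ∈ Δ.Pan i (σ v) := mem_pan_chart hσ v i
  have hbne : σ (v * cs.simple i) ≠ σ v := by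
    intro h
    have := hσ.injective h
    exact mul_simple_not_mem_rt v i (by rw [this]; exact mem_rt_self v i)
  let f : U Δ σ (rt cs v i) → T := fun g => ⟨(g : Equiv.Perm C) (σ (v * cs.simple i)), by
    refine ⟨pan_map_of_fix g.2.1 (U_fix g.2 (mem_rt_self v i)) hbase, ?_⟩
    intro h
    apply hbne
    apply (g : Equiv.Perm C).injective
    rw [h, U_fix g.2 (mem_rt_self v i)]⟩
  have hf : Function.Bijective f := by
    constructor
    · intro g g' hgg
      apply Subtype.ext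
      exact root_elt_unique hth hext hc hσ g.2 g'.2 hbase hbne (congrArg Subtype.val hgg)
    · rintro ⟨x, hx, hne⟩
      obtain ⟨g, hg, hgx⟩ := exists_root_elt hth hext hc hσ hx hne
      exact ⟨⟨g, hg⟩, Subtype.ext hgx⟩
  have h1 : Nat.card (U Δ σ (rt cs v i)) = Nat.card T := Nat.card_congr (Equiv.ofBijective f hf)
  have h2 : Δ.Pan i (σ v) = insert (σ v) T := by
    ext x
    constructor
    · intro hx
      by_cases h : x = σ v
      · left; exact h
      · right; exact ⟨hx, h⟩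
    · rintro (h | h)
      · left; exact h
      · exact h.1
  have h3 : σ v ∉ T := fun h => h.2 rfl
  rw [h1, h2, Nat.card_coe_set_eq, Nat.card_coe_set_eq, Set.ncard_insert_of_notMem h3 (Set.toFinite _)]

/-! ### Conjugation -/

/-- The root group only depends on the half apartment. -/
theorem U_congr {σ σ' : W → C} {A : Set W} (h : ∀ v ∈ A, σ v = σ' v) : U Δ σ A = U Δ σ' A := by
  have key : ∀ {σ σ' : W → C}, (∀ v ∈ A, σ v = σ' v) → U Δ σ A ≤ U Δ σ' A := by
    intro σ σ' h g hg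
    refine ⟨hg.1, fun v hv => ?_, fun v i hv hvi y hy => ?_⟩
    · rw [← h v hv]; exact hg.2.1 v hv
    · rw [← h v hv] at hy
      exact hg.2.2 v i hv hvi y hy
  exact le_antisymm (key h) (key fun v hv => (h v hv).symm)

theorem conj_mem_U {σ : W → C} {A : Set W} {n g : Equiv.Perm C} (hn : n ∈ Aut Δ)
    (hg : g ∈ U Δ σ A) : n * g * n⁻¹ ∈ U Δ (fun v => n (σ v)) A := by
  have hi : ∀ y, n⁻¹ (n y) = y := fun y => n.symm_apply_apply y
  refine ⟨mul_mem (mul_mem hn hg.1) (inv_mem hn), fun v hv => ?_, fun v i hv hvi y hy => ?_⟩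
  · simp only [Equiv.Perm.mul_apply]
    rw [hi, hg.2.1 v hv]
  · have h1 : n⁻¹ y ∈ Δ.Pan i (σ v) := by
      have := pan_map (inv_mem hn) hy
      simpa only [hi] using this
    simp only [Equiv.Perm.mul_apply]
    rw [hg.2.2 v i hv hvi _ h1]
    exact n.apply_symm_apply y

theorem mem_U_conj_iff {σ : W → C} {A : Set W} {n g : Equiv.Perm C} (hn : n ∈ Aut Δ) :
    n * g * n⁻¹ ∈ U Δ (fun v => n (σ v)) A ↔ g ∈ U Δ σ A := by
  refine ⟨fun h => ?_, conj_mem_U hn⟩
  have h1 := conj_mem_U (inv_mem hn) h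
  have e : (fun v => n⁻¹ (n (σ v))) = σ := by
    funext v
    exact n.symm_apply_apply _
  rw [e] at h1
  have e2 : n⁻¹ * (n * g * n⁻¹) * n⁻¹⁻¹ = g := by group
  rwa [e2] at h1

theorem U_translate {σ : W → C} (x w : W) (i : I) :
    U Δ (fun v => σ (x * v)) (rt cs w i) = U Δ σ (rt cs (x * w) i) := by
  ext g
  constructor
  · intro hg
    refine ⟨hg.1, fun v hv => ?_, fun v j hv hvj y hy => ?_⟩
    · have h1 : x⁻¹ * v ∈ rt cs w i := by
        rw [← mul_mem_rt_iff (x := x), mul_inv_cancel_left]; exact hv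
      have := hg.2.1 _ h1
      simpa only [mul_inv_cancel_left] using this
    · have h1 : x⁻¹ * v ∈ rt cs w i := by
        rw [← mul_mem_rt_iff (x := x), mul_inv_cancel_left]; exact hv
      have h2 : x⁻¹ * v * cs.simple j ∈ rt cs w i := by
        rw [mul_assoc, ← mul_mem_rt_iff (x := x), mul_inv_cancel_left]; exact hvj
      refine hg.2.2 _ j h1 h2 y ?_
      simpa only [mul_inv_cancel_left] using hy
  · intro hg
    refine ⟨hg.1, fun v hv => ?_, fun v j hv hvj y hy => ?_⟩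
    · exact hg.2.1 _ (mul_mem_rt_iff.2 hv)
    · refine hg.2.2 _ j (mul_mem_rt_iff.2 hv) ?_ y hy
      rw [mul_assoc]
      exact mul_mem_rt_iff.2 hvj

/-- (M2) -/
theorem conj_mem_U_iff {σ : W → C} {n g : Equiv.Perm C} (hn : n ∈ Aut Δ) {x w : W} {i : I}
    (hσ : ∀ v, n (σ v) = σ (x * v)) :
    n * g * n⁻¹ ∈ U Δ σ (rt cs (x * w) i) ↔ g ∈ U Δ σ (rt cs w i) := by
  have h := mem_U_conj_iff (Δ := Δ) (σ := σ) (A := rt cs w i) (g := g) hn
  have e : (fun v => n (σ v)) = (fun v => σ (x * v)) := funext hσ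
  rw [e, U_translate] at h
  exact h

/-! ### Reflections -/

theorem op_spec (i : I) : cs.simple (Core.op cs i) = w0 cs * cs.simple i * w0 cs := F.op i

/-- An element which stabilises the panel `σ w, σ (w s_i)`, interchanges these chambers, and
stabilises the opposite panel, induces the reflection on the apartment. -/
theorem refl_of_swap {σ : W → C} (hσ : Chart Δ σ) {w : W} {i : I} {m : Equiv.Perm C}
    (hm : m ∈ Aut Δ) (h0 : m (σ w) = σ (w * cs.simple i)) (h1 : m (σ (w * cs.simple i)) = σ w)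
    (h2 : m (σ (w * w0 cs)) ∈ Δ.Pan (Core.op cs i) (σ (w * w0 cs))) :
    ∀ v, m (σ v) = σ (w * cs.simple i * w⁻¹ * v) := by
  have hop := op_spec (cs := cs) i
  have hww := F.w0_mul_self
  have e1 : w * cs.simple i * w0 cs = w * w0 cs * cs.simple (Core.op cs i) := by
    rw [hop]
    calc w * cs.simple i * w0 cs = w * (1 * cs.simple i) * w0 cs := by rw [one_mul]
      _ = w * ((w0 cs * w0 cs) * cs.simple i) * w0 cs := by rw [hww]
      _ = _ := by group
  have h3 : m (σ (w * w0 cs)) = σ (w * cs.simple i * w0 cs) := by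
    refine Rigid.eq_of_short (Δ := Δ) (j := Core.op cs i) (x := σ w) (w := cs.simple i * w0 cs)
      ?_ ?_ ?_ ?_
    · have h4 := hm (σ (w * cs.simple i)) (σ (w * w0 cs))
      rw [h1, hσ] at h4
      rw [h4, mul_inv_rev, cs.inv_simple]
      group
    · rw [hσ]; group
    · have e2 : cs.simple i * w0 cs * cs.simple (Core.op cs i) = w0 cs := by
        rw [hop]
        calc cs.simple i * w0 cs * (w0 cs * cs.simple i * w0 cs)
            = cs.simple i * (w0 cs * w0 cs) * cs.simple i * w0 cs := by group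
          _ = w0 cs := by rw [hww, mul_one, cs.simple_mul_simple_self, one_mul]
      rw [e2]
      have := len_simple_w0 (cs := cs) i
      omega
    · rw [← Rigid.Pan_eq_Res, pan_eq h2, e1]
      exact mem_pan_chart hσ _ _
  have h4 : (fun v => m (σ v)) = (fun v => σ (w * cs.simple i * w⁻¹ * v)) := by
    refine Chart.ext_opp (hσ.aut hm) (hσ.translate _) (v := w) ?_ ?_
    · rw [h0]; congr 1; group
    · rw [h3]; congr 1; group
  intro v
  exact congrFun h4 v

/-- (M3): for a nontrivial element `a` of the root group of `A = w α_i` there are elements `b`, `b'`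
of the opposite root group such that `b a b'` induces the reflection on the apartment. -/
theorem exists_refl [Finite C] (hth : Δ.Thick) (hext : Ext Δ Δ) (hc : Comb cs)
    {σ : W → C} (hσ : Chart Δ σ) {w : W} {i : I} {a : Equiv.Perm C}
    (ha : a ∈ U Δ σ (rt cs w i)) (ha1 : a ≠ 1) :
    ∃ b ∈ U Δ σ (rt cs (w * cs.simple i) i), ∃ b' ∈ U Δ σ (rt cs (w * cs.simple i) i),
      ∀ v, (b * a * b') (σ v) = σ (w * cs.simple i * w⁻¹ * v) := by
  have hss : w * cs.simple i * cs.simple i = w := by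
    rw [mul_assoc, cs.simple_mul_simple_self, mul_one]
  have hc0 : σ w ∈ Δ.Pan i (σ (w * cs.simple i)) := mem_pan_chart' hσ w i
  have hc1 : σ (w * cs.simple i) ∈ Δ.Pan i (σ w) := mem_pan_chart hσ w i
  have hne : σ w ≠ σ (w * cs.simple i) := by
    intro h
    have := hσ.injective h
    exact mul_simple_not_mem_rt w i (by rw [← this]; exact mem_rt_self w i)
  have hPan : Δ.Pan i (σ (w * cs.simple i)) = Δ.Pan i (σ w) := pan_eq hc1
  have haw : a (σ w) = σ w := U_fix ha (mem_rt_self w i)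
  have hinv : ∀ x y, a x = y → a⁻¹ y = x := by
    rintro x y rfl
    exact a.symm_apply_apply x
  have hainv : ∀ y, a (a⁻¹ y) = y := fun y => a.apply_symm_apply y
  -- `a c₁ ≠ c₁`
  have hac : a (σ (w * cs.simple i)) ≠ σ (w * cs.simple i) := fun h =>
    ha1 (eq_one_of_fix_step hth hc hσ ha h)
  have hac' : a⁻¹ (σ (w * cs.simple i)) ≠ σ (w * cs.simple i) := by
    intro h
    apply hac
    have h1 := hainv (σ (w * cs.simple i))
    rwa [h] at h1
  have hx1 : a (σ (w * cs.simple i)) ∈ Δ.Pan i (σ (w * cs.simple i)) := by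
    rw [hPan]
    exact pan_map_of_fix ha.1 haw hc1
  have hx2 : a⁻¹ (σ (w * cs.simple i)) ∈ Δ.Pan i (σ (w * cs.simple i)) := by
    rw [hPan]
    exact pan_map_of_fix (inv_mem ha.1) (hinv _ _ haw) hc1
  obtain ⟨b, hb, hbx⟩ := exists_root_elt' hth hext hc hσ hx1 hac hc0 hne
  obtain ⟨b', hb', hbx'⟩ := exists_root_elt' hth hext hc hσ hc0 hne hx2 hac'
  refine ⟨b, hb, b', hb', ?_⟩
  have hbA : b * a * b' ∈ Aut Δ := mul_mem (mul_mem hb.1 ha.1) hb'.1
  have hbc1 : b (σ (w * cs.simple i)) = σ (w * cs.simple i) := U_fix hb (mem_rt_self _ i)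
  have hbc1' : b' (σ (w * cs.simple i)) = σ (w * cs.simple i) := U_fix hb' (mem_rt_self _ i)
  have hcompl : w * w0 cs ∈ rt cs (w * cs.simple i) i := by
    rw [← rt_compl]
    exact w0_not_mem w i
  have hop := op_spec (cs := cs) i
  have hww := F.w0_mul_self
  have e1 : w * cs.simple i * w0 cs = w * w0 cs * cs.simple (Core.op cs i) := by
    rw [hop]
    calc w * cs.simple i * w0 cs = w * (1 * cs.simple i) * w0 cs := by rw [one_mul]
      _ = w * ((w0 cs * w0 cs) * cs.simple i) * w0 cs := by rw [hww]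
      _ = _ := by group
  have hP' : σ (w * cs.simple i * w0 cs) ∈ Δ.Pan (Core.op cs i) (σ (w * w0 cs)) := by
    rw [e1]
    exact mem_pan_chart hσ _ _
  refine refl_of_swap hσ hbA ?_ ?_ ?_
  · simp only [Equiv.Perm.mul_apply]
    rw [hbx', hainv, hbc1]
  · simp only [Equiv.Perm.mul_apply]
    rw [hbc1', hbx]
  · simp only [Equiv.Perm.mul_apply]
    rw [U_fix hb' hcompl]
    refine pan_map_of_fix hb.1 (U_fix hb hcompl) ?_
    have h1 : σ (w * w0 cs) ∈ Δ.Pan (Core.op cs i) (σ (w * cs.simple i * w0 cs)) := pan_symm hP'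
    have h2 := pan_map_of_fix ha.1 (U_fix ha (anti_mem w i)) h1
    rwa [pan_eq hP'] at h2

end Cfsg.Agent.Tits.Mou
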