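import Mathlib
import Cfsg.Agent.Tits.Core
import Cfsg.Agent.Tits.Exchange

/-!
Spheres and opposite chambers in an abstract building: galleries of reduced type, number of chambers
at given distance, opposite chambers, common opposites.
-/

set_option autoImplicit false
set_option linter.unusedSectionVars false

namespace Cfsg.Agent.Tits.Opp

open CoxeterSystem List Cfsg.Agent.Tits.Core Cfsg.Agent.Tits.Exchange

variable {I W : Type*} [Group W] {M : CoxeterMatrix I} {cs : CoxeterSystem M W} {C : Type*}
variable (Δ : Bldg cs C)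

local prefix:100 "s" => cs.simple
local prefix:100 "π" => cs.wordProd
local prefix:100 "ℓ" => cs.length

theorem delta_self (x : C) : Δ.δ x x = 1 := (Δ.eq_one x x).2 rfl

theorem symm_simple {x y : C} {i : I} (h : Δ.δ x y = s i) : Δ.δ y x = s i := by
  rw [Δ.symm, h, inv_simple]

/-- Distances add along galleries of reduced type. -/
theorem add_of_length {x y z : C} (h : ℓ (Δ.δ x y * Δ.δ y z) = ℓ (Δ.δ x y) + ℓ (Δ.δ y z)) :
    Δ.δ x z = Δ.δ x y * Δ.δ y z := by
  generalize hn : ℓ (Δ.δ y z) = n at h
  induction n generalizing z with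
  | zero =>
    have h1 : Δ.δ y z = 1 := cs.length_eq_zero_iff.1 hn
    rw [h1, mul_one, (Δ.eq_one y z).1 h1]
  | succ n ih =>
    have hne : Δ.δ y z ≠ 1 := by
      intro h1
      rw [h1, cs.length_one] at hn
      omega
    obtain ⟨i, hi⟩ := cs.exists_rightDescent_of_ne_one hne
    obtain ⟨z', hz', hz''⟩ := Δ.exists_step y z i
    have hzz : Δ.δ z' z = s i := symm_simple Δ hz'
    have hi' : ℓ (Δ.δ y z * s i) + 1 = ℓ (Δ.δ y z) := cs.isRightDescent_iff.1 hi
    have h2 : ℓ (Δ.δ y z') = n := by rw [hz'']; omega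
    have e1 : Δ.δ y z = Δ.δ y z' * s i := by rw [hz'', simple_mul_simple_cancel_right]
    have h4 : ℓ (Δ.δ x y * Δ.δ y z') = ℓ (Δ.δ x y) + n := by
      have h5 := cs.length_mul_le (Δ.δ x y) (Δ.δ y z')
      have h6 := cs.length_mul_le (Δ.δ x y * Δ.δ y z') (s i)
      rw [mul_assoc, ← e1, cs.length_simple] at h6
      omega
    have h3 := ih h2 h4
    rw [e1, ← mul_assoc, ← h3]
    apply Δ.step_lt x z' z i hzz
    rw [h3, mul_assoc, ← e1]
    omega

/-- One can go from `y` by any element `v`, with the distance from `x` changing accordingly. -/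
theorem exists_mul (x y : C) (v : W) : ∃ z, Δ.δ y z = v ∧ Δ.δ x z = Δ.δ x y * v := by
  obtain ⟨ω, hω, rfl⟩ := cs.exists_isReduced v
  induction ω using List.reverseRecOn with
  | nil => exact ⟨y, by simp [delta_self], by simp⟩
  | append_singleton ω i ih =>
    have hred : cs.IsReduced ω := by
      have := hω.take ω.length
      rwa [List.take_left'] at this
      rfl
    obtain ⟨z, hz, hz'⟩ := ih hred
    obtain ⟨z', h1, h2⟩ := Δ.exists_step x z i
    refine ⟨z', ?_, ?_⟩
    · rw [wordProd_append, wordProd_singleton, ← hz]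
      apply Δ.step_lt y z z' i h1
      have h3 := hω.eq
      rw [wordProd_append, wordProd_singleton, List.length_append, List.length_singleton] at h3
      rw [hz, h3, hred.eq]
      omega
    · rw [h2, hz', wordProd_append, wordProd_singleton, mul_assoc]

theorem exists_delta (y : C) (v : W) : ∃ z, Δ.δ y z = v := by
  obtain ⟨z, hz, _⟩ := exists_mul Δ y y v
  exact ⟨z, hz⟩

/-- Uniqueness of intermediate chambers on galleries of reduced type. -/
theorem eq_of_length {x z y y' : C} {w v : W} (h : ℓ (w * v) = ℓ w + ℓ v)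
    (hy : Δ.δ x y = w) (hy' : Δ.δ x y' = w) (hz : Δ.δ y z = v) (hz' : Δ.δ y' z = v) : y = y' := by
  generalize hn : ℓ v = n at h
  induction n generalizing z v with
  | zero =>
    have h1 : v = 1 := cs.length_eq_zero_iff.1 hn
    rw [(Δ.eq_one y z).1 (by rw [hz, h1]), (Δ.eq_one y' z).1 (by rw [hz', h1])]
  | succ n ih =>
    have hne : v ≠ 1 := by
      intro h1
      rw [h1, cs.length_one] at hn
      omega
    obtain ⟨i, hi⟩ := cs.exists_rightDescent_of_ne_one hne
    have hi' : ℓ (v * s i) + 1 = ℓ v := cs.isRightDescent_iff.1 hi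
    obtain ⟨a, ha, ha'⟩ := Δ.exists_step y z i
    obtain ⟨b, hb, hb'⟩ := Δ.exists_step y' z i
    have e1 : v = v * s i * s i := by rw [simple_mul_simple_cancel_right]
    have h4 : ℓ (w * (v * s i)) = ℓ w + n := by
      have h5 := cs.length_mul_le w (v * s i)
      have h6 := cs.length_mul_le (w * (v * s i)) (s i)
      rw [mul_assoc w (v * s i), ← e1, cs.length_simple] at h6
      omega
    have ea : Δ.δ y a = v * s i := by rw [ha', hz]
    have eb : Δ.δ y' b = v * s i := by rw [hb', hz']
    have xa : Δ.δ x a = w * (v * s i) := by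
      rw [add_of_length Δ (x := x) (y := y) (z := a) (by rw [hy, ea, h4]; omega), hy, ea]
    have xb : Δ.δ x b = w * (v * s i) := by
      rw [add_of_length Δ (x := x) (y := y') (z := b) (by rw [hy', eb, h4]; omega), hy', eb]
    -- `a = b`
    have hab : a = b := by
      by_contra hne'
      have hd : Δ.δ a b = s i := by
        rcases Δ.step a z b i hb with h7 | h7
        · rw [symm_simple Δ ha, simple_mul_simple_self] at h7
          exact absurd ((Δ.eq_one a b).1 h7) hne'
        · rw [h7, symm_simple Δ ha]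
      have h8 := Δ.step_lt x a b i hd (by
        rw [xa, mul_assoc w (v * s i), ← e1, h4, h]; omega)
      rw [xb, xa] at h8
      have h9 : cs.simple i = 1 := by
        have := mul_left_cancel (a := w * (v * s i)) (b := 1) (c := s i) (by rw [mul_one]; exact h8)
        exact this.symm
      have := cs.length_simple i
      rw [h9, cs.length_one] at this
      omega
    subst hab
    exact ih ea eb (by omega) h4

/-! ### Counting spheres -/

theorem mem_Pan {i : I} {x y : C} : y ∈ Δ.Pan i x ↔ y = x ∨ Δ.δ x y = s i := Iff.rfl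

theorem card_star {i : I} {q : ℕ} (hq : Δ.Param i q) (hq0 : 0 < q) (x : C) :
    Nat.card {z // Δ.δ x z = s i} = q := by
  have h := hq x
  have hfin : Finite (Δ.Pan i x) := Nat.finite_of_card_ne_zero (by rw [h]; omega)
  have h1 : Δ.Pan i x = insert x {z | Δ.δ x z = s i} := by
    ext y
    rw [mem_Pan, Set.mem_insert_iff]
    rfl
  have h2 : x ∉ {z | Δ.δ x z = s i} := by
    intro h3
    change Δ.δ x x = s i at h3
    rw [delta_self] at h3
    have := cs.length_simple i
    rw [← h3, cs.length_one] at this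
    omega
  have hfin2 : {z | Δ.δ x z = s i}.Finite := by
    have : (Δ.Pan i x).Finite := Set.toFinite _
    exact this.subset (by rw [h1]; exact Set.subset_insert _ _)
  have h4 := Set.ncard_insert_of_notMem h2 hfin2
  rw [← h1] at h4
  have h5 : (Δ.Pan i x).ncard = q + 1 := by rw [← Nat.card_coe_set_eq]; exact h
  have h6 : Nat.card {z // Δ.δ x z = s i} = {z | Δ.δ x z = s i}.ncard := by
    rw [← Nat.card_coe_set_eq]
    rfl
  omega

/-- The sphere of radius `w s_i` fibres over the sphere of radius `w`. -/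
noncomputable def sphereEquiv (x : C) {w : W} {i : I} (hw : ℓ (w * s i) = ℓ w + 1) :
    {z // Δ.δ x z = w * s i} ≃ (Σ y : {y // Δ.δ x y = w}, {z // Δ.δ (y : C) z = s i}) := by
  classical
  have hex : ∀ z : {z // Δ.δ x z = w * s i}, ∃ y, Δ.δ x y = w ∧ Δ.δ y (z : C) = s i := by
    rintro ⟨z, hz⟩
    obtain ⟨y, hy, hy'⟩ := Δ.exists_step x z i
    exact ⟨y, by rw [hy', hz, simple_mul_simple_cancel_right], symm_simple Δ hy⟩
  choose f hf hf' using hex
  refine
    { toFun := fun z => ⟨⟨f z, hf z⟩, ⟨z, hf' z⟩⟩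
      invFun := fun p => ⟨p.2, ?_⟩
      left_inv := fun z => rfl
      right_inv := ?_ }
  · have e1 := p.1.2
    have e2 := p.2.2
    have h := add_of_length Δ (x := x) (y := (p.1 : C)) (z := (p.2 : C)) (by
      rw [e1, e2, hw, cs.length_simple])
    rw [e1, e2] at h
    exact h
  · rintro ⟨⟨y, hy⟩, ⟨z, hz⟩⟩
    have hz' : Δ.δ x z = w * s i := by
      have h := add_of_length Δ (x := x) (y := y) (z := z) (by
        rw [hy, hz, hw, cs.length_simple])
      rw [hy, hz] at h
      exact h
    have h1 : f ⟨z, hz'⟩ = y := by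
      refine eq_of_length Δ (x := x) (z := z) (w := w) (v := s i) ?_ (hf ⟨z, hz'⟩) hy
        (hf' ⟨z, hz'⟩) hz
      rw [hw, cs.length_simple]
    subst h1
    rfl

theorem card_sphere_mul {i : I} {q : ℕ} (hq : Δ.Param i q) (hq0 : 0 < q) (x : C) {w : W}
    (hw : ℓ (w * s i) = ℓ w + 1) :
    Nat.card {z // Δ.δ x z = w * s i} = Nat.card {y // Δ.δ x y = w} * q := by
  classical
  rw [Nat.card_congr (sphereEquiv Δ x hw)]
  have e : (Σ y : {y // Δ.δ x y = w}, {z // Δ.δ (y : C) z = s i}) ≃
      {y // Δ.δ x y = w} × Fin q := by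
    refine (Equiv.sigmaCongrRight fun y => ?_).trans (Equiv.sigmaEquivProd _ _)
    have h := card_star Δ hq hq0 (y : C)
    have : Finite {z // Δ.δ (y : C) z = s i} := Nat.finite_of_card_ne_zero (by omega)
    exact (Finite.equivFinOfCardEq h)
  rw [Nat.card_congr e, Nat.card_prod, Nat.card_fin]

theorem card_sphere_one (x : C) : Nat.card {y // Δ.δ x y = 1} = 1 := by
  rw [Nat.card_eq_one_iff_unique]
  exact ⟨⟨fun a b => Subtype.ext (by rw [← (Δ.eq_one x a).1 a.2, ← (Δ.eq_one x b).1 b.2])⟩,
    ⟨⟨x, delta_self Δ x⟩⟩⟩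

/-- The number of chambers at distance `w` is the product of the parameters along a reduced word. -/
theorem card_sphere {q : I → ℕ} (hq : ∀ i, Δ.Param i (q i)) (hq0 : ∀ i, 0 < q i) (x : C)
    {ω : List I} (hω : cs.IsReduced ω) :
    Nat.card {y // Δ.δ x y = π ω} = (ω.map q).prod := by
  induction ω using List.reverseRecOn with
  | nil => simpa using card_sphere_one Δ x
  | append_singleton ω i ih =>
    have hred : cs.IsReduced ω := by
      have := hω.take ω.length
      rwa [List.take_left'] at this
      rfl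
    have h3 := hω.eq
    rw [wordProd_append, wordProd_singleton, List.length_append, List.length_singleton] at h3
    rw [wordProd_append, wordProd_singleton, card_sphere_mul Δ (hq i) (hq0 i) x (by
      rw [h3, hred.eq]), ih hred]
    simp

/-- All spheres are finite and non-empty when the parameters are finite. -/
theorem card_sphere_pos {q : I → ℕ} (hq : ∀ i, Δ.Param i (q i)) (hq0 : ∀ i, 0 < q i) (x : C)
    (w : W) : 0 < Nat.card {y // Δ.δ x y = w} := by
  obtain ⟨ω, hω, rfl⟩ := cs.exists_isReduced w
  rw [card_sphere Δ hq hq0 x hω]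
  apply List.prod_pos
  intro a ha
  obtain ⟨i, _, rfl⟩ := List.mem_map.1 ha
  exact hq0 i

/-! ### Opposite chambers -/

section Finite

variable [Finite W]

theorem opp_symm {x y : C} (h : Δ.Opp x y) : Δ.Opp y x := by
  unfold Bldg.Opp at *
  rw [Δ.symm, h, w0_inv]

theorem exists_opp (x : C) : ∃ y, Δ.Opp x y := exists_delta Δ x (w0 cs)

/-- In a panel of a chamber `d` opposite `c` there is exactly one chamber not opposite `c`. -/
theorem exists_nonopp {c d : C} (h : Δ.Opp c d) (i : I) :
    ∃ e, Δ.δ d e = s i ∧ Δ.δ c e = w0 cs * s i ∧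
      ∀ z, Δ.δ d z = s i → z ≠ e → Δ.Opp c z := by
  obtain ⟨e, he, he'⟩ := Δ.exists_step c d i
  refine ⟨e, he, by rw [he', h], fun z hz hne => ?_⟩
  have hze : Δ.δ e z = s i := by
    rcases Δ.step e d z i hz with h7 | h7
    · rw [symm_simple Δ he, simple_mul_simple_self] at h7
      exact absurd ((Δ.eq_one e z).1 h7).symm hne
    · rw [h7, symm_simple Δ he]
  have h1 := length_mul_w0 cs (s i)
  have h2 := length_w0_mul cs (s i)
  have h3 := Δ.step_lt c e z i hze (by
    rw [he', h, simple_mul_simple_cancel_right, ← h2, cs.length_simple]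
    omega)
  rw [he', h, simple_mul_simple_cancel_right] at h3
  exact h3

/-- Any two chambers of a thick building have a common opposite. -/
theorem exists_opp_common (ht : Δ.Thick) (c c' : C) : ∃ d, Δ.Opp c d ∧ Δ.Opp c' d := by
  have key : ∀ n : ℕ, ∀ d, Δ.Opp c d → ℓ (w0 cs) ≤ ℓ (Δ.δ c' d) + n →
      ∃ d, Δ.Opp c d ∧ Δ.Opp c' d := by
    intro n
    induction n with
    | zero =>
      intro d hd hl
      exact ⟨d, hd, eq_w0_of_length cs (by simpa using hl)⟩
    | succ n ih =>
      intro d hd hl
      by_cases hc : Δ.Opp c' d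
      · exact ⟨d, hd, hc⟩
      · -- find an ascent
        have h1 : ∃ i, ℓ (Δ.δ c' d) < ℓ (Δ.δ c' d * s i) := by
          by_contra hcon
          push Not at hcon
          apply hc
          have h2 : (w0 cs) * (Δ.δ c' d) = 1 := by
            by_contra hne
            obtain ⟨i, hi⟩ := cs.exists_rightDescent_of_ne_one hne
            have h3 : ℓ (w0 cs * Δ.δ c' d * s i) < ℓ (w0 cs * Δ.δ c' d) := hi
            have h4 := length_w0_mul cs (Δ.δ c' d)
            have h5 := length_w0_mul cs (Δ.δ c' d * s i)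
            rw [← mul_assoc] at h5
            have h6 := hcon i
            omega
          have h3 : Δ.δ c' d = (w0 cs)⁻¹ := by
            rw [eq_inv_iff_mul_eq_one]
            have : w0 cs = (Δ.δ c' d)⁻¹ := eq_inv_of_mul_eq_one_left h2
            rw [this, mul_inv_cancel]
          show Δ.δ c' d = w0 cs
          rw [h3, w0_inv]
        obtain ⟨i, hi⟩ := h1
        obtain ⟨e, he, _, he'⟩ := exists_nonopp Δ hd i
        obtain ⟨y, z, hyz, hy, hz⟩ := ht d i
        have h2 : ∃ a, Δ.δ d a = s i ∧ a ≠ e := by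
          by_cases hye : y = e
          · exact ⟨z, hz, fun h => hyz (by rw [hye, h])⟩
          · exact ⟨y, hy, hye⟩
        obtain ⟨a, ha, hae⟩ := h2
        refine ih a (he' a ha hae) ?_
        rw [Δ.step_lt c' d a i ha hi]
        omega
  obtain ⟨d, hd⟩ := exists_opp Δ c
  exact key (ℓ (w0 cs)) d hd (by omega)

end Finite

end Cfsg.Agent.Tits.Opp
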