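import Mathlib
import Cfsg.Agent.Tits.Ext
import Cfsg.Agent.Tits.CombInst
import Cfsg.Agent.Tits.MouOut
/-!
S1143: the Moufang property, all ingredients together (no hypothesis left): `Ext Δ Δ` from Theorem EXT
and `Sys Δ (Aut Δ) σ (UU Δ σ)` for every diagram with labels `2, 3, 4`; the labels of the types
`A, C, D, E, F`.
-/

set_option autoImplicit false

namespace Cfsg.Agent.Tits.MouAll

open Cfsg.Agent.Tits.Core Cfsg.Agent.Tits.Core.Bldg Cfsg.Agent.Tits.MouDefs
open Cfsg.Agent.Tits.RootComb Cfsg.Agent.LieRecognition.BNCox Cfsg.Agent.LieRecognition.CoxClass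

section General

variable {I : Type*} {M : CoxeterMatrix I} {W : Type*} [Group W] {cs : CoxeterSystem M W}
variable {C C' : Type*}

/-- All labels are `2`, `3` or `4`. -/
def Lab234 (M : CoxeterMatrix I) : Prop := ∀ i j, i ≠ j → M i j = 2 ∨ M i j = 3 ∨ M i j = 4

theorem ext [Finite I] [Finite W] {Δ : Bldg cs C} {Δ' : Bldg cs C'} (hM : Lab234 M)
    (hth : Δ.Thick) : Ext Δ Δ' := fun _ _ _ _ h1 h2 h3 h4 => Ext.EXT hM hth h1 h2 h3 h4

/-- The Moufang property. -/
theorem sys [Finite I] [Finite W] [Finite C] {Δ : Bldg cs C} (hM : Lab234 M) (hD : Diag M)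
    (hth : Δ.Thick) {σ : W → C} (hσ : Chart Δ σ) :
    MouOut.Sys Δ (Aut Δ) σ (MouOut.UU Δ σ) :=
  MouOut.sys hth (ext hM hth) (CombInst.comb cs hD) hσ

end General

theorem lab_A (n : ℕ) : Lab234 (cA n) := fun i j hij => by
  rw [cA_apply]; unfold mA
  have : (i : ℕ) ≠ j := fun h => hij (Fin.ext h)
  split_ifs <;> simp_all

theorem lab_C (n : ℕ) : Lab234 (cC n) := fun i j hij => by
  rw [cC_apply]; unfold mC
  have : (i : ℕ) ≠ j := fun h => hij (Fin.ext h)
  split_ifs <;> simp_all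

theorem lab_D (n : ℕ) : Lab234 (cD n) := fun i j hij => by
  rw [cD_apply]; unfold mD
  have : (i : ℕ) ≠ j := fun h => hij (Fin.ext h)
  split_ifs <;> simp_all

theorem lab_E (n : ℕ) : Lab234 (cE n) := fun i j hij => by
  rw [cE_apply]; unfold mE
  have : (i : ℕ) ≠ j := fun h => hij (Fin.ext h)
  split_ifs <;> simp_all

theorem lab_F : Lab234 cF := fun i j hij => by
  rw [cF_apply]; unfold mF
  have : (i : ℕ) ≠ j := fun h => hij (Fin.ext h)
  split_ifs <;> simp_all

end Cfsg.Agent.Tits.MouAll
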