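import Mathlib
import Cfsg.Agent.Tits.Roots
import Cfsg.Agent.Tits.Core
/-!
S1143, interface layer, combinatorial part.

For a Coxeter system `cs` with Cartan matrix `A`:
* `Rt x : Set W` the root (half apartment) given by a root vector `x`; `rt_eq`: the sets
  `{v | ℓ(w⁻¹ v) < ℓ(s_i w⁻¹ v)}` are `Rt (rep w α_i)`; `mem_Rt_rep`.
For a triple of nodes of type `C₃` (`M i j = 3`, `M j k = 4`, `M i k = 2`) and the orientation
`A j k = -1`, `A k j = -2`:
* signed indices `S = Fin 3 × Bool`, vectors `b x = ± E x`, `rep s (b x) = b (σ x)`;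
* every signed frame is the image of the standard one: `exists_frame`.
-/

set_option autoImplicit false
set_option linter.unusedSectionVars false

namespace Cfsg.Agent.Tits.C3Roots

open CoxeterSystem Cfsg.Agent.ChevalleyStructure.CoxeterGeom Cfsg.Agent.Tits.Roots

variable {I W : Type*} [Fintype I] [DecidableEq I] [Group W] {M : CoxeterMatrix I}
  (cs : CoxeterSystem M W) {A : I → I → ℤ} (h : IsCartan M A)

/-! ### Root sets -/

/-- The root (set of chambers of the apartment `W`) attached to a root vector `x`. -/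
def Rt (x : I → ℤ) : Set W := {v | 0 ≤ rep cs h v⁻¹ x}

theorem mem_Rt {x : I → ℤ} {v : W} : v ∈ Rt cs h x ↔ 0 ≤ rep cs h v⁻¹ x := Iff.rfl

theorem mem_Rt_rep {x : I → ℤ} {w v : W} : v ∈ Rt cs h (rep cs h w x) ↔ w⁻¹ * v ∈ Rt cs h x := by
  rw [mem_Rt, mem_Rt, mul_inv_rev, inv_inv, rep_mul_apply]

theorem Rt_sr {i : I} : Rt cs h (sr i) = {v | cs.length v < cs.length (cs.simple i * v)} := by
  ext v
  rw [mem_Rt, Set.mem_ofPred_eq]
  have e1 : cs.length (cs.simple i * v) = cs.length (v⁻¹ * cs.simple i) := by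
    rw [← cs.length_inv (cs.simple i * v), mul_inv_rev, inv_simple]
  rw [e1, ← cs.length_inv v]
  constructor
  · intro h1
    rcases lt_or_gt_of_ne (cs.length_mul_simple_ne v⁻¹ i) with h2 | h2
    · exfalso
      have h3 := nonpos_of_lt cs h v⁻¹ i h2
      exact ((isRoot_sr cs h i).act v⁻¹).not_pos_neg h1 h3
    · exact h2
  · intro h1
    exact nonneg_of_lt cs h v⁻¹ i h1

/-- the root `w α_i` as a set. -/
theorem rt_eq (w : W) (i : I) :
    {v | cs.length (w⁻¹ * v) < cs.length (cs.simple i * (w⁻¹ * v))} = Rt cs h (rep cs h w (sr i)) := by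
  ext v
  rw [mem_Rt_rep, Rt_sr]
  rfl

variable {cs h} in
theorem compl_Rt {x : I → ℤ} (hx : IsRoot cs h x) : (Rt cs h x)ᶜ = Rt cs h (-x) := by
  ext v
  rw [Set.mem_compl_iff, mem_Rt, mem_Rt, map_neg]
  exact (hx.act v⁻¹).not_nonneg_iff_neg

/-! ### A triple of nodes of type `C₃` -/

/-- Signed indices. -/
abbrev S : Type := Fin 3 × Bool

/-- The negative of a signed index. -/
def ng (x : S) : S := (x.1, !x.2)

/-- The Weyl group generators on signed indices: `0 : e₁ ↔ e₂`, `1 : e₂ ↔ e₃`, `2 : e₃ ↦ -e₃`. -/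
def sg (a : Fin 3) (x : S) : S :=
  if a = 0 then (Equiv.swap 0 1 x.1, x.2) else if a = 1 then (Equiv.swap 1 2 x.1, x.2) else
    (x.1, if x.1 = 2 then !x.2 else x.2)

/-- The action of a word. -/
def act (l : List (Fin 3)) (x : S) : S := l.foldr sg x

/-- All 48 elements of the Weyl group of type `C₃`. -/
def words : List (List (Fin 3)) :=
  [[], [0], [1], [2], [1, 0], [2, 0], [0, 1], [2, 1], [1, 2], [0, 1, 0], [2, 1, 0], [1, 2, 0], [2, 0, 1],
    [1, 2, 1], [0, 1, 2], [2, 1, 2], [2, 0, 1, 0], [1, 2, 1, 0], [0, 1, 2, 0], [2, 1, 2, 0], [1, 2, 0, 1],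
    [0, 1, 2, 1], [2, 1, 2, 1], [2, 0, 1, 2], [1, 2, 0, 1, 0], [0, 1, 2, 1, 0], [2, 1, 2, 1, 0],
    [2, 0, 1, 2, 0], [0, 1, 2, 0, 1], [2, 1, 2, 0, 1], [2, 0, 1, 2, 1], [1, 2, 0, 1, 2],
    [0, 1, 2, 0, 1, 0], [2, 1, 2, 0, 1, 0], [2, 0, 1, 2, 1, 0], [1, 2, 0, 1, 2, 0], [2, 0, 1, 2, 0, 1],
    [1, 2, 0, 1, 2, 1], [2, 1, 2, 0, 1, 2], [2, 0, 1, 2, 0, 1, 0], [1, 2, 0, 1, 2, 1, 0],
    [2, 1, 2, 0, 1, 2, 0], [1, 2, 0, 1, 2, 0, 1], [2, 1, 2, 0, 1, 2, 1], [1, 2, 0, 1, 2, 0, 1, 0],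
    [2, 1, 2, 0, 1, 2, 1, 0], [2, 1, 2, 0, 1, 2, 0, 1], [2, 1, 2, 0, 1, 2, 0, 1, 0]]

set_option maxRecDepth 100000 in
theorem exists_word : ∀ x y z : S, x.1 ≠ y.1 → y.1 ≠ z.1 → x.1 ≠ z.1 →
    ∃ l ∈ words, act l (0, true) = x ∧ act l (1, true) = y ∧ act l (2, true) = z := by
  decide

/-- The Cartan integers of a triple of nodes of type `C₃`, oriented as `B₃` (the last node is short). -/
structure Tri (A : I → I → ℤ) (n : Fin 3 → I) : Prop where
  a01 : A (n 0) (n 1) = -1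
  a10 : A (n 1) (n 0) = -1
  a12 : A (n 1) (n 2) = -1
  a21 : A (n 2) (n 1) = -2
  a02 : A (n 0) (n 2) = 0
  a20 : A (n 2) (n 0) = 0

omit [Fintype I] [DecidableEq I] in
theorem cartan_transpose (h : IsCartan M A) : IsCartan M (fun i j => A j i) := by
  refine ⟨h.diag, fun i j hij => ?_⟩
  rcases h.rel i j hij with ⟨h0, h1, h2⟩ | ⟨h0, h1, h2⟩ | ⟨h0, h1 | h1⟩ | ⟨h0, h1 | h1⟩
  · exact Or.inl ⟨h0, h2, h1⟩
  · exact Or.inr (Or.inl ⟨h0, h2, h1⟩)
  · exact Or.inr (Or.inr (Or.inl ⟨h0, Or.inr ⟨h1.2, h1.1⟩⟩))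
  · exact Or.inr (Or.inr (Or.inl ⟨h0, Or.inl ⟨h1.2, h1.1⟩⟩))
  · exact Or.inr (Or.inr (Or.inr ⟨h0, Or.inr ⟨h1.2, h1.1⟩⟩))
  · exact Or.inr (Or.inr (Or.inr ⟨h0, Or.inl ⟨h1.2, h1.1⟩⟩))

omit [Fintype I] [DecidableEq I] in
/-- A Cartan matrix with the right orientation. -/
theorem exists_tri (hM : ∃ A : I → I → ℤ, IsCartan M A) (n : Fin 3 → I) (h01 : M (n 0) (n 1) = 3)
    (h12 : M (n 1) (n 2) = 4) (h02 : M (n 0) (n 2) = 2) :
    ∃ A : I → I → ℤ, IsCartan M A ∧ Tri A n := by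
  obtain ⟨A, h⟩ := hM
  have ne01 : n 0 ≠ n 1 := by intro e; rw [e, M.diagonal] at h01; omega
  have ne12 : n 1 ≠ n 2 := by intro e; rw [e, M.diagonal] at h12; omega
  have ne02 : n 0 ≠ n 2 := by intro e; rw [e, M.diagonal] at h02; omega
  have e01 := h.rel _ _ ne01
  have e12 := h.rel _ _ ne12
  have e02 := h.rel _ _ ne02
  rw [h01] at e01
  rw [h12] at e12
  rw [h02] at e02
  simp only [Nat.reduceEqDiff, false_and, or_false, false_or, true_and] at e01 e12 e02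
  rcases e12 with e12 | e12
  · exact ⟨A, h, ⟨e01.1, e01.2, e12.1, e12.2, e02.1, e02.2⟩⟩
  · exact ⟨fun i j => A j i, cartan_transpose h, ⟨e01.2, e01.1, e12.2, e12.1, e02.2, e02.1⟩⟩

/-- The vectors `e₁, e₂, e₃`. -/
def E (n : Fin 3 → I) (a : Fin 3) : I → ℤ :=
  if a = 0 then sr (n 0) + sr (n 1) + sr (n 2) else if a = 1 then sr (n 1) + sr (n 2) else sr (n 2)

/-- The vectors `± e_a`. -/
def b (n : Fin 3 → I) (x : S) : I → ℤ := if x.2 then E n x.1 else - E n x.1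

omit [Fintype I] in
theorem b_ng (n : Fin 3 → I) (x : S) : b n (ng x) = - b n x := by
  obtain ⟨a, e⟩ := x
  cases e <;> simp [b, ng]

theorem pairing_sr (i j : I) : pairing A i (sr j) = A i j := by
  rw [sr, pairing_single, mul_one]

variable {cs h} in
theorem rep_E {n : Fin 3 → I} (hn : Tri A n) (a c : Fin 3) :
    rep cs h (cs.simple (n a)) (E n c) = b n (sg a (c, true)) := by
  have d0 := h.diag (n 0)
  have d1 := h.diag (n 1)
  have d2 := h.diag (n 2)
  have s01 : Equiv.swap (0 : Fin 3) 1 2 = 2 := by decide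
  have s12 : Equiv.swap (1 : Fin 3) 2 0 = 0 := by decide
  rw [rep_simple_eq]
  fin_cases a <;> fin_cases c <;>
    simp [E, b, sg, pairing_add, pairing_sr, hn.a01, hn.a10, hn.a12, hn.a21, hn.a02,
      hn.a20, d0, d1, d2, s01, s12] <;>
    first
    | abel_nf; done
    | (ext k; simp; ring)

variable {cs h} in
theorem rep_b {n : Fin 3 → I} (hn : Tri A n) (a : Fin 3) (x : S) :
    rep cs h (cs.simple (n a)) (b n x) = b n (sg a x) := by
  obtain ⟨c, e⟩ := x
  cases e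
  · have h1 : b n (c, false) = - E n c := by simp [b]
    have h2 : sg a (c, false) = ng (sg a (c, true)) := by
      fin_cases a <;> fin_cases c <;> decide
    rw [h1, map_neg, rep_E hn, h2, b_ng]
  · have h1 : b n (c, true) = E n c := by simp [b]
    rw [h1, rep_E hn]

variable {cs h} in
theorem rep_wordProd {n : Fin 3 → I} (hn : Tri A n) (l : List (Fin 3)) (x : S) :
    rep cs h (l.map fun a => cs.simple (n a)).prod (b n x) = b n (act l x) := by
  induction l with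
  | nil => simp [act]
  | cons a l ih =>
    rw [List.map_cons, List.prod_cons, rep_mul_apply, ih, rep_b hn]
    rfl

theorem prod_mem_WJ (n : Fin 3 → I) (l : List (Fin 3)) :
    (l.map fun a => cs.simple (n a)).prod ∈ Core.WJ cs (Set.range n) := by
  induction l with
  | nil => exact one_mem _
  | cons a l ih =>
    rw [List.map_cons, List.prod_cons]
    exact mul_mem (Subgroup.subset_closure ⟨n a, ⟨a, rfl⟩, rfl⟩) ih

variable {cs h} in
/-- Every signed frame is the image of the standard one. -/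
theorem exists_frame {n : Fin 3 → I} (hn : Tri A n) {x y z : S} (hxy : x.1 ≠ y.1) (hyz : y.1 ≠ z.1)
    (hxz : x.1 ≠ z.1) : ∃ w ∈ Core.WJ cs (Set.range n), rep cs h w (E n 0) = b n x ∧
      rep cs h w (E n 1) = b n y ∧ rep cs h w (E n 2) = b n z := by
  obtain ⟨l, -, h0, h1, h2⟩ := exists_word x y z hxy hyz hxz
  have e : ∀ a, E n a = b n (a, true) := fun a => by simp [b]
  refine ⟨_, prod_mem_WJ cs n l, ?_, ?_, ?_⟩
  · rw [e, rep_wordProd hn, h0]
  · rw [e, rep_wordProd hn, h1]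
  · rw [e, rep_wordProd hn, h2]

omit [Fintype I] in
theorem sr0 (n : Fin 3 → I) : sr (n 0) = E n 0 - E n 1 := by
  simp [E]

omit [Fintype I] in
theorem sr1 (n : Fin 3 → I) : sr (n 1) = E n 1 - E n 2 := by
  simp [E]

omit [Fintype I] in
theorem sr2 (n : Fin 3 → I) : sr (n 2) = E n 2 := by
  simp [E]

end Cfsg.Agent.Tits.C3Roots
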