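import Mathlib
import Cfsg.Agent.Tits.C3Roots
/-!
S1143, interface layer: an abstract system of root groups `X x` (`x` a root vector) in a group, and its
rank two subsystems of type `A₂`.
-/

set_option autoImplicit false
set_option linter.unusedSectionVars false

namespace Cfsg.Agent.Tits.RGSys

open CoxeterSystem Cfsg.Agent.ChevalleyStructure.CoxeterGeom Cfsg.Agent.Tits.Roots
open Cfsg.Agent.Tits.C3Roots
open scoped commutatorElement

variable {I W : Type*} [Fintype I] [DecidableEq I] [Group W] {M : CoxeterMatrix I}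
  (cs : CoxeterSystem M W) {A : I → I → ℤ} (h : IsCartan M A) {Y : Type*} [Group Y]

/-- A system of root groups. -/
structure RG (X : (I → ℤ) → Subgroup Y) (St : W → Subgroup Y) : Prop where
  adj : ∀ w i j, i ≠ j → ∀ a ∈ X (rep cs h w (sr i)),
    ∀ b ∈ X (rep cs h (w * cs.simple i) (sr j)), a * b = b * a
  two : ∀ w i j, (M i j = 3 ∨ M i j = 4) → ∀ a ∈ X (rep cs h w (sr i)),
    ∀ b ∈ X (rep cs h (w * cs.simple i * cs.simple j) (sr i)),
      ⁅a, b⁆ ∈ X (rep cs h (w * cs.simple i) (sr j))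
  three : ∀ w i j, M i j = 4 → ∀ a ∈ X (rep cs h w (sr i)),
    ∀ b ∈ X (rep cs h (w * cs.simple i * cs.simple j * cs.simple i) (sr j)),
      ∃ c ∈ X (rep cs h (w * cs.simple i) (sr j)),
      ∃ d ∈ X (rep cs h (w * cs.simple i * cs.simple j) (sr i)), ⁅a, b⁆ = c * d
  mu : ∀ w i, ∀ a ∈ X (rep cs h w (sr i)), a ≠ 1 →
    ∃ b ∈ X (-rep cs h w (sr i)), ∃ b' ∈ X (-rep cs h w (sr i)), ∀ y, IsRoot cs h y → ∀ c,
      b * a * b' * c * (b * a * b')⁻¹ ∈ X (rep cs h (w * cs.simple i * w⁻¹) y) ↔ c ∈ X y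
  le_St : ∀ v x, IsRoot cs h x → 0 ≤ rep cs h v⁻¹ x → X x ≤ St v
  sep : ∀ v x, IsRoot cs h x → ¬ 0 ≤ rep cs h v⁻¹ x → ∀ a ∈ X x, a ∈ St v → a = 1
  ne_bot : ∀ x, IsRoot cs h x → ∃ a ∈ X x, a ≠ 1

variable {cs h} {X : (I → ℤ) → Subgroup Y} {St : W → Subgroup Y} (hX : RG cs h X St)

section A2

variable {i j : I} (hij : M i j = 3)

include hij

omit [Fintype I] in
theorem ne_of_three : i ≠ j := by
  rintro rfl
  rw [M.diagonal] at hij
  omega

theorem a_ij (h : IsCartan M A) : A i j = -1 ∧ A j i = -1 := by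
  have h1 := h.rel i j (ne_of_three hij)
  rw [hij] at h1
  simpa using h1

theorem rep_i_j : rep cs h (cs.simple i) (sr j) = sr i + sr j := by
  rw [rep_simple_eq, pairing_sr, (a_ij hij h).1]
  simp [add_comm]

theorem rep_j_i : rep cs h (cs.simple j) (sr i) = sr i + sr j := by
  rw [rep_simple_eq, pairing_sr, (a_ij hij h).2]
  simp

theorem rep_i_ij : rep cs h (cs.simple i) (sr i + sr j) = sr j := by
  rw [map_add, rep_simple_sr, rep_i_j hij]
  abel

theorem rep_j_ij : rep cs h (cs.simple j) (sr i + sr j) = sr i := by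
  rw [map_add, rep_simple_sr, rep_j_i hij]
  abel

include hX

theorem adj12 (w : W) {a b : Y} (ha : a ∈ X (rep cs h w (sr i)))
    (hb : b ∈ X (rep cs h w (sr i + sr j))) : a * b = b * a := by
  refine hX.adj w i j (ne_of_three hij) a ha b ?_
  rw [rep_mul_apply, rep_i_j hij]
  exact hb

theorem adj32 (w : W) {a b : Y} (ha : a ∈ X (rep cs h w (sr j)))
    (hb : b ∈ X (rep cs h w (sr i + sr j))) : a * b = b * a := by
  refine hX.adj w j i (ne_of_three hij).symm a ha b ?_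
  rw [rep_mul_apply, rep_j_i hij]
  exact hb

/-- `X (-γ₁)` and `X γ₃` commute. -/
theorem adjn13 (w : W) {a b : Y} (ha : a ∈ X (-rep cs h w (sr i)))
    (hb : b ∈ X (rep cs h w (sr j))) : a * b = b * a := by
  refine adj12 hX hij (w * cs.simple i) ?_ ?_
  · rw [rep_mul_apply, rep_simple_sr, map_neg]; exact ha
  · rw [rep_mul_apply, rep_i_ij hij]; exact hb

/-- `X (-γ₃)` and `X γ₁` commute. -/
theorem adjn31 (w : W) {a b : Y} (ha : a ∈ X (-rep cs h w (sr j)))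
    (hb : b ∈ X (rep cs h w (sr i))) : a * b = b * a := by
  refine adj32 hX hij (w * cs.simple j) ?_ ?_
  · rw [rep_mul_apply, rep_simple_sr, map_neg]; exact ha
  · rw [rep_mul_apply, rep_j_ij hij]; exact hb

theorem two13 (w : W) {a b : Y} (ha : a ∈ X (rep cs h w (sr i)))
    (hb : b ∈ X (rep cs h w (sr j))) : ⁅a, b⁆ ∈ X (rep cs h w (sr i + sr j)) := by
  have h1 := hX.two w i j (Or.inl hij) a ha b (by
    rw [mul_assoc, rep_mul_apply, rep_mul_apply, rep_j_i hij, rep_i_ij hij]; exact hb)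
  rwa [rep_mul_apply, rep_i_j hij] at h1

theorem twon12 (w : W) {a b : Y} (ha : a ∈ X (-rep cs h w (sr i)))
    (hb : b ∈ X (rep cs h w (sr i + sr j))) : ⁅a, b⁆ ∈ X (rep cs h w (sr j)) := by
  have h1 := two13 hX hij (w * cs.simple i) (a := a) (b := b)
    (by rw [rep_mul_apply, rep_simple_sr, map_neg]; exact ha)
    (by rw [rep_mul_apply, rep_i_j hij]; exact hb)
  rwa [rep_mul_apply, rep_i_ij hij] at h1

theorem isRoot_add (w : W) : IsRoot cs h (rep cs h w (sr i + sr j)) :=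
  ⟨w * cs.simple i, j, by rw [rep_mul_apply, rep_i_j hij]⟩

theorem inter23 (w : W) {a : Y} (h2 : a ∈ X (rep cs h w (sr i + sr j)))
    (h3 : a ∈ X (rep cs h w (sr j))) : a = 1 := by
  refine hX.sep (w * cs.simple j) _ ⟨w, j, rfl⟩ ?_ a h3 (hX.le_St (w * cs.simple j) _
    (isRoot_add hX hij w) ?_ h2)
  · rw [← rep_mul_apply, mul_inv_rev, inv_simple, mul_assoc, inv_mul_cancel, mul_one, rep_simple_sr]
    intro h0
    have h1 : (0 : ℤ) ≤ -(sr j j) := h0 j
    rw [sr_self] at h1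
    omega
  · rw [← rep_mul_apply, mul_inv_rev, inv_simple, mul_assoc, inv_mul_cancel, mul_one, rep_j_ij hij]
    exact sr_nonneg i

/-- Conjugation by the `μ`-element of `a ∈ X γ₁` is `b ↦ ⁅a, b⁆` on `X γ₃`. -/
theorem mu_br (w : W) {a y y' b : Y} (ha : a ∈ X (rep cs h w (sr i)))
    (hy : y ∈ X (-rep cs h w (sr i))) (hy' : y' ∈ X (-rep cs h w (sr i)))
    (hm : ∀ x, IsRoot cs h x → ∀ c,
      y * a * y' * c * (y * a * y')⁻¹ ∈ X (rep cs h (w * cs.simple i * w⁻¹) x) ↔ c ∈ X x)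
    (hb : b ∈ X (rep cs h w (sr j))) : y * a * y' * b * (y * a * y')⁻¹ = ⁅a, b⁆ := by
  have e1 : rep cs h (w * cs.simple i * w⁻¹) (rep cs h w (sr j)) = rep cs h w (sr i + sr j) := by
    rw [rep_mul_apply, rep_inv_apply, rep_mul_apply, rep_i_j hij]
  have h1 := (hm _ ⟨w, j, rfl⟩ b).2 hb
  rw [e1] at h1
  have h2 := two13 hX hij w ha hb
  have h3 := twon12 hX hij w hy h2
  have c1 : y' * b = b * y' := adjn13 hX hij w hy' hb
  have c2 : y * b = b * y := adjn13 hX hij w hy hb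
  have e2 : y * a * y' * b * (y * a * y')⁻¹ = ⁅y, ⁅a, b⁆⁆ * ⁅a, b⁆ * b := by
    have e3 : y * a * y' * b * (y * a * y')⁻¹ = y * ⁅a, b⁆ * (b * y⁻¹) := by
      have e4 : y' * b * y'⁻¹ = b := by rw [c1, mul_inv_cancel_right]
      calc y * a * y' * b * (y * a * y')⁻¹ = y * a * (y' * b * y'⁻¹) * a⁻¹ * y⁻¹ := by group
        _ = _ := by rw [e4, commutatorElement_def]; group
    have e5 : b * y⁻¹ = y⁻¹ * b := by
      rw [mul_inv_eq_iff_eq_mul, mul_assoc, ← c2, inv_mul_cancel_left]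
    rw [e3, e5, commutatorElement_def y ⁅a, b⁆]
    group
  have c3 : b * ⁅a, b⁆ = ⁅a, b⁆ * b := adj32 hX hij w hb h2
  have h5 : (y * a * y' * b * (y * a * y')⁻¹) * ⁅a, b⁆⁻¹ = ⁅y, ⁅a, b⁆⁆ * b := by
    rw [e2, mul_assoc _ ⁅a, b⁆ b, ← c3, ← mul_assoc, mul_inv_cancel_right]
  have h6 : (y * a * y' * b * (y * a * y')⁻¹) * ⁅a, b⁆⁻¹ = 1 := by
    refine inter23 hX hij w (mul_mem h1 (inv_mem h2)) ?_
    rw [h5]
    exact mul_mem h3 hb
  exact mul_inv_eq_one.1 h6

theorem br_ne (w : W) {a b : Y} (ha : a ∈ X (rep cs h w (sr i))) (hb : b ∈ X (rep cs h w (sr j)))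
    (ha1 : a ≠ 1) (hb1 : b ≠ 1) : ⁅a, b⁆ ≠ 1 := by
  obtain ⟨y, hy, y', hy', hm⟩ := hX.mu w i a ha ha1
  rw [← mu_br hX hij w ha hy hy' hm hb]
  intro h1
  apply hb1
  rwa [mul_inv_eq_one, mul_eq_left] at h1

theorem comm2 (w : W) {a b : Y} (ha : a ∈ X (rep cs h w (sr i + sr j)))
    (hb : b ∈ X (rep cs h w (sr i + sr j))) : a * b = b * a := by
  obtain ⟨u, hu, hu1⟩ := hX.ne_bot _ ⟨w, i, rfl⟩
  obtain ⟨y, hy, y', hy', hm⟩ := hX.mu w i u hu hu1
  have e1 : rep cs h (w * cs.simple i * w⁻¹) (rep cs h w (sr j)) = rep cs h w (sr i + sr j) := by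
    rw [rep_mul_apply, rep_inv_apply, rep_mul_apply, rep_i_j hij]
  set n := y * u * y' with hn
  have h1 : n⁻¹ * a * n ∈ X (rep cs h w (sr j)) := by
    rw [← hm _ ⟨w, j, rfl⟩, e1]
    have : n * (n⁻¹ * a * n) * n⁻¹ = a := by group
    rwa [this]
  have h2 := mu_br hX hij w hu hy hy' hm h1
  rw [← hn] at h2
  have h3 : n * (n⁻¹ * a * n) * n⁻¹ = a := by group
  rw [h3] at h2
  have c1 : Commute u b := adj12 hX hij w hu hb
  have c2 : Commute (n⁻¹ * a * n) b := adj32 hX hij w h1 hb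
  rw [h2, commutatorElement_def]
  exact (((c1.mul_left c2).mul_left c1.inv_left).mul_left c2.inv_left).eq

/-- The root groups of an `A₂` subsystem are abelian. -/
theorem comm_self (w : W) {a b : Y} (ha : a ∈ X (rep cs h w (sr i)))
    (hb : b ∈ X (rep cs h w (sr i))) : a * b = b * a := by
  have e : rep cs h w (sr i) = rep cs h (w * cs.simple j) (sr i + sr j) := by
    rw [rep_mul_apply, rep_j_ij hij]
  rw [e] at ha hb
  exact comm2 hX hij _ ha hb

end A2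

end Cfsg.Agent.Tits.RGSys
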