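import Mathlib
import Cfsg.Agent.Tits.RGSys
import Cfsg.Agent.TitsThree.A2Field
/-!
S1143, interface (I2): two nodes `i, j` with `M i j = 3` give six root groups `X3 X i j a b` (`a ≠ b` in `Fin 3`)
graded by `A₂` and with `μ`-elements: `graded`, `rgd`.
-/

set_option autoImplicit false
set_option linter.unusedSectionVars false

namespace Cfsg.Agent.Tits.MouA2

open CoxeterSystem Cfsg.Agent.ChevalleyStructure.CoxeterGeom Cfsg.Agent.Tits.Roots
open Cfsg.Agent.Tits.C3Roots Cfsg.Agent.Tits.RGSys
open scoped commutatorElement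

variable {I W : Type*} [Fintype I] [DecidableEq I] [Group W] {M : CoxeterMatrix I}
  {cs : CoxeterSystem M W} {A : I → I → ℤ} {h : IsCartan M A} {Y : Type*} [Group Y]

/-- `e_0 - e_2`, `e_1 - e_2`, `0`. -/
def p (i j : I) (a : Fin 3) : I → ℤ := if a = 0 then sr i + sr j else if a = 1 then sr j else 0

/-- The six root groups. -/
def X3 (X : (I → ℤ) → Subgroup Y) (i j : I) (a b : Fin 3) : Subgroup Y := X (p i j a - p i j b)

variable {i j : I} (hij : M i j = 3)

omit [Fintype I] in
theorem p01 : p i j 0 - p i j 1 = sr i := by simp [p]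

omit [Fintype I] in
theorem p12 : p i j 1 - p i j 2 = sr j := by simp [p]

omit [Fintype I] in
theorem p02 : p i j 0 - p i j 2 = sr i + sr j := by simp [p]

omit [Fintype I] in
theorem p10 : p i j 1 - p i j 0 = - sr i := by simp [p]

omit [Fintype I] in
theorem p21 : p i j 2 - p i j 1 = - sr j := by simp [p]

/-- The generators of the symmetric group. -/
def sw (b : Bool) (a : Fin 3) : Fin 3 := if b then Equiv.swap 0 1 a else Equiv.swap 1 2 a

include hij

theorem rep_i_p (a : Fin 3) : rep cs h (cs.simple i) (p i j a) - rep cs h (cs.simple i) (p i j 2) =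
    p i j (Equiv.swap 0 1 a) - p i j 2 := by
  have s : Equiv.swap (0 : Fin 3) 1 2 = 2 := by decide
  fin_cases a
  · simp only [Fin.zero_eta, Equiv.swap_apply_left]
    have e0 : p i j 0 = sr i + sr j := by simp [p]
    have e1 : p i j 1 = sr j := by simp [p]
    have e2 : p i j 2 = 0 := by simp [p]
    rw [e0, e1, e2, rep_i_ij hij, map_zero]
  · simp only [Fin.mk_one, Equiv.swap_apply_right]
    have e0 : p i j 0 = sr i + sr j := by simp [p]
    have e1 : p i j 1 = sr j := by simp [p]
    have e2 : p i j 2 = 0 := by simp [p]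
    rw [e0, e1, e2, rep_i_j hij, map_zero]
  · change _ = p i j (Equiv.swap 0 1 2) - _
    rw [s]
    simp

theorem rep_j_p (a : Fin 3) : rep cs h (cs.simple j) (p i j a) - rep cs h (cs.simple j) (p i j 1) =
    p i j (Equiv.swap 1 2 a) - p i j 2 := by
  have s : Equiv.swap (1 : Fin 3) 2 0 = 0 := by decide
  have e0 : p i j 0 = sr i + sr j := by simp [p]
  have e1 : p i j 1 = sr j := by simp [p]
  have e2 : p i j 2 = 0 := by simp [p]
  fin_cases a
  · change _ = p i j (Equiv.swap 1 2 0) - _
    simp only [Fin.zero_eta]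
    rw [s, e0, e1, e2, rep_j_ij hij, rep_simple_sr]
    abel
  · simp only [Fin.mk_one, Equiv.swap_apply_left]
    simp
  · change rep cs h (cs.simple j) (p i j 2) - _ = p i j (Equiv.swap 1 2 2) - _
    rw [Equiv.swap_apply_right, e1, e2, rep_simple_sr, map_zero]
    simp

theorem rep_i_sub (a b : Fin 3) : rep cs h (cs.simple i) (p i j a - p i j b) =
    p i j (Equiv.swap 0 1 a) - p i j (Equiv.swap 0 1 b) := by
  have h1 := rep_i_p (cs := cs) (h := h) hij a
  have h2 := rep_i_p (cs := cs) (h := h) hij b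
  rw [map_sub, ← sub_sub_sub_cancel_right _ _ (rep cs h (cs.simple i) (p i j 2)), h1, h2,
    sub_sub_sub_cancel_right]

theorem rep_j_sub (a b : Fin 3) : rep cs h (cs.simple j) (p i j a - p i j b) =
    p i j (Equiv.swap 1 2 a) - p i j (Equiv.swap 1 2 b) := by
  have h1 := rep_j_p (cs := cs) (h := h) hij a
  have h2 := rep_j_p (cs := cs) (h := h) hij b
  rw [map_sub, ← sub_sub_sub_cancel_right _ _ (rep cs h (cs.simple j) (p i j 1)), h1, h2,
    sub_sub_sub_cancel_right]

/-- Every ordered triple is the image of the standard one. -/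
theorem exists_frame2 (cs : CoxeterSystem M W) (h : IsCartan M A) {a b c : Fin 3} (hab : a ≠ b)
    (hbc : b ≠ c) (hac : a ≠ c) :
    ∃ w : W, ∃ f : Fin 3 → Fin 3, f 0 = a ∧ f 1 = b ∧ f 2 = c ∧
      ∀ d e, rep cs h w (p i j d - p i j e) = p i j (f d) - p i j (f e) := by
  have key : ∀ l : List Bool, ∃ w : W, ∀ d e, rep cs h w (p i j d - p i j e) =
      p i j (l.foldr sw d) - p i j (l.foldr sw e) := by
    intro l
    induction l with
    | nil => exact ⟨1, fun d e => by rw [map_one]; rfl⟩
    | cons t l ih =>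
      obtain ⟨w, hw⟩ := ih
      cases t
      · refine ⟨cs.simple j * w, fun d e => ?_⟩
        rw [rep_mul_apply, hw, rep_j_sub hij]
        rfl
      · refine ⟨cs.simple i * w, fun d e => ?_⟩
        rw [rep_mul_apply, hw, rep_i_sub hij]
        rfl
  have hl : ∀ a b c : Fin 3, a ≠ b → b ≠ c → a ≠ c → ∃ l ∈ ([[], [true], [false], [true, false],
      [false, true], [true, false, true]] : List (List Bool)),
      l.foldr sw 0 = a ∧ l.foldr sw 1 = b ∧ l.foldr sw 2 = c := by
    decide
  obtain ⟨l, -, h0, h1, h2⟩ := hl a b c hab hbc hac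
  obtain ⟨w, hw⟩ := key l
  exact ⟨w, fun d => l.foldr sw d, h0, h1, h2, hw⟩

/-- The Weyl group element moving the standard frame to `(a, b, c)`. -/
theorem exists_w (cs : CoxeterSystem M W) (h : IsCartan M A) {a b c : Fin 3} (hab : a ≠ b)
    (hbc : b ≠ c) (hac : a ≠ c) : ∃ w : W, rep cs h w (sr i) = p i j a - p i j b ∧
      rep cs h w (sr j) = p i j b - p i j c ∧ rep cs h w (sr i + sr j) = p i j a - p i j c := by
  obtain ⟨w, f, h0, h1, h2, hw⟩ := exists_frame2 hij cs h hab hbc hac
  refine ⟨w, ?_, ?_, ?_⟩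
  · rw [← p01 (i := i) (j := j), hw, h0, h1]
  · rw [← p12 (i := i) (j := j), hw, h1, h2]
  · rw [← p02 (i := i) (j := j), hw, h0, h2]

variable {X : (I → ℤ) → Subgroup Y} {St : W → Subgroup Y} (hX : RG cs h X St)

include hX

/-- (I2), the commutator relations. -/
theorem graded : AGraded.Graded (X3 X i j) where
  comm := by
    intro i' j' k' l' hij' hkl hjk hil a ha b hb
    have hcase : k' = i' ∨ l' = j' := by omega
    rcases hcase with rfl | rfl
    · by_cases hl : l' = j'
      · subst hl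
        obtain ⟨c, hc1, hc2⟩ : ∃ c : Fin 3, k' ≠ c ∧ l' ≠ c := by
          have : ∀ x y : Fin 3, ∃ c : Fin 3, x ≠ c ∧ y ≠ c := by decide
          exact this k' l'
        obtain ⟨w, h1, -, -⟩ := exists_w hij cs h hkl hc2 hc1
        refine comm_self hX hij w ?_ ?_
        · rw [h1]; exact ha
        · rw [h1]; exact hb
      · obtain ⟨w, h1, -, h3⟩ := exists_w hij cs h hij' (Ne.symm hl) hkl
        refine adj12 hX hij w ?_ ?_
        · rw [h1]; exact ha
        · rw [h3]; exact hb
    · by_cases hk : k' = i'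
      · subst hk
        obtain ⟨c, hc1, hc2⟩ : ∃ c : Fin 3, k' ≠ c ∧ l' ≠ c := by
          have : ∀ x y : Fin 3, ∃ c : Fin 3, x ≠ c ∧ y ≠ c := by decide
          exact this k' l'
        obtain ⟨w, h1, -, -⟩ := exists_w hij cs h hkl hc2 hc1
        refine comm_self hX hij w ?_ ?_
        · rw [h1]; exact ha
        · rw [h1]; exact hb
      · obtain ⟨w, -, h2, h3⟩ := exists_w hij cs h (Ne.symm hk) hkl hij'
        refine (adj32 hX hij w ?_ ?_).symm
        · rw [h2]; exact hb
        · rw [h3]; exact ha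
  br_mem := by
    intro a b c hab hbc hac x hx y hy
    obtain ⟨w, h1, h2, h3⟩ := exists_w hij cs h hab hbc hac
    have := two13 hX hij w (a := x) (b := y) (by rw [h1]; exact hx) (by rw [h2]; exact hy)
    rwa [h3] at this
  br_ne := by
    intro a b c hab hbc hac x hx y hy hx1 hy1
    obtain ⟨w, h1, h2, h3⟩ := exists_w hij cs h hab hbc hac
    exact br_ne hX hij w (a := x) (b := y) (by rw [h1]; exact hx) (by rw [h2]; exact hy) hx1 hy1
  ne_bot := by
    intro a b hab
    obtain ⟨c, hc1, hc2⟩ : ∃ c : Fin 3, a ≠ c ∧ b ≠ c := by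
      have : ∀ x y : Fin 3, ∃ c : Fin 3, x ≠ c ∧ y ≠ c := by decide
      exact this a b
    obtain ⟨w, h1, -, -⟩ := exists_w hij cs h hab hc2 hc1
    have := hX.ne_bot _ ⟨w, i, rfl⟩
    rwa [h1] at this

/-- (I2), the rank one condition. -/
theorem rgd : TitsThree.A2Refl.Rgd (X3 X i j) := by
  intro a b hab x hx hx1
  obtain ⟨c, hc1, hc2⟩ : ∃ c : Fin 3, a ≠ c ∧ b ≠ c := by
    have : ∀ x y : Fin 3, ∃ c : Fin 3, x ≠ c ∧ y ≠ c := by decide
    exact this a b
  obtain ⟨w, h1, h2, h3⟩ := exists_w hij cs h hab hc2 hc1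
  have hneg : -rep cs h w (sr i) = p i j b - p i j a := by rw [h1, neg_sub]
  obtain ⟨y, hy, y', hy', hm⟩ := hX.mu w i x (by rw [h1]; exact hx) hx1
  have huniq : ∀ k : Fin 3, k ≠ a → k ≠ b → k = c := by omega
  -- the action of the reflection
  have t1 : rep cs h (w * cs.simple i * w⁻¹) (p i j a - p i j b) = p i j b - p i j a := by
    rw [← h1, rep_mul_apply, rep_inv_apply, rep_mul_apply, rep_simple_sr, map_neg, hneg]
  have t2 : rep cs h (w * cs.simple i * w⁻¹) (p i j b - p i j c) = p i j a - p i j c := by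
    rw [← h2, rep_mul_apply, rep_inv_apply, rep_mul_apply, rep_i_j hij, h3]
  have t3 : rep cs h (w * cs.simple i * w⁻¹) (p i j a - p i j c) = p i j b - p i j c := by
    rw [← h3, rep_mul_apply, rep_inv_apply, rep_mul_apply, rep_i_ij hij, h2]
  have r1 : IsRoot cs h (p i j a - p i j b) := ⟨w, i, h1.symm⟩
  have r2 : IsRoot cs h (p i j b - p i j c) := ⟨w, j, h2.symm⟩
  have r3 : IsRoot cs h (p i j a - p i j c) := by
    have := isRoot_add (Y := Y) hX hij w
    rwa [h3] at this
  refine ⟨y, by rw [hneg] at hy; exact hy, y', by rw [hneg] at hy'; exact hy', ?_, ?_, ?_, ?_, ?_, ?_⟩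
  · intro z hz
    have := (hm _ r1 z).2 hz
    rwa [t1] at this
  · intro z hz
    have := (hm _ r1.neg z).2 (by rw [neg_sub]; exact hz)
    rw [map_neg, t1, neg_sub] at this
    exact this
  · intro k hk1 hk2 z hz
    rw [huniq k hk1 hk2] at hz ⊢
    have := (hm _ r3 z).2 hz
    rwa [t3] at this
  · intro k hk1 hk2 z hz
    rw [huniq k hk1 hk2] at hz ⊢
    have := (hm _ r2 z).2 hz
    rwa [t2] at this
  · intro k hk1 hk2 z hz
    rw [huniq k hk1 hk2] at hz ⊢
    have := (hm _ r3.neg z).2 (by rw [neg_sub]; exact hz)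
    rw [map_neg, t3, neg_sub] at this
    exact this
  · intro k hk1 hk2 z hz
    rw [huniq k hk1 hk2] at hz ⊢
    have := (hm _ r2.neg z).2 (by rw [neg_sub]; exact hz)
    rw [map_neg, t2, neg_sub] at this
    exact this

end Cfsg.Agent.Tits.MouA2
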