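import Mathlib
import Cfsg.Agent.Tits.RGSys
/-!
S1143, interface (I3): the root groups of a triple of nodes of type `C₃`, in signed notation.
-/

set_option autoImplicit false
set_option linter.unusedSectionVars false

namespace Cfsg.Agent.Tits.MouC3

open CoxeterSystem Cfsg.Agent.ChevalleyStructure.CoxeterGeom Cfsg.Agent.Tits.Roots
open Cfsg.Agent.Tits.C3Roots Cfsg.Agent.Tits.RGSys
open scoped commutatorElement

variable {I W : Type*} [Fintype I] [DecidableEq I] [Group W] {M : CoxeterMatrix I}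
  {cs : CoxeterSystem M W} {A : I → I → ℤ} {h : IsCartan M A} {Y : Type*} [Group Y]

/-- The signed map given by a frame. -/
def fr (x y z : S) (c : S) : S :=
  if c.1 = 0 then (if c.2 then x else ng x) else if c.1 = 1 then (if c.2 then y else ng y) else
    (if c.2 then z else ng z)

theorem exists_third : ∀ x y : S, ∃ z : S, z.1 ≠ x.1 ∧ z.1 ≠ y.1 := by decide

/-- `w` maps the standard frame to `(x, y, z)`. -/
structure Fr (cs : CoxeterSystem M W) (h : IsCartan M A) (n : Fin 3 → I) (w : W) (x y z : S) : Prop where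
  e0 : rep cs h w (E n 0) = b n x
  e1 : rep cs h w (E n 1) = b n y
  e2 : rep cs h w (E n 2) = b n z

variable {n : Fin 3 → I} (hn : Tri A n)

theorem Fr.act {w : W} {x y z : S} (f : Fr cs h n w x y z) (c : S) :
    rep cs h w (b n c) = b n (fr x y z c) := by
  obtain ⟨k, e⟩ := c
  fin_cases k <;> cases e
  · show rep cs h w (-E n 0) = b n (ng x)
    rw [map_neg, f.e0, b_ng]
  · exact f.e0
  · show rep cs h w (-E n 1) = b n (ng y)
    rw [map_neg, f.e1, b_ng]
  · exact f.e1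
  · show rep cs h w (-E n 2) = b n (ng z)
    rw [map_neg, f.e2, b_ng]
  · exact f.e2

include hn

theorem exists_fr (cs : CoxeterSystem M W) (h : IsCartan M A) {x y z : S} (hxy : x.1 ≠ y.1)
    (hyz : y.1 ≠ z.1) (hxz : x.1 ≠ z.1) : ∃ w, Fr cs h n w x y z := by
  obtain ⟨w, -, h0, h1, h2⟩ := exists_frame (cs := cs) (h := h) hn hxy hyz hxz
  exact ⟨w, h0, h1, h2⟩

omit hn in
theorem neg_b (x : S) : -b n x = b n (ng x) := (b_ng n x).symm

omit hn in
theorem ng_ng (x : S) : ng (ng x) = x := by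
  obtain ⟨a, e⟩ := x
  cases e <;> rfl

omit hn in
theorem ng_fst (x : S) : (ng x).1 = x.1 := rfl

/-! ### The roots -/

section

variable {w : W} {x y z : S} (f : Fr cs h n w x y z)

include f

omit hn in
theorem Fr.s0 : rep cs h w (sr (n 0)) = b n x + b n (ng y) := by
  rw [sr0, map_sub, f.e0, f.e1, sub_eq_add_neg, neg_b]

omit hn in
theorem Fr.s1 : rep cs h w (sr (n 1)) = b n y + b n (ng z) := by
  rw [sr1, map_sub, f.e1, f.e2, sub_eq_add_neg, neg_b]

omit hn in
theorem Fr.s2 : rep cs h w (sr (n 2)) = b n z := by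
  rw [sr2, f.e2]

/-- Compose with a simple reflection. -/
theorem Fr.mul (a : Fin 3) : Fr cs h n (w * cs.simple (n a)) (fr x y z (sg a (0, true)))
    (fr x y z (sg a (1, true))) (fr x y z (sg a (2, true))) := by
  refine ⟨?_, ?_, ?_⟩
  · rw [rep_mul_apply, rep_E hn, f.act]
  · rw [rep_mul_apply, rep_E hn, f.act]
  · rw [rep_mul_apply, rep_E hn, f.act]

theorem Fr.mul0 : Fr cs h n (w * cs.simple (n 0)) y x z := f.mul hn 0

theorem Fr.mul1 : Fr cs h n (w * cs.simple (n 1)) x z y := f.mul hn 1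

theorem Fr.mul2 : Fr cs h n (w * cs.simple (n 2)) x y (ng z) := f.mul hn 2

/-- The action of a conjugate of a simple reflection. -/
theorem Fr.refl (a : Fin 3) (c : S) :
    rep cs h (w * cs.simple (n a) * w⁻¹) (b n (fr x y z c)) = b n (fr x y z (sg a c)) := by
  rw [← f.act, rep_mul_apply, rep_inv_apply, rep_mul_apply, rep_b hn, f.act]

end

theorem isRoot_b (cs : CoxeterSystem M W) (h : IsCartan M A) (x : S) : IsRoot cs h (b n x) := by
  obtain ⟨y, z, hyz, hzx, hyx⟩ : ∃ y z : S, y.1 ≠ z.1 ∧ z.1 ≠ x.1 ∧ y.1 ≠ x.1 := by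
    revert x
    decide
  obtain ⟨w, f⟩ := exists_fr hn cs h hyz hzx hyx
  exact ⟨w, n 2, f.s2.symm⟩

theorem isRoot_bb (cs : CoxeterSystem M W) (h : IsCartan M A) {x y : S} (hxy : x.1 ≠ y.1) :
    IsRoot cs h (b n x + b n y) := by
  obtain ⟨z, hzx, hzy⟩ := exists_third x y
  obtain ⟨w, f⟩ := exists_fr hn cs h (x := x) (y := ng y) (z := z) hxy hzy.symm hzx.symm
  refine ⟨w, n 0, ?_⟩
  rw [f.s0, ng_ng]

/-! ### The commutator relations -/

variable {X : (I → ℤ) → Subgroup Y} {St : W → Subgroup Y} (hX : RG cs h X St)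
  (h01 : M (n 0) (n 1) = 3) (h12 : M (n 1) (n 2) = 4) (h02 : M (n 0) (n 2) = 2)

include hX

theorem xx60 (h01 : M (n 0) (n 1) = 3) {x y z : S} (hxy : x.1 ≠ y.1) (hyz : y.1 ≠ z.1)
    (hxz : x.1 ≠ z.1) {a c : Y} (ha : a ∈ X (b n x + b n y)) (hc : c ∈ X (b n x + b n z)) :
    a * c = c * a := by
  obtain ⟨w, f⟩ := exists_fr hn cs h (x := x) (y := ng y) (z := ng z) hxy hyz hxz
  refine adj12 hX h01 w ?_ ?_
  · rw [f.s0, ng_ng]; exact ha
  · rw [map_add, f.s0, f.s1, ng_ng, ng_ng, add_assoc, ← add_assoc (b n y), b_ng, add_neg_cancel,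
      zero_add]
    exact hc

theorem xx120 (h01 : M (n 0) (n 1) = 3) {x y z : S} (hxy : x.1 ≠ y.1) (hyz : y.1 ≠ z.1)
    (hxz : x.1 ≠ z.1) {a c : Y} (ha : a ∈ X (b n x + b n y)) (hc : c ∈ X (b n (ng y) + b n z)) :
    ⁅a, c⁆ ∈ X (b n x + b n z) := by
  obtain ⟨w, f⟩ := exists_fr hn cs h (x := x) (y := ng y) (z := ng z) hxy hyz hxz
  have := two13 hX h01 w (a := a) (b := c) (by rw [f.s0, ng_ng]; exact ha)
    (by rw [f.s1, ng_ng]; exact hc)
  rwa [map_add, f.s0, f.s1, ng_ng, ng_ng, add_assoc, ← add_assoc (b n y), b_ng, add_neg_cancel,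
      zero_add] at this

theorem xx90 (h12 : M (n 1) (n 2) = 4) {x y : S} (hxy : x.1 ≠ y.1) {a c : Y}
    (ha : a ∈ X (b n x + b n y)) (hc : c ∈ X (b n x + b n (ng y))) : ⁅a, c⁆ ∈ X (b n x) := by
  obtain ⟨z, hzx, hzy⟩ := exists_third x y
  obtain ⟨w, f⟩ := exists_fr hn cs h (x := z) (y := x) (z := ng y) hzx hxy hzy
  have f1 := f.mul1 hn
  have f2 := f1.mul2 hn
  have := hX.two w (n 1) (n 2) (Or.inr h12) a (by rw [f.s1, ng_ng]; exact ha) c
    (by rw [f2.s1, ng_ng, add_comm]; exact hc)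
  rwa [f1.s2] at this

theorem zx45 (h12 : M (n 1) (n 2) = 4) {x y : S} (hxy : x.1 ≠ y.1) {a c : Y}
    (ha : a ∈ X (b n x)) (hc : c ∈ X (b n x + b n y)) : a * c = c * a := by
  obtain ⟨z, hzx, hzy⟩ := exists_third x y
  obtain ⟨w, f⟩ := exists_fr hn cs h (x := z) (y := y) (z := x) hzy hxy.symm hzx
  have hne : n 2 ≠ n 1 := by
    intro e
    rw [e, M.diagonal] at h12
    omega
  refine hX.adj w (n 2) (n 1) hne a (by rw [f.s2]; exact ha) c ?_
  rw [(f.mul2 hn).s1, ng_ng, add_comm]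
  exact hc

theorem zx90 (h02 : M (n 0) (n 2) = 2) {x y z : S} (hxy : x.1 ≠ y.1) (hyz : y.1 ≠ z.1)
    (hxz : x.1 ≠ z.1) {a c : Y} (ha : a ∈ X (b n x)) (hc : c ∈ X (b n y + b n z)) :
    a * c = c * a := by
  obtain ⟨w, f⟩ := exists_fr hn cs h (x := y) (y := ng z) (z := x) hyz hxz.symm hxy.symm
  have hne : n 2 ≠ n 0 := by
    intro e
    rw [e, M.diagonal] at h02
    omega
  refine hX.adj w (n 2) (n 0) hne a (by rw [f.s2]; exact ha) c ?_
  rw [(f.mul2 hn).s0, ng_ng]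
  exact hc

theorem zx135 (h12 : M (n 1) (n 2) = 4) {x y : S} (hxy : x.1 ≠ y.1) {a c : Y}
    (ha : a ∈ X (b n x + b n (ng y))) (hc : c ∈ X (b n y)) :
    ∃ p ∈ X (b n x), ∃ q ∈ X (b n x + b n y), ⁅a, c⁆ = p * q := by
  obtain ⟨z, hzx, hzy⟩ := exists_third x y
  obtain ⟨w, f⟩ := exists_fr hn cs h (x := z) (y := x) (z := y) hzx hxy hzy
  have f1 := f.mul1 hn
  have f2 := f1.mul2 hn
  have f3 := f2.mul1 hn
  obtain ⟨p, hp, q, hq, e⟩ := hX.three w (n 1) (n 2) h12 a (by rw [f.s1]; exact ha) c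
    (by rw [f3.s2]; exact hc)
  rw [f1.s2] at hp
  rw [f2.s1, ng_ng, add_comm] at hq
  exact ⟨p, hp, q, hq, e⟩

theorem zz (h12 : M (n 1) (n 2) = 4) {x y : S} (hxy : x.1 ≠ y.1) {a c : Y}
    (ha : a ∈ X (b n x)) (hc : c ∈ X (b n y)) : ⁅a, c⁆ ∈ X (b n x + b n y) := by
  obtain ⟨z, hzx, hzy⟩ := exists_third x y
  obtain ⟨w, f⟩ := exists_fr hn cs h (x := z) (y := y) (z := x) hzy hxy.symm hzx
  have f2 := f.mul2 hn
  have f1 := f2.mul1 hn
  have h21 : M (n 2) (n 1) = 4 := by rw [M.symmetric]; exact h12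
  have := hX.two w (n 2) (n 1) (Or.inr h21) a (by rw [f.s2]; exact ha) c (by rw [f1.s2]; exact hc)
  rwa [f2.s1, ng_ng, add_comm] at this

/-! ### Unique factorisation -/

omit hX hn

theorem nonneg_E (n : Fin 3 → I) (a : Fin 3) : 0 ≤ E n a := by
  have h0 := sr_nonneg (n 0)
  have h1 := sr_nonneg (n 1)
  have h2 := sr_nonneg (n 2)
  fin_cases a
  · exact add_nonneg (add_nonneg h0 h1) h2
  · exact add_nonneg h1 h2
  · exact h2

theorem nonneg_bb (n : Fin 3 → I) {c d : S} (hcd : c.1 < d.1) (hc : c.2 = true) :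
    0 ≤ b n c + b n d := by
  obtain ⟨a, s⟩ := c
  obtain ⟨a', s'⟩ := d
  have hs : s = true := hc
  subst hs
  have h0 := sr_nonneg (n 0)
  have h1 := sr_nonneg (n 1)
  have e1 : b n (a, true) = E n a := rfl
  rw [e1]
  cases s'
  · have e2 : b n (a', false) = -E n a' := rfl
    rw [e2, ← sub_eq_add_neg, sub_nonneg]
    have h01 : E n 1 ≤ E n 0 := by rw [← sub_nonneg, ← sr0]; exact h0
    have h12 : E n 2 ≤ E n 1 := by rw [← sub_nonneg, ← sr1]; exact h1
    fin_cases a <;> fin_cases a'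
    · exact absurd hcd (by decide)
    · exact h01
    · exact h12.trans h01
    · exact absurd hcd (by decide)
    · exact absurd hcd (by decide)
    · exact h12
    · exact absurd hcd (by decide)
    · exact absurd hcd (by decide)
    · exact absurd hcd (by decide)
  · have e2 : b n (a', true) = E n a' := rfl
    rw [e2]
    exact add_nonneg (nonneg_E n a) (nonneg_E n a')

theorem Fr.inv {w : W} {x y z : S} (f : Fr cs h n w x y z) (c : S) :
    rep cs h w⁻¹ (b n (fr x y z c)) = b n c := by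
  rw [← f.act, rep_inv_apply]

theorem Fr.nn {w : W} {x y z : S} (f : Fr cs h n w x y z) {c d : S} (hcd : c.1 < d.1)
    (hc : c.2 = true) : 0 ≤ rep cs h w⁻¹ (b n (fr x y z c) + b n (fr x y z d)) := by
  rw [map_add, f.inv, f.inv]
  exact nonneg_bb n hcd hc

theorem Fr.n1 {w : W} {x y z : S} (f : Fr cs h n w x y z) (a : Fin 3) :
    0 ≤ rep cs h w⁻¹ (b n (fr x y z (a, true))) := by
  rw [f.inv]
  exact nonneg_E n a

include hX

theorem sep' {v : W} {x : I → ℤ} (hx : IsRoot cs h x) (h0 : 0 ≤ rep cs h v⁻¹ (-x)) {a : Y}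
    (ha : a ∈ X x) (hg : a ∈ St v) : a = 1 := by
  refine hX.sep v x hx ?_ a ha hg
  rw [(hx.act v⁻¹).not_nonneg_iff_neg, ← map_neg]
  exact h0

include hn

theorem u2 {x y : S} (hxy : x.1 ≠ y.1) {a c d : Y} (ha : a ∈ X (b n x))
    (hc : c ∈ X (b n x + b n y)) (hd : d ∈ X (b n x + b n (ng y))) (he : a * c * d = 1) :
    a = 1 ∧ c = 1 ∧ d = 1 := by
  obtain ⟨z, hzx, hzy⟩ := exists_third x y
  have hd1 : d = 1 := by
    obtain ⟨w, f⟩ := exists_fr hn cs h (x := y) (y := x) (z := z) hxy.symm hzx.symm hzy.symm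
    have h1 : a ∈ St w := hX.le_St w _ (isRoot_b hn cs h x) (f.n1 1) ha
    have h2 : c ∈ St w := hX.le_St w _ (isRoot_bb hn cs h hxy) (by
      rw [add_comm]; exact f.nn (c := (0, true)) (d := (1, true)) (by decide) rfl) hc
    refine sep' hX (isRoot_bb hn cs h (x := x) (y := ng y) hxy) (v := w) ?_ hd ?_
    · rw [neg_add, neg_b, neg_b, ng_ng, add_comm]
      exact f.nn (c := (0, true)) (d := (1, false)) (by decide) rfl
    · rw [mul_eq_one_iff_inv_eq.1 he |>.symm]
      exact inv_mem (mul_mem h1 h2)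
  subst hd1
  rw [mul_one] at he
  have hc1 : c = 1 := by
    obtain ⟨w, f⟩ := exists_fr hn cs h (x := ng y) (y := x) (z := z) hxy.symm hzx.symm hzy.symm
    have h1 : a ∈ St w := hX.le_St w _ (isRoot_b hn cs h x) (f.n1 1) ha
    refine sep' hX (isRoot_bb hn cs h hxy) (v := w) ?_ hc ?_
    · rw [neg_add, neg_b, neg_b, add_comm]
      exact f.nn (c := (0, true)) (d := (1, false)) (by decide) rfl
    · rw [mul_eq_one_iff_inv_eq.1 he |>.symm]
      exact inv_mem h1
  subst hc1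
  rw [mul_one] at he
  exact ⟨he, rfl, rfl⟩

theorem u3 {x y z : S} (hxy : x.1 ≠ y.1) (hyz : y.1 ≠ z.1) (hxz : x.1 ≠ z.1) {a1 a2 a3 a4 a5 a6 : Y}
    (h1 : a1 ∈ X (b n x)) (h2 : a2 ∈ X (b n y)) (h3 : a3 ∈ X (b n z))
    (h4 : a4 ∈ X (b n x + b n y)) (h5 : a5 ∈ X (b n x + b n z)) (h6 : a6 ∈ X (b n y + b n z))
    (he : a1 * a2 * a3 * a4 * a5 * a6 = 1) :
    a1 = 1 ∧ a2 = 1 ∧ a3 = 1 ∧ a4 = 1 ∧ a5 = 1 ∧ a6 = 1 := by
  have rx := isRoot_b hn cs h x
  have ry := isRoot_b hn cs h y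
  have rz := isRoot_b hn cs h z
  have rxy := isRoot_bb hn cs h hxy
  have rxz := isRoot_bb hn cs h hxz
  have ryz := isRoot_bb hn cs h hyz
  have e1 : a1 = 1 := by
    obtain ⟨w, f⟩ := exists_fr hn cs h (x := z) (y := y) (z := ng x) hyz.symm hxy.symm hxz.symm
    have g2 : a2 ∈ St w := hX.le_St w _ ry (f.n1 1) h2
    have g3 : a3 ∈ St w := hX.le_St w _ rz (f.n1 0) h3
    have g4 : a4 ∈ St w := hX.le_St w _ rxy (by
      have := f.nn (c := (1, true)) (d := (2, false)) (by decide) rfl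
      rw [add_comm]
      simpa [fr, ng_ng] using this) h4
    have g5 : a5 ∈ St w := hX.le_St w _ rxz (by
      have := f.nn (c := (0, true)) (d := (2, false)) (by decide) rfl
      rw [add_comm]
      simpa [fr, ng_ng] using this) h5
    have g6 : a6 ∈ St w := hX.le_St w _ ryz (by
      have := f.nn (c := (0, true)) (d := (1, true)) (by decide) rfl
      rw [add_comm]
      simpa [fr, ng_ng] using this) h6
    refine sep' hX rx (v := w) ?_ h1 ?_
    · rw [neg_b]; exact f.n1 2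
    · have : a1 = (a2 * a3 * a4 * a5 * a6)⁻¹ := by
        rw [eq_inv_iff_mul_eq_one, ← he]
        group
      rw [this]
      exact inv_mem (mul_mem (mul_mem (mul_mem (mul_mem g2 g3) g4) g5) g6)
  subst e1
  rw [one_mul] at he
  have e2 : a2 = 1 := by
    obtain ⟨w, f⟩ := exists_fr hn cs h (x := z) (y := x) (z := ng y) hxz.symm hxy hyz.symm
    have g3 : a3 ∈ St w := hX.le_St w _ rz (f.n1 0) h3
    have g4 : a4 ∈ St w := hX.le_St w _ rxy (by
      have := f.nn (c := (1, true)) (d := (2, false)) (by decide) rfl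
      simpa [fr, ng_ng] using this) h4
    have g5 : a5 ∈ St w := hX.le_St w _ rxz (by
      have := f.nn (c := (0, true)) (d := (1, true)) (by decide) rfl
      rw [add_comm]
      simpa [fr, ng_ng] using this) h5
    have g6 : a6 ∈ St w := hX.le_St w _ ryz (by
      have := f.nn (c := (0, true)) (d := (2, false)) (by decide) rfl
      rw [add_comm]
      simpa [fr, ng_ng] using this) h6
    refine sep' hX ry (v := w) ?_ h2 ?_
    · rw [neg_b]; exact f.n1 2
    · have : a2 = (a3 * a4 * a5 * a6)⁻¹ := by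
        rw [eq_inv_iff_mul_eq_one, ← he]
        group
      rw [this]
      exact inv_mem (mul_mem (mul_mem (mul_mem g3 g4) g5) g6)
  subst e2
  rw [one_mul] at he
  have e3 : a3 = 1 := by
    obtain ⟨w, f⟩ := exists_fr hn cs h (x := x) (y := y) (z := ng z) hxy hyz hxz
    have g4 : a4 ∈ St w := hX.le_St w _ rxy (by
      have := f.nn (c := (0, true)) (d := (1, true)) (by decide) rfl
      simpa [fr, ng_ng] using this) h4
    have g5 : a5 ∈ St w := hX.le_St w _ rxz (by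
      have := f.nn (c := (0, true)) (d := (2, false)) (by decide) rfl
      simpa [fr, ng_ng] using this) h5
    have g6 : a6 ∈ St w := hX.le_St w _ ryz (by
      have := f.nn (c := (1, true)) (d := (2, false)) (by decide) rfl
      simpa [fr, ng_ng] using this) h6
    refine sep' hX rz (v := w) ?_ h3 ?_
    · rw [neg_b]; exact f.n1 2
    · have : a3 = (a4 * a5 * a6)⁻¹ := by
        rw [eq_inv_iff_mul_eq_one, ← he]
        group
      rw [this]
      exact inv_mem (mul_mem (mul_mem g4 g5) g6)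
  subst e3
  rw [one_mul] at he
  have e4 : a4 = 1 := by
    obtain ⟨w, f⟩ := exists_fr hn cs h (x := z) (y := ng x) (z := ng y) hxz.symm hxy hyz.symm
    have g5 : a5 ∈ St w := hX.le_St w _ rxz (by
      have := f.nn (c := (0, true)) (d := (1, false)) (by decide) rfl
      rw [add_comm]
      simpa [fr, ng_ng] using this) h5
    have g6 : a6 ∈ St w := hX.le_St w _ ryz (by
      have := f.nn (c := (0, true)) (d := (2, false)) (by decide) rfl
      rw [add_comm]
      simpa [fr, ng_ng] using this) h6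
    refine sep' hX rxy (v := w) ?_ h4 ?_
    · rw [neg_add, neg_b, neg_b]
      exact f.nn (c := (1, true)) (d := (2, true)) (by decide) rfl
    · have : a4 = (a5 * a6)⁻¹ := by
        rw [eq_inv_iff_mul_eq_one, ← he]
        group
      rw [this]
      exact inv_mem (mul_mem g5 g6)
  subst e4
  rw [one_mul] at he
  have e5 : a5 = 1 := by
    obtain ⟨w, f⟩ := exists_fr hn cs h (x := y) (y := ng x) (z := ng z) hxy.symm hxz hyz
    have g6 : a6 ∈ St w := hX.le_St w _ ryz (by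
      have := f.nn (c := (0, true)) (d := (2, false)) (by decide) rfl
      simpa [fr, ng_ng] using this) h6
    refine sep' hX rxz (v := w) ?_ h5 ?_
    · rw [neg_add, neg_b, neg_b]
      exact f.nn (c := (1, true)) (d := (2, true)) (by decide) rfl
    · have : a5 = a6⁻¹ := by
        rw [eq_inv_iff_mul_eq_one, ← he]
      rw [this]
      exact inv_mem g6
  subst e5
  rw [one_mul] at he
  exact ⟨rfl, rfl, rfl, rfl, rfl, he⟩

/-! ### `μ`-elements -/

theorem nZ (x : S) {u : Y} (hu : u ∈ X (b n x)) (hu1 : u ≠ 1) :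
    ∃ v ∈ X (b n (ng x)), ∃ w ∈ X (b n (ng x)),
      (∀ a c : S, a.1 ≠ c.1 → ∀ g, g ∈ X (b n a + b n c) ↔ (v * u * w) * g * (v * u * w)⁻¹ ∈
        X (b n (if a.1 = x.1 then ng a else a) + b n (if c.1 = x.1 then ng c else c))) ∧
      (∀ a : S, ∀ g, g ∈ X (b n a) ↔ (v * u * w) * g * (v * u * w)⁻¹ ∈
        X (b n (if a.1 = x.1 then ng a else a))) := by
  have key : ∀ x : S, ∃ y z : S, y.1 ≠ z.1 ∧ z.1 ≠ x.1 ∧ y.1 ≠ x.1 ∧
      ∀ a, ∃ c, fr y z x c = a ∧ fr y z x (sg 2 c) = (if a.1 = x.1 then ng a else a) := by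
    decide
  obtain ⟨y, z, hyz, hzx, hyx, hk⟩ := key x
  obtain ⟨w, f⟩ := exists_fr hn cs h hyz hzx hyx
  obtain ⟨v, hv, v', hv', hm⟩ := hX.mu w (n 2) u (by rw [f.s2]; exact hu) hu1
  rw [f.s2, neg_b] at hv hv'
  have hr : ∀ a : S, rep cs h (w * cs.simple (n 2) * w⁻¹) (b n a) =
      b n (if a.1 = x.1 then ng a else a) := by
    intro a
    obtain ⟨c, rfl, hc⟩ := hk a
    rw [← hc, f.refl hn]
  refine ⟨v, hv, v', hv', fun a c hac g => ?_, fun a g => ?_⟩
  · have := hm _ (isRoot_bb hn cs h hac) g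
    rw [map_add, hr, hr] at this
    exact this.symm
  · have := hm _ (isRoot_b hn cs h a) g
    rw [hr] at this
    exact this.symm

/-- The reflection in `b x + b y` on signed indices. -/
def rXY (x y a : S) : S :=
  if a = x then ng y else if a = ng x then y else if a = y then ng x else if a = ng y then x else a

theorem nX {x y : S} (hxy : x.1 ≠ y.1) {u : Y} (hu : u ∈ X (b n x + b n y)) (hu1 : u ≠ 1) :
    ∃ v ∈ X (b n (ng x) + b n (ng y)), ∃ w ∈ X (b n (ng x) + b n (ng y)),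
      (∀ a c : S, a.1 ≠ c.1 → ∀ g, g ∈ X (b n a + b n c) ↔ (v * u * w) * g * (v * u * w)⁻¹ ∈
        X (b n (rXY x y a) + b n (rXY x y c))) ∧
      (∀ a : S, ∀ g, g ∈ X (b n a) ↔ (v * u * w) * g * (v * u * w)⁻¹ ∈ X (b n (rXY x y a))) := by
  have key : ∀ x y : S, x.1 ≠ y.1 → ∃ z : S, z.1 ≠ x.1 ∧ z.1 ≠ y.1 ∧
      ∀ a, ∃ c, fr x (ng y) z c = a ∧ fr x (ng y) z (sg 0 c) = rXY x y a := by
    decide
  obtain ⟨z, hzx, hzy, hk⟩ := key x y hxy
  obtain ⟨w, f⟩ := exists_fr hn cs h (x := x) (y := ng y) (z := z) hxy hzy.symm hzx.symm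
  obtain ⟨v, hv, v', hv', hm⟩ := hX.mu w (n 0) u (by rw [f.s0, ng_ng]; exact hu) hu1
  rw [f.s0, ng_ng, neg_add, neg_b, neg_b] at hv hv'
  have hr : ∀ a : S, rep cs h (w * cs.simple (n 0) * w⁻¹) (b n a) = b n (rXY x y a) := by
    intro a
    obtain ⟨c, rfl, hc⟩ := hk a
    rw [← hc, f.refl hn]
  refine ⟨v, hv, v', hv', fun a c hac g => ?_, fun a g => ?_⟩
  · have := hm _ (isRoot_bb hn cs h hac) g
    rw [map_add, hr, hr] at this
    exact this.symm
  · have := hm _ (isRoot_b hn cs h a) g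
    rw [hr] at this
    exact this.symm

theorem Z_ne (x : S) : X (b n x) ≠ ⊥ := by
  obtain ⟨a, ha, ha1⟩ := hX.ne_bot _ (isRoot_b hn cs h x)
  intro e
  rw [e] at ha
  exact ha1 (Subgroup.mem_bot.1 ha)

end Cfsg.Agent.Tits.MouC3
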