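import Mathlib
import Cfsg.Agent.Tits.MouC3
import Cfsg.Agent.Tits.MouA2
import Cfsg.Agent.TitsThree.C3Grp
/-!
S1143, interface (I3): a triple of nodes of type `C₃` in a system of root groups gives helper894's
structure `C3Grp.Grp` (`grp`) together with `C3Grp.Crd` coordinates of the root groups
`X (i,true) (j,false)` over a finite field (`exists_crd`).
-/

set_option autoImplicit false
set_option linter.unusedSectionVars false

namespace Cfsg.Agent.Tits.RGC3

open CoxeterSystem Cfsg.Agent.ChevalleyStructure.CoxeterGeom Cfsg.Agent.Tits.Roots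
open Cfsg.Agent.Tits.C3Roots Cfsg.Agent.Tits.RGSys Cfsg.Agent.Tits.MouC3
open Cfsg.Agent.TitsThree
open scoped commutatorElement

variable {I W : Type*} [Fintype I] [DecidableEq I] [Group W] {M : CoxeterMatrix I}
  {cs : CoxeterSystem M W} {A : I → I → ℤ} {h : IsCartan M A} {Y : Type*} [Group Y]
  {n : Fin 3 → I} (hn : Tri A n) {X : (I → ℤ) → Subgroup Y} {St : W → Subgroup Y}
  (hX : RG cs h X St) (h01 : M (n 0) (n 1) = 3) (h12 : M (n 1) (n 2) = 4) (h02 : M (n 0) (n 2) = 2)

theorem ng_eq (x : S) : ng x = C3Grp.op x := rfl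

/-- (I3) -/
def grp : C3Grp.Grp Y where
  X x y := X (b n x + b n y)
  Z x := X (b n x)
  symm x y := by rw [add_comm]
  xx60 x y z hxy hxz hyz a ha c hc := xx60 hn hX h01 hxy hyz hxz ha hc
  xx120 x y z hxy hxz hyz a ha c hc := xx120 hn hX h01 hxy hyz hxz ha hc
  xx90 x y hxy a ha c hc := xx90 hn hX h12 hxy ha hc
  zx45 x y hxy a ha c hc := zx45 hn hX h12 hxy ha hc
  zx90 x y z hxy hxz hyz a ha c hc := zx90 hn hX h02 hxy hyz hxz ha hc
  zx135 x y hxy a ha c hc := zx135 hn hX h12 hxy ha hc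
  zz x y hxy a ha c hc := zz hn hX h12 hxy ha hc
  u3 x y z hxy hxz hyz a ha c hc d hd e he f hf g hg he1 := u3 hn hX hxy hyz hxz ha hc hd he hf hg he1
  u2 x y hxy a ha c hc d hd he := u2 hn hX hxy ha hc hd he
  nZ x u hu hu1 := by
    obtain ⟨v, hv, w, hw, h1, h2⟩ := nZ hn hX x hu hu1
    exact ⟨v, hv, w, hw, ⟨h1, h2⟩⟩
  nX x y hxy u hu hu1 := by
    obtain ⟨v, hv, w, hw, h1, h2⟩ := nX hn hX hxy hu hu1
    exact ⟨v, hv, w, hw, ⟨h1, h2⟩⟩
  Z_ne x := Z_ne hn hX x

theorem p_sub (a c : Fin 3) : MouA2.p (n 0) (n 1) a - MouA2.p (n 0) (n 1) c =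
    b n (a, true) + b n (c, false) := by
  have e : ∀ a, E n a = MouA2.p (n 0) (n 1) a + sr (n 2) := by
    intro a
    fin_cases a
    · simp [E, MouA2.p]
    · simp [E, MouA2.p]
    · simp [E, MouA2.p]
  have e1 : b n (a, true) = E n a := rfl
  have e2 : b n (c, false) = -E n c := rfl
  rw [e1, e2, e, e]
  abel

/-- Coordinates of the root groups `X (i,true) (j,false)` over a finite field. -/
theorem exists_crd [Finite Y] : ∃ (F : Type) (_ : Field F) (_ : Fintype F)
    (x : Fin 3 → Fin 3 → F → Y), C3Grp.Crd (grp hn hX h01 h12 h02) x := by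
  obtain ⟨F, i1, i2, x, hx, hr⟩ :=
    A2Field.exists_field (MouA2.graded h01 hX) (MouA2.rgd h01 hX)
  have hX3 : ∀ i j : Fin 3, MouA2.X3 X (n 0) (n 1) i j = (grp hn hX h01 h12 h02).X (i, true) (j, false) := by
    intro i j
    change X _ = X _
    rw [p_sub]
  refine ⟨F, i1, i2, x, hx, ?_, ?_, ?_⟩
  · intro i j hij t
    rw [← hX3]
    exact (hr i j hij).1 t
  · intro i j hij g hg
    rw [← hX3] at hg
    obtain ⟨t, ht, -⟩ := (hr i j hij).2 g hg
    exact ⟨t, ht⟩
  · intro i j hij s t hst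
    exact ((hr i j hij).2 _ ((hr i j hij).1 t)).unique hst rfl

/-! ### The simple root groups in signed notation -/

theorem b_sr0 : b n (0, true) + b n (1, false) = sr (n 0) := by
  rw [sr0, sub_eq_add_neg]; rfl

theorem b_sr1 : b n (1, true) + b n (2, false) = sr (n 1) := by
  rw [sr1, sub_eq_add_neg]; rfl

theorem b_sr2 : b n (2, true) = sr (n 2) := by
  rw [sr2]; rfl

theorem b_nsr0 : b n (1, true) + b n (0, false) = -sr (n 0) := by
  rw [sr0, neg_sub, sub_eq_add_neg]; rfl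

theorem b_nsr1 : b n (2, true) + b n (1, false) = -sr (n 1) := by
  rw [sr1, neg_sub, sub_eq_add_neg]; rfl

theorem b_nsr2 : b n (2, false) = -sr (n 2) := by
  rw [sr2]; rfl

theorem grp_X (x y : S) : (grp hn hX h01 h12 h02).X x y = X (b n x + b n y) := rfl

theorem grp_Z (x : S) : (grp hn hX h01 h12 h02).Z x = X (b n x) := rfl

/-- `X (1,+) (2,+)` is positive. -/
theorem X12_le : (grp hn hX h01 h12 h02).X (1, true) (2, true) ≤ St 1 :=
  hX.le_St 1 _ (isRoot_bb hn cs h (by decide)) (by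
    rw [inv_one, map_one, Module.End.one_apply]
    exact nonneg_bb n (c := (1, true)) (d := (2, true)) (by decide) rfl)

end Cfsg.Agent.Tits.RGC3
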