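import Cfsg.Agent.Tits.Gate

/-!
Roots (half-apartments) of a Coxeter group and charts (isometric embeddings `W → C`) of a building.
-/

set_option autoImplicit false
set_option linter.unusedSectionVars false
set_option linter.dupNamespace false

open Cfsg.Agent.Tits.Core Cfsg.Agent.Tits.Exchange

namespace Cfsg.Agent.Tits.Chart

variable {I : Type*} {M : CoxeterMatrix I} {W : Type*} [Group W] (cs : CoxeterSystem M W)

local prefix:100 "s" => cs.simple
local prefix:100 "ℓ" => cs.length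

/-! ### Roots -/

/-- The root `w · α_i` (a half-apartment), as a set of elements of `W`. -/
def rt (w : W) (i : I) : Set W := {v | ℓ (w⁻¹ * v) < ℓ (s i * (w⁻¹ * v))}

/-- `A` is a root. -/
def IsRt (A : Set W) : Prop := ∃ w i, A = rt cs w i

theorem isRt_rt (w : W) (i : I) : IsRt cs (rt cs w i) := ⟨w, i, rfl⟩

theorem mem_rt {w v : W} {i : I} : v ∈ rt cs w i ↔ ℓ (w⁻¹ * v) < ℓ (s i * (w⁻¹ * v)) := Iff.rfl

theorem mem_rt_one {v : W} {i : I} : v ∈ rt cs 1 i ↔ ℓ v < ℓ (s i * v) := by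
  rw [mem_rt, inv_one, one_mul]

theorem zmod_ne_one {a : ZMod 2} (h : a ≠ 1) : a = 0 := by revert a; decide

theorem zmod_add_self (a : ZMod 2) : a + a = 0 := by revert a; decide

theorem zmod_eq_iff {a b : ZMod 2} : a = b ↔ a + b = 0 := by revert a b; decide

theorem isRefl (w : W) (i : I) : cs.IsReflection (w * s i * w⁻¹) := ⟨w, i, rfl⟩

/-- duality of the inversion cocycle -/
theorem nn_inv (w t : W) : nn cs w⁻¹ (w * t * w⁻¹) = nn cs w t := by
  have h := nn_mul cs w⁻¹ w t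
  rw [inv_mul_cancel, nn_one] at h
  exact (zmod_eq_iff.2 (by rw [add_comm]; exact h.symm))

theorem nn_inv' (w t : W) : nn cs w⁻¹ t = nn cs w (w⁻¹ * t * w) := by
  have h := nn_inv cs w (w⁻¹ * t * w)
  rwa [show w * (w⁻¹ * t * w) * w⁻¹ = t by group] at h

/-- Description of a root by the inversion cocycle. -/
theorem mem_rt_iff_nn {w v : W} {i : I} :
    v ∈ rt cs w i ↔ nn cs v⁻¹ (w * s i * w⁻¹) = nn cs w (s i) := by
  rw [mem_rt]
  have hs : cs.IsReflection (s i) := cs.isReflection_simple i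
  have h1 : ℓ (s i * (w⁻¹ * v)) = ℓ (v⁻¹ * w * s i) := by
    rw [← cs.length_inv]
    congr 1
    rw [mul_inv_rev, mul_inv_rev, inv_inv, cs.inv_simple]
  have h2 : ℓ (w⁻¹ * v) = ℓ (v⁻¹ * w) := by
    rw [← cs.length_inv]
    congr 1
    rw [mul_inv_rev, inv_inv]
  rw [h1, h2]
  have h3 := nn_eq_one_iff cs (w := v⁻¹ * w) hs
  have h4 : ℓ (v⁻¹ * w) < ℓ (v⁻¹ * w * s i) ↔ ¬ nn cs (v⁻¹ * w) (s i) = 1 := by
    rw [h3, not_lt]
    constructor
    · exact le_of_lt
    · intro h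
      exact lt_of_le_of_ne h (cs.length_mul_simple_ne (v⁻¹ * w) i).symm
  rw [h4, nn_mul]
  constructor
  · intro h
    have := zmod_ne_one h
    rw [zmod_eq_iff, add_comm]
    exact this
  · intro h
    rw [h, zmod_add_self]
    decide

theorem self_mem_rt (w : W) (i : I) : w ∈ rt cs w i := by
  rw [mem_rt, inv_mul_cancel, mul_one, cs.length_one, cs.length_simple]
  exact Nat.one_pos

theorem mul_simple_notMem_rt (w : W) (i : I) : w * s i ∉ rt cs w i := by
  rw [mem_rt, inv_mul_cancel_left, cs.simple_mul_simple_self, cs.length_one]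
  exact Nat.not_lt_zero _

theorem mem_rt_mul {u w v : W} {i : I} : v ∈ rt cs (u * w) i ↔ u⁻¹ * v ∈ rt cs w i := by
  rw [mem_rt, mem_rt, mul_inv_rev, mul_assoc]

theorem mul_mem_rt_mul {u w v : W} {i : I} : u * v ∈ rt cs (u * w) i ↔ v ∈ rt cs w i := by
  rw [mem_rt_mul, inv_mul_cancel_left]

theorem preimage_rt (u w : W) (i : I) : (fun v => u⁻¹ * v) ⁻¹' rt cs w i = rt cs (u * w) i := by
  ext v
  exact (mem_rt_mul cs).symm

open Pointwise in
theorem smul_rt (u w : W) (i : I) : u • rt cs w i = rt cs (u * w) i := by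
  ext v
  rw [Set.mem_smul_set_iff_inv_smul_mem, smul_eq_mul, mem_rt_mul]

/-- The complement of a root is the opposite root. -/
theorem mem_rt_mul_simple {w v : W} {i : I} : v ∈ rt cs (w * s i) i ↔ v ∉ rt cs w i := by
  rw [mem_rt_iff_nn, mem_rt_iff_nn, nn_mul, nn_simple_self]
  have e1 : w * s i * s i * (w * s i)⁻¹ = w * s i * w⁻¹ := by
    rw [mul_inv_rev, cs.inv_simple]
    simp [mul_assoc]
  have e2 : s i * s i * (s i)⁻¹ = s i := by simp
  rw [e1, e2]
  have : ∀ a b : ZMod 2, a = 1 + b ↔ ¬ a = b := by decide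
  exact this _ _

theorem compl_rt (w : W) (i : I) : (rt cs w i)ᶜ = rt cs (w * s i) i := by
  ext v
  rw [mem_rt_mul_simple, Set.mem_compl_iff]

theorem rt_mul_simple (w : W) (i : I) : rt cs (w * s i) i = (rt cs w i)ᶜ := (compl_rt cs w i).symm

variable {cs} in
theorem IsRt.compl {A : Set W} (hA : IsRt cs A) : IsRt cs Aᶜ := by
  obtain ⟨w, i, rfl⟩ := hA
  exact ⟨w * s i, i, compl_rt cs w i⟩

/-- The reflection of a root exchanges the root with its complement. -/
theorem refl_mul_mem_rt {w v : W} {i : I} : w * s i * w⁻¹ * v ∈ rt cs w i ↔ v ∉ rt cs w i := by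
  have h := mul_mem_rt_mul cs (u := w * s i * w⁻¹) (w := w * s i) (v := v) (i := i)
  have e : w * s i * w⁻¹ * (w * s i) = w := by
    simp [mul_assoc]
  rw [e] at h
  rw [h, mem_rt_mul_simple]

/-- Crossing the wall of a root: the reflection of the panel is the reflection of the root, and
the root is the simple root at `v`. -/
theorem refl_eq_of_cross {w v : W} {i j : I} (h1 : v ∈ rt cs w i) (h2 : v * s j ∉ rt cs w i) :
    v * s j * v⁻¹ = w * s i * w⁻¹ := by
  rw [mem_rt_iff_nn] at h1 h2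
  rw [mul_inv_rev, nn_mul, h1, cs.inv_simple, nn_simple, inv_inv] at h2
  by_contra hne
  apply h2
  rw [ind_of_ne, add_zero]
  intro h3
  apply hne
  rw [← h3]
  group

theorem rt_eq_of_refl_eq {w v : W} {i j : I} (h1 : v ∈ rt cs w i)
    (h2 : v * s j * v⁻¹ = w * s i * w⁻¹) : rt cs w i = rt cs v j := by
  have h3 : nn cs v (s j) = nn cs w (s i) := by
    rw [← nn_inv cs v (s j), h2]
    exact (mem_rt_iff_nn cs).1 h1
  ext u
  rw [mem_rt_iff_nn, mem_rt_iff_nn, h2, h3]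

theorem rt_eq_of_cross {w v : W} {i j : I} (h1 : v ∈ rt cs w i) (h2 : v * s j ∉ rt cs w i) :
    rt cs w i = rt cs v j :=
  rt_eq_of_refl_eq cs h1 (refl_eq_of_cross cs h1 h2)

/-- Two roots with the same reflection are equal or opposite. -/
theorem rt_eq_or_of_refl_eq {w v : W} {i j : I} (h2 : v * s j * v⁻¹ = w * s i * w⁻¹) :
    rt cs w i = rt cs v j ∨ rt cs w i = (rt cs v j)ᶜ := by
  by_cases h1 : v ∈ rt cs w i
  · exact Or.inl (rt_eq_of_refl_eq cs h1 h2)
  · right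
    have h3 : v ∈ rt cs (w * s i) i := (mem_rt_mul_simple cs).2 h1
    have h4 := rt_eq_of_refl_eq cs h3 (j := j) (by rw [h2, mul_inv_rev]; simp [mul_assoc])
    rw [← h4, rt_mul_simple, compl_compl]

variable {cs} in
theorem IsRt.eq_of_cross {A : Set W} (hA : IsRt cs A) {v : W} {j : I} (h1 : v ∈ A)
    (h2 : v * s j ∉ A) : A = rt cs v j := by
  obtain ⟨w, i, rfl⟩ := hA
  exact rt_eq_of_cross cs h1 h2

/-- A chamber of the panel `{v, v s_j}` on the other side: equivalent form of the crossing. -/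
theorem cross_iff {w v : W} {i j : I} :
    (v ∈ rt cs w i ↔ v * s j ∈ rt cs w i) ↔ v * s j * v⁻¹ ≠ w * s i * w⁻¹ := by
  have key : nn cs (v * s j)⁻¹ (w * s i * w⁻¹) =
      nn cs v⁻¹ (w * s i * w⁻¹) + ind (v⁻¹ * (w * s i * w⁻¹) * v) (s j) := by
    rw [mul_inv_rev, nn_mul, cs.inv_simple, nn_simple, inv_inv]
  have hiff : v⁻¹ * (w * s i * w⁻¹) * v = s j ↔ v * s j * v⁻¹ = w * s i * w⁻¹ := by
    constructor
    · intro h; rw [← h]; group
    · intro h; rw [← h]; group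
  rw [mem_rt_iff_nn, mem_rt_iff_nn, key]
  by_cases h : v⁻¹ * (w * s i * w⁻¹) * v = s j
  · rw [ind_of_eq h]
    have : ∀ a b : ZMod 2, ¬ (a = b ↔ a + 1 = b) := by decide
    simp only [this, false_iff, ne_eq, not_not]
    exact hiff.1 h
  · rw [ind_of_ne h, add_zero]
    simp only [true_iff, ne_eq]
    exact fun h' => h (hiff.2 h')

/-- Roots are convex. -/
theorem mem_rt_of_between {w u v v' : W} {i : I} (h1 : v ∈ rt cs w i) (h2 : v' ∈ rt cs w i)
    (h : ℓ (v⁻¹ * u) + ℓ (u⁻¹ * v') = ℓ (v⁻¹ * v')) : u ∈ rt cs w i := by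
  by_contra h3
  rw [mem_rt_iff_nn] at h1 h2 h3
  set t := w * s i * w⁻¹ with ht
  have hu : nn cs u⁻¹ t = nn cs w (s i) + 1 := by
    have : ∀ a b : ZMod 2, ¬ a = b → a = b + 1 := by decide
    exact this _ _ h3
  have hr : cs.IsReflection (v'⁻¹ * t * v') := by
    have : v'⁻¹ * t * v' = (v'⁻¹ * w) * s i * (v'⁻¹ * w)⁻¹ := by rw [ht]; group
    rw [this]
    exact isRefl cs _ _
  have hr' : cs.IsReflection (u⁻¹ * t * u) := by
    have : u⁻¹ * t * u = (u⁻¹ * w) * s i * (u⁻¹ * w)⁻¹ := by rw [ht]; group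
    rw [this]
    exact isRefl cs _ _
  have h4 : nn cs (u⁻¹ * v') (v'⁻¹ * t * v') = 1 := by
    rw [nn_mul]
    have e : v' * (v'⁻¹ * t * v') * v'⁻¹ = t := by group
    rw [e, hu, ← nn_inv', h2, ← add_assoc, zmod_add_self, zero_add]
  have h5 : nn cs (v⁻¹ * u) (u⁻¹ * t * u) = 1 := by
    rw [nn_mul]
    have e : u * (u⁻¹ * t * u) * u⁻¹ = t := by group
    rw [e, h1, ← nn_inv', hu, add_comm, ← add_assoc, zmod_add_self, zero_add]
  rw [nn_eq_one_iff cs hr] at h4
  rw [nn_eq_one_iff cs hr'] at h5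
  have e : v⁻¹ * v' = (v⁻¹ * u * (u⁻¹ * t * u)) * (u⁻¹ * v' * (v'⁻¹ * t * v')) := by
    have htt : t * t = 1 := (isRefl cs w i).mul_self
    have : (v⁻¹ * u * (u⁻¹ * t * u)) * (u⁻¹ * v' * (v'⁻¹ * t * v')) = v⁻¹ * (t * t) * v' := by
      group
    rw [this, htt, mul_one]
  have h6 := cs.length_mul_le (v⁻¹ * u * (u⁻¹ * t * u)) (u⁻¹ * v' * (v'⁻¹ * t * v'))
  rw [← e] at h6
  omega

variable {cs} in
theorem IsRt.convex {A : Set W} (hA : IsRt cs A) {u v v' : W} (h1 : v ∈ A) (h2 : v' ∈ A)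
    (h : ℓ (v⁻¹ * u) + ℓ (u⁻¹ * v') = ℓ (v⁻¹ * v')) : u ∈ A := by
  obtain ⟨w, i, rfl⟩ := hA
  exact mem_rt_of_between cs h1 h2 h

section Finite

variable [Finite W]

theorem nn_w0 {t : W} (ht : cs.IsReflection t) : nn cs (w0 cs) t = 1 := by
  rw [nn_eq_one_iff cs ht]
  have h1 := length_w0_mul cs t
  have h2 : 0 < ℓ t := by
    rcases Nat.eq_zero_or_pos (ℓ t) with h | h
    · rw [cs.length_eq_zero_iff] at h
      have := ht.odd_length
      rw [h, cs.length_one] at this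
      exact absurd this (by decide)
    · exact h
  omega

/-- Opposite elements of `W` lie on different sides of every wall. -/
theorem mul_w0_mem_rt {w v : W} {i : I} : v * w0 cs ∈ rt cs w i ↔ v ∉ rt cs w i := by
  rw [mem_rt_iff_nn, mem_rt_iff_nn, mul_inv_rev, nn_mul, w0_inv, inv_inv]
  have hr : cs.IsReflection (v⁻¹ * (w * s i * w⁻¹) * v) := by
    have : v⁻¹ * (w * s i * w⁻¹) * v = (v⁻¹ * w) * s i * (v⁻¹ * w)⁻¹ := by group
    rw [this]
    exact isRefl cs _ _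
  rw [nn_w0 cs hr]
  have : ∀ a b : ZMod 2, a + 1 = b ↔ ¬ a = b := by decide
  exact this _ _

variable {cs} in
theorem IsRt.mul_w0_mem {A : Set W} (hA : IsRt cs A) {v : W} : v * w0 cs ∈ A ↔ v ∉ A := by
  obtain ⟨w, i, rfl⟩ := hA
  exact mul_w0_mem_rt cs

/-- A root is the convex hull of `v` and `v s_i w₀`, for each boundary panel `{v, v s_i}`. -/
theorem mem_rt_iff_length {v w : W} {i : I} :
    w ∈ rt cs v i ↔ ℓ (v⁻¹ * w) + ℓ (w⁻¹ * (v * s i * w0 cs)) = ℓ (s i * w0 cs) := by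
  have h1 := length_mul_w0 cs (w⁻¹ * (v * s i))
  have h2 := length_mul_w0 cs (s i)
  have h3 : ℓ (w⁻¹ * (v * s i)) = ℓ (s i * (v⁻¹ * w)) := by
    rw [← cs.length_inv]
    congr 1
    rw [mul_inv_rev, mul_inv_rev, inv_inv, cs.inv_simple, mul_assoc]
  have h4 := cs.length_simple_mul (v⁻¹ * w) i
  rw [← mul_assoc] 
  rw [cs.length_simple] at h2
  rw [mem_rt]
  omega

end Finite

end Cfsg.Agent.Tits.Chart

namespace Cfsg.Agent.Tits.Chart

open Cfsg.Agent.Tits.Core.Bldg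

variable {I : Type*} {M : CoxeterMatrix I} {W : Type*} [Group W] {cs : CoxeterSystem M W}
  {C : Type*} (Δ : Bldg cs C)

local prefix:100 "s" => cs.simple
local prefix:100 "ℓ" => cs.length

/-! ### Charts -/

/-- A chart: an isometric embedding of `W` in the building. -/
structure Chart where
  f : W → C
  iso : ∀ v w, Δ.δ (f v) (f w) = v⁻¹ * w

instance : CoeFun (Chart Δ) fun _ => W → C := ⟨Chart.f⟩

variable {Δ}

theorem Chart.ext {σ τ : Chart Δ} (h : ∀ w, σ w = τ w) : σ = τ := by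
  cases σ; cases τ
  congr
  exact funext h

theorem Chart.inj (σ : Chart Δ) {v w : W} (h : σ v = σ w) : v = w := by
  have h1 := σ.iso v w
  rw [h, Δ.δ_self] at h1
  exact (inv_mul_eq_one.1 h1.symm)

theorem Chart.δ_simple (σ : Chart Δ) (v : W) (i : I) : Δ.δ (σ v) (σ (v * s i)) = s i := by
  rw [σ.iso, inv_mul_cancel_left]

theorem Chart.δ_simple' (σ : Chart Δ) (v : W) (i : I) : Δ.δ (σ (v * s i)) (σ v) = s i := by
  rw [σ.iso, mul_inv_rev, cs.inv_simple, inv_mul_cancel_right]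

theorem Chart.mem_Pan (σ : Chart Δ) (v : W) (i : I) : σ (v * s i) ∈ Δ.Pan i (σ v) :=
  Or.inr (σ.δ_simple v i)

/-- Left translation of a chart. -/
def Chart.lmul (σ : Chart Δ) (u : W) : Chart Δ where
  f v := σ (u * v)
  iso v w := by rw [σ.iso, mul_inv_rev, mul_assoc, inv_mul_cancel_left]

@[simp] theorem Chart.lmul_apply (σ : Chart Δ) (u v : W) : σ.lmul u v = σ (u * v) := rfl

/-- The image of a chart by an isometry. -/
def Chart.map (σ : Chart Δ) (g : C → C) (hg : ∀ x y, Δ.δ (g x) (g y) = Δ.δ x y) : Chart Δ where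
  f v := g (σ v)
  iso v w := by rw [hg, σ.iso]

@[simp] theorem Chart.map_apply (σ : Chart Δ) (g : C → C)
    (hg : ∀ x y, Δ.δ (g x) (g y) = Δ.δ x y) (v : W) : σ.map g hg v = g (σ v) := rfl

/-- Charts agree on convex hulls. -/
theorem Chart.eq_of_between {σ τ : Chart Δ} {a b w : W} (ha : σ a = τ a) (hb : σ b = τ b)
    (h : ℓ (a⁻¹ * w) + ℓ (w⁻¹ * b) = ℓ (a⁻¹ * b)) : σ w = τ w := by
  have e : a⁻¹ * w * (w⁻¹ * b) = a⁻¹ * b := by group
  refine Δ.between_unique (x := σ a) (z := σ b) (v := a⁻¹ * w) (w := w⁻¹ * b) (by rw [e, h])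
    (σ.iso a w) (σ.iso w b) ?_ ?_
  · rw [ha, τ.iso]
  · rw [hb, τ.iso]

section Finite

variable [Finite W]

theorem Chart.opp (σ : Chart Δ) (v : W) : Δ.Opp (σ v) (σ (v * w0 cs)) := by
  rw [Opp, σ.iso, inv_mul_cancel_left]

theorem Chart.opp_iff (σ : Chart Δ) {v w : W} : Δ.Opp (σ v) (σ w) ↔ w = v * w0 cs := by
  rw [Opp, σ.iso, inv_mul_eq_iff_eq_mul]

theorem length_add_w0 (v w : W) : ℓ (v⁻¹ * w) + ℓ (w⁻¹ * (v * w0 cs)) = ℓ (w0 cs) := by
  have h1 := length_mul_w0 cs (w⁻¹ * v)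
  have h2 : ℓ (w⁻¹ * v) = ℓ (v⁻¹ * w) := by
    rw [← cs.length_inv]
    congr 1
    rw [mul_inv_rev, inv_inv]
  rw [← mul_assoc]
  omega

/-- Charts which agree at two opposite elements are equal. -/
theorem Chart.eq_of_opp {σ τ : Chart Δ} {v : W} (h1 : σ v = τ v)
    (h2 : σ (v * w0 cs) = τ (v * w0 cs)) : σ = τ := by
  refine Chart.ext fun w => Chart.eq_of_between h1 h2 ?_
  rw [length_add_w0, inv_mul_cancel_left]

/-- The value of a chart is determined by the distances to two opposite chambers. -/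
theorem Chart.eq_of_δ (σ : Chart Δ) {v w : W} {x : C} (h1 : Δ.δ (σ v) x = v⁻¹ * w)
    (h2 : Δ.δ x (σ (v * w0 cs)) = w⁻¹ * (v * w0 cs)) : x = σ w := by
  have e : v⁻¹ * w * (w⁻¹ * (v * w0 cs)) = w0 cs := by group
  exact Δ.between_unique (by rw [e, length_add_w0]) h1 h2 (σ.iso v w) (σ.iso w _)

/-- Existence of the chart through two opposite chambers. -/
theorem exists_chart {c d : C} (h : Δ.Opp c d) (v : W) :
    ∃ σ : Chart Δ, σ v = c ∧ σ (v * w0 cs) = d := by
  have hlen : ∀ w, ℓ (v⁻¹ * w * (w⁻¹ * (v * w0 cs))) = ℓ (v⁻¹ * w) + ℓ (w⁻¹ * (v * w0 cs)) := by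
    intro w
    have e : v⁻¹ * w * (w⁻¹ * (v * w0 cs)) = w0 cs := by group
    rw [e, length_add_w0]
  have hex : ∀ w, ∃ y, Δ.δ c y = v⁻¹ * w ∧ Δ.δ y d = w⁻¹ * (v * w0 cs) := by
    intro w
    have e : v⁻¹ * w * (w⁻¹ * (v * w0 cs)) = w0 cs := by group
    exact Δ.exists_between (by rw [e]; exact h) (hlen w)
  choose f hf1 hf2 using hex
  have huniq : ∀ w y, Δ.δ c y = v⁻¹ * w → Δ.δ y d = w⁻¹ * (v * w0 cs) → y = f w := by
    intro w y h1 h2
    exact Δ.between_unique (hlen w) h1 h2 (hf1 w) (hf2 w)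
  -- one step up
  have hup : ∀ w i, ℓ (v⁻¹ * w) < ℓ (v⁻¹ * w * s i) → Δ.δ (f w) (f (w * s i)) = s i := by
    intro w i hlt
    have e1 : s i * ((w * s i)⁻¹ * (v * w0 cs)) = w⁻¹ * (v * w0 cs) := by
      rw [mul_inv_rev, cs.inv_simple, mul_assoc, cs.simple_mul_simple_cancel_left]
    have e2 : ℓ (v⁻¹ * (w * s i)) = ℓ (v⁻¹ * w) + 1 := by
      have := cs.length_mul_simple (v⁻¹ * w) i
      rw [← mul_assoc]
      omega
    have h1 := length_add_w0 (cs := cs) v w
    have h2 := length_add_w0 (cs := cs) v (w * s i)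
    obtain ⟨y, hy1, hy2⟩ := Δ.exists_between (x := f w) (z := d) (v := s i)
      (w := (w * s i)⁻¹ * (v * w0 cs)) (by rw [e1, hf2]) (by
        rw [e1, cs.length_simple]
        omega)
    have hy3 : Δ.δ c y = v⁻¹ * (w * s i) := by
      rw [Δ.step_lt c (f w) y i hy1 (by rw [hf1]; exact hlt), hf1, mul_assoc]
    rw [← huniq (w * s i) y hy3 hy2]
    exact hy1
  have hstep : ∀ w i, Δ.δ (f w) (f (w * s i)) = s i := by
    intro w i
    rcases lt_or_gt_of_ne (cs.length_mul_simple_ne (v⁻¹ * w) i) with hlt | hlt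
    · have h1 := hup (w * s i) i (by
        rw [← mul_assoc, cs.simple_mul_simple_cancel_right]
        exact hlt)
      rw [cs.simple_mul_simple_cancel_right] at h1
      exact Δ.δ_symm_simple h1
    · exact hup w i hlt
  have hiso : ∀ (ω : List I), cs.IsReduced ω → ∀ w, Δ.δ (f w) (f (w * cs.wordProd ω)) = cs.wordProd ω := by
    intro ω
    induction ω using List.reverseRecOn with
    | nil => intro _ w; rw [cs.wordProd_nil, mul_one, Δ.δ_self]
    | append_singleton ω i ih =>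
      intro hred w
      have hred' : cs.IsReduced ω := by
        have := hred.take ω.length
        simpa using this
      have hl : ℓ (cs.wordProd ω * s i) = ℓ (cs.wordProd ω) + 1 := by
        have h1 : ℓ (cs.wordProd (ω ++ [i])) = (ω ++ [i]).length := hred
        have h2 : ℓ (cs.wordProd ω) = ω.length := hred'
        rw [cs.wordProd_append, cs.wordProd_singleton] at h1
        rw [h1, h2, List.length_append, List.length_singleton]
      rw [cs.wordProd_append, cs.wordProd_singleton, ← mul_assoc]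
      rw [Δ.step_lt (f w) (f (w * cs.wordProd ω)) _ i (hstep _ i) (by rw [ih hred']; omega),
        ih hred']
  refine ⟨⟨f, fun a b => ?_⟩, ?_, ?_⟩
  · obtain ⟨ω, hω, hω'⟩ := cs.exists_isReduced (a⁻¹ * b)
    have h1 := hiso ω hω a
    rw [← hω', mul_inv_cancel_left] at h1
    exact h1
  · exact (huniq v c (by rw [Δ.δ_self, inv_mul_cancel]) (by rw [inv_mul_cancel_left]; exact h)).symm
  · exact (huniq (v * w0 cs) d (by rw [inv_mul_cancel_left]; exact h)
      (by rw [Δ.δ_self, inv_mul_cancel])).symm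

theorem existsUnique_chart {c d : C} (h : Δ.Opp c d) (v : W) :
    ∃! σ : Chart Δ, σ v = c ∧ σ (v * w0 cs) = d := by
  obtain ⟨σ, h1, h2⟩ := exists_chart h v
  exact ⟨σ, ⟨h1, h2⟩, fun τ hτ => Chart.eq_of_opp (hτ.1.trans h1.symm) (hτ.2.trans h2.symm)⟩

/-- Charts which agree at both ends of a boundary gallery of a root agree on the root. -/
theorem Chart.eqOn_rt {σ τ : Chart Δ} {v : W} {i : I} (h1 : σ v = τ v)
    (h2 : σ (v * s i * w0 cs) = τ (v * s i * w0 cs)) : ∀ w ∈ rt cs v i, σ w = τ w := by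
  intro w hw
  refine Chart.eq_of_between h1 h2 ?_
  rw [(mem_rt_iff_length cs).1 hw, mul_assoc v, inv_mul_cancel_left]

/-- Changing the chart on the other side of a root. -/
theorem Chart.exists_fold (σ : Chart Δ) {v : W} {i : I} {x : C}
    (hx : x ∈ Δ.Pan i (σ v)) (hne : x ≠ σ v) :
    ∃ τ : Chart Δ, (∀ w ∈ rt cs v i, τ w = σ w) ∧ τ (v * s i) = x := by
  have hx1 : Δ.δ (σ v) x = s i := hx.resolve_left hne
  have hx2 : Δ.δ x (σ v) = s i := Δ.δ_symm_simple hx1
  have h1 : Δ.δ (σ v) (σ (v * s i * w0 cs)) = s i * w0 cs := by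
    rw [σ.iso, mul_assoc v, inv_mul_cancel_left]
  have hl1 := length_w0_mul cs (s i)
  have hl2 := length_mul_w0 cs (s i)
  rw [cs.length_simple] at hl1 hl2
  have h2 : Δ.Opp x (σ (v * s i * w0 cs)) := by
    rw [Opp, Δ.step_lt_left hx2 (by
      rw [h1, cs.simple_mul_simple_cancel_left]
      omega), h1, cs.simple_mul_simple_cancel_left]
  obtain ⟨τ, hτ1, hτ2⟩ := exists_chart h2 (v * s i)
  have h3 : τ v = σ v := by
    symm
    refine τ.eq_of_δ (v := v * s i) ?_ ?_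
    · rw [hτ1, hx2, mul_inv_rev, cs.inv_simple, inv_mul_cancel_right]
    · rw [hτ2, σ.iso]
  exact ⟨τ, Chart.eqOn_rt h3 hτ2, hτ1⟩

/-- (D): general form of `exists_fold` for a root `A` with boundary panel `{v, v s_i}`. -/
theorem Chart.exists_fold' (σ : Chart Δ) {A : Set W} (hA : IsRt cs A) {v : W} {i : I} {x : C}
    (hv : v ∈ A) (hv' : v * s i ∉ A) (hx : x ∈ Δ.Pan i (σ v)) (hne : x ≠ σ v) :
    ∃ τ : Chart Δ, (∀ w ∈ A, τ w = σ w) ∧ τ (v * s i) = x := by
  rw [hA.eq_of_cross hv hv']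
  exact σ.exists_fold hx hne

/-- A chart agreeing with `σ` on the root `A` and at one chamber outside adjacent to it is `σ`. -/
theorem Chart.eq_of_eqOn_of_cross {σ τ : Chart Δ} {A : Set W} (hA : IsRt cs A) {v : W} {i : I}
    (hv' : v * s i ∉ A) (h : ∀ w ∈ A, σ w = τ w) (h' : σ (v * s i) = τ (v * s i)) :
    σ = τ :=
  Chart.eq_of_opp h' (h _ (hA.mul_w0_mem.2 hv'))

end Finite

/-! ### Parallel panels -/

/-- (PAR) -/
theorem fix_panel {g : C → C} (hg : ∀ x y, Δ.δ (g x) (g y) = Δ.δ x y) {x0 y0 : C} {u : W} {i j : I}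
    (hy0 : g y0 = y0) (hu : Δ.δ x0 y0 = u) (hc : s i * u = u * s j)
    (hl : ℓ u < ℓ (s i * u)) (hfix : ∀ x ∈ Δ.Pan i x0, g x = x) : ∀ y ∈ Δ.Pan j y0, g y = y := by
  intro y hy
  rcases hy with rfl | hy
  · exact hy0
  have hl' : ℓ u < ℓ (u * s j) := by rw [← hc]; exact hl
  have h1 : Δ.δ x0 y = s i * u := by
    rw [hc, Δ.step_lt x0 y0 y j hy (by rw [hu]; exact hl'), hu]
  obtain ⟨x, hx1, hx2⟩ := Δ.exists_between h1 (by
    have := cs.length_simple_mul u i
    rw [cs.length_simple]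
    omega)
  have hgx : g x = x := hfix x (Or.inr hx1)
  by_contra hne
  have h2 : Δ.δ x (g y) = u := by rw [← hx2, ← hg x y, hgx]
  have h3 : g y ∈ Δ.Pan j y0 := by
    right
    rw [← hy0, hg]
    exact hy
  have h4 : Δ.δ y (g y) = s j := Δ.δ_eq_of_mem_Pan (Or.inr hy) h3 (Ne.symm hne)
  have h5 := Δ.step_lt x y (g y) j h4 (by rw [hx2]; exact hl')
  rw [h2, hx2] at h5
  have h6 := congrArg cs.length h5
  omega

end Cfsg.Agent.Tits.Chart
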