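import Mathlib
import Cfsg.Agent.Tits.Core
import Cfsg.Agent.Tits.Exchange
import Cfsg.Agent.Tits.Gate
import Cfsg.Agent.Tits.Generic
import Cfsg.Agent.Tits.OppRes
import Cfsg.Agent.Tits.Rigid
import Cfsg.Agent.Tits.MouDefs
/-!
Commutator relations of the root groups of an apartment (S1143, route E, part (M4)).
-/

set_option autoImplicit false
set_option linter.unusedSectionVars false

namespace Cfsg.Agent.Tits.MouComm

open Cfsg.Agent.Tits.Core Cfsg.Agent.Tits.Core.Bldg Cfsg.Agent.Tits.MouDefs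
open scoped commutatorElement

variable {I : Type*} {M : CoxeterMatrix I} {W : Type*} [Group W] {cs : CoxeterSystem M W}

local prefix:100 "ℓ" => cs.length

/-! ### The dihedral positions -/

section Dih

variable (cs)

/-- the type of the step from position `n` to position `n + 1` -/
def ct (i j : I) (n : ℤ) : I := if Even n then i else j

/-- the `n`-th chamber of the dihedral apartment: `D 0 = 1`, `D 1 = s_i`, `D 2 = s_i s_j`, ...,
`D (-1) = s_j`, `D (-2) = s_j s_i`, ... -/
def D (i j : I) (n : ℤ) : W :=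
  (cs.simple i * cs.simple j) ^ (n / 2) * (if Even n then 1 else cs.simple i)

theorem D_succ (i j : I) (n : ℤ) : D cs i j (n + 1) = D cs i j n * cs.simple (ct i j n) := by
  unfold D ct
  rcases Int.even_or_odd n with h | h
  · have h1 : ¬ Even (n + 1) := by rw [Int.not_even_iff_odd]; exact h.add_one
    obtain ⟨k, rfl⟩ := h
    have e1 : (k + k + 1) / 2 = k := by omega
    have e2 : (k + k) / 2 = k := by omega
    rw [if_neg h1, if_pos ⟨k, rfl⟩, if_pos ⟨k, rfl⟩, e1, e2, mul_one]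
  · have h1 : Even (n + 1) := h.add_one
    have h2 : ¬ Even n := Int.not_even_iff_odd.2 h
    obtain ⟨k, rfl⟩ := h
    have e1 : (2 * k + 1 + 1) / 2 = k + 1 := by omega
    have e2 : (2 * k + 1) / 2 = k := by omega
    rw [if_pos h1, if_neg h2, if_neg h2, e1, e2, mul_one, zpow_add_one, mul_assoc]

@[simp] theorem D_zero (i j : I) : D cs i j 0 = 1 := by simp [D]

theorem ct_ct (i j : I) (n k : ℤ) : ct (ct i j n) (ct i j (n + 1)) k = ct i j (n + k) := by
  unfold ct
  by_cases hn : Even n <;> by_cases hk : Even k <;> simp [hn, hk, Int.even_add]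

theorem ct_ne {i j : I} (hij : i ≠ j) (n : ℤ) : ct i j n ≠ ct i j (n + 1) := by
  unfold ct
  by_cases hn : Even n
  · rw [if_pos hn, if_neg (by rw [Int.even_add_one]; exact not_not.2 hn)]
    exact hij
  · rw [if_neg hn, if_pos (by rw [Int.even_add_one]; exact hn)]
    exact hij.symm

theorem D_add (i j : I) (n : ℤ) (k : ℤ) :
    D cs i j (n + k) = D cs i j n * D cs (ct i j n) (ct i j (n + 1)) k := by
  induction k using Int.induction_on with
  | zero => simp
  | succ k ih => rw [← add_assoc, D_succ, ih, D_succ, ct_ct, mul_assoc]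
  | pred k ih =>
    have h1 := D_succ cs i j (n + (-(k : ℤ) - 1))
    have h2 := D_succ cs (ct i j n) (ct i j (n + 1)) (-(k : ℤ) - 1)
    have e : n + (-(k : ℤ) - 1) + 1 = n + -(k : ℤ) := by ring
    have e' : (-(k : ℤ) - 1) + 1 = -(k : ℤ) := by ring
    rw [e, ih] at h1
    rw [e', ct_ct] at h2
    rw [h2, ← mul_assoc] at h1
    exact (mul_right_cancel h1).symm

variable [Finite I] [Finite W]

theorem len_D_nat {i j : I} (hij : i ≠ j) (hm : M i j = 2 ∨ M i j = 3 ∨ M i j = 4) (k : ℕ)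
    (hk : k ≤ M i j) : ℓ (D cs i j k) = k := by
  have e1 : D cs i j (1 : ℕ) = cs.simple i := by
    have := D_succ cs i j 0
    simpa [ct] using this
  have e2 : D cs i j (2 : ℕ) = cs.simple i * cs.simple j := by
    have := D_succ cs i j 1
    rw [show (1 : ℤ) = ((1 : ℕ) : ℤ) by norm_num, e1] at this
    have h : ct i j ((1 : ℕ) : ℤ) = j := by simp [ct]
    rw [h] at this
    exact_mod_cast this
  have e3 : D cs i j (3 : ℕ) = cs.simple i * cs.simple j * cs.simple i := by
    have := D_succ cs i j ((2 : ℕ) : ℤ)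
    rw [e2] at this
    have h : ct i j ((2 : ℕ) : ℤ) = i := by simp [ct]
    rw [h] at this
    exact_mod_cast this
  have e4 : D cs i j (4 : ℕ) = cs.simple i * cs.simple j * cs.simple i * cs.simple j := by
    have := D_succ cs i j ((3 : ℕ) : ℤ)
    rw [e3] at this
    have h : ct i j ((3 : ℕ) : ℤ) = j := by
      unfold ct
      rw [if_neg (by decide)]
    rw [h] at this
    exact_mod_cast this
  have hk4 : k ≤ 4 := by omega
  interval_cases k
  · simp
  · rw [e1, cs.length_simple]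
  · rw [e2, Generic.length_two cs hij]
  · rw [e3, Generic.length_three cs hij (by omega)]
  · rw [e4, Generic.length_four cs hij (by omega)]

theorem len_D {i j : I} (hij : i ≠ j) (hm : M i j = 2 ∨ M i j = 3 ∨ M i j = 4) (n n' : ℤ)
    (h : n ≤ n') (h' : n' - n ≤ M i j) : (ℓ ((D cs i j n)⁻¹ * D cs i j n') : ℤ) = n' - n := by
  obtain ⟨k, hk⟩ := Int.eq_ofNat_of_zero_le (sub_nonneg.2 h)
  have e : n' = n + k := by omega
  rw [e, D_add, inv_mul_cancel_left]
  have hMM : M (ct i j n) (ct i j (n + 1)) = M i j := by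
    unfold ct
    by_cases hn : Even n
    · rw [if_pos hn, if_neg (by rw [Int.even_add_one]; exact not_not.2 hn)]
    · rw [if_neg hn, if_pos (by rw [Int.even_add_one]; exact hn), M.symmetric i j]
  have := len_D_nat cs (ct_ne hij n) (by rw [hMM]; exact hm) k (by rw [hMM]; omega)
  rw [this]
  ring

end Dih

/-! ### Roots -/

section Rt

theorem mem_rt_compl {w v : W} {i : I} (h : v ∉ rt cs w i) : v ∈ rt cs (w * cs.simple i) i := by
  change ℓ ((w * cs.simple i)⁻¹ * v) < ℓ (cs.simple i * ((w * cs.simple i)⁻¹ * v))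
  change ¬ ℓ (w⁻¹ * v) < ℓ (cs.simple i * (w⁻¹ * v)) at h
  have e : (w * cs.simple i)⁻¹ * v = cs.simple i * (w⁻¹ * v) := by
    rw [mul_inv_rev, cs.inv_simple, mul_assoc]
  rw [e, ← mul_assoc (cs.simple i) (cs.simple i), cs.simple_mul_simple_self, one_mul]
  have := cs.length_simple_mul_ne (w⁻¹ * v) i
  omega

/-- a panel of `W` crossing the wall of a root -/
theorem cross {w v : W} {i q : I} (h : v ∈ rt cs w i) (h' : v * cs.simple q ∉ rt cs w i) :
    cs.simple i * (w⁻¹ * v) = w⁻¹ * v * cs.simple q := by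
  change ℓ (w⁻¹ * v) < ℓ (cs.simple i * (w⁻¹ * v)) at h
  change ¬ ℓ (w⁻¹ * (v * cs.simple q)) < ℓ (cs.simple i * (w⁻¹ * (v * cs.simple q))) at h'
  rw [← mul_assoc w⁻¹ v, ← mul_assoc] at h'
  have h1 := cs.length_simple_mul (w⁻¹ * v) i
  have h2 := cs.length_mul_simple (w⁻¹ * v) q
  have h3 := cs.length_mul_simple (cs.simple i * (w⁻¹ * v)) q
  rcases h2 with h2 | h2
  · rcases Exchange.fold cs (w := w⁻¹ * v) (i := i) (j := q) (by omega) h2 with h4 | h4
    · omega
    · exact h4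
  · omega

theorem cross_refl {w v : W} {i q : I} (h : v ∈ rt cs w i) (h' : v * cs.simple q ∉ rt cs w i) :
    w * cs.simple i * w⁻¹ = v * cs.simple q * v⁻¹ := by
  have h1 := cross h h'
  calc w * cs.simple i * w⁻¹ = w * (cs.simple i * (w⁻¹ * v)) * v⁻¹ := by group
    _ = w * (w⁻¹ * v * cs.simple q) * v⁻¹ := by rw [h1]
    _ = _ := by group

variable [Finite W]

theorem mem_rt_w0 {w v : W} {i : I} : v * w0 cs ∈ rt cs w i ↔ v ∉ rt cs w i := by
  change ℓ (w⁻¹ * (v * w0 cs)) < ℓ (cs.simple i * (w⁻¹ * (v * w0 cs))) ↔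
    ¬ ℓ (w⁻¹ * v) < ℓ (cs.simple i * (w⁻¹ * v))
  have h1 := Exchange.length_mul_w0 cs (w⁻¹ * v)
  have h2 := Exchange.length_mul_w0 cs (cs.simple i * (w⁻¹ * v))
  rw [← mul_assoc w⁻¹ v, ← mul_assoc (cs.simple i)]
  have := cs.length_simple_mul_ne (w⁻¹ * v) i
  omega

end Rt

/-! ### Automorphisms, charts and root groups -/

section Geo

variable {C : Type*} {Δ : Bldg cs C}

theorem Chart.pan {σ : W → C} (hσ : Chart Δ σ) (v : W) (q : I) :
    σ (v * cs.simple q) ∈ Δ.Pan q (σ v) := by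
  right
  rw [hσ]
  group

theorem pan_map {g : Equiv.Perm C} (hg : g ∈ Aut Δ) {q : I} {x y : C} (h : y ∈ Δ.Pan q x) :
    g y ∈ Δ.Pan q (g x) := by
  rcases h with h | h
  · left; rw [h]
  · right; rw [hg]; exact h

theorem comm_apply (a b : Equiv.Perm C) (y : C) :
    (⁅a, b⁆ : Equiv.Perm C) y = a (b (a⁻¹ (b⁻¹ y))) := rfl

theorem inv_fix {g : Equiv.Perm C} {y : C} (h : g y = y) : g⁻¹ y = y := by
  rw [Equiv.Perm.inv_eq_iff_eq]
  exact h.symm

theorem inv_apply_eq {g : Equiv.Perm C} {x y : C} (h : g x = y) : g⁻¹ y = x := by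
  rw [Equiv.Perm.inv_eq_iff_eq]
  exact h.symm

/-- The commutator of two elements of root groups with distinct walls is trivial on all panels at the
chambers of the intersection of the roots. -/
theorem comm_E1 {σ : W → C} {w w' : W} {i i' : I} {a b : Equiv.Perm C}
    (ha : a ∈ U Δ σ (rt cs w i)) (hb : b ∈ U Δ σ (rt cs w' i'))
    (hne : w * cs.simple i * w⁻¹ ≠ w' * cs.simple i' * w'⁻¹) {v : W} (hv : v ∈ rt cs w i)
    (hv' : v ∈ rt cs w' i') {q : I} {y : C} (hy : y ∈ Δ.Pan q (σ v)) :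
    (⁅a, b⁆ : Equiv.Perm C) y = y := by
  rw [comm_apply]
  have hav := ha.2.1 v hv
  have hbv := hb.2.1 v hv'
  have hc : ∀ (g : Equiv.Perm C) (z : C), g (g⁻¹ z) = z := fun g z => g.apply_symm_apply z
  by_cases h1 : v * cs.simple q ∈ rt cs w i
  · have hay : ∀ z ∈ Δ.Pan q (σ v), a z = z := ha.2.2 v q hv h1
    have hby : b⁻¹ y ∈ Δ.Pan q (σ v) := by
      have := pan_map (inv_mem hb.1) hy
      rwa [inv_fix hbv] at this
    rw [inv_fix (hay _ hby), hc b, hay y hy]
  · have h2 : v * cs.simple q ∈ rt cs w' i' := by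
      by_contra h2
      exact hne ((wall_of_cross hv h1).trans (wall_of_cross hv' h2).symm)
    have hby : ∀ z ∈ Δ.Pan q (σ v), b z = z := hb.2.2 v q hv' h2
    rw [inv_fix (hby y hy)]
    have hay : a⁻¹ y ∈ Δ.Pan q (σ v) := by
      have := pan_map (inv_mem ha.1) hy
      rwa [inv_fix hav] at this
    rw [hby _ hay, hc a]

/-- product sets -/
def Prd {G : Type*} [Group G] (S : ℕ → Set G) : ℕ → Set G
  | 0 => {1}
  | n + 1 => {g | ∃ v ∈ Prd S n, ∃ u ∈ S n, g = v * u}

theorem Prd_congr {G : Type*} [Group G] {S T : ℕ → Set G} (n : ℕ) (h : ∀ k < n, S k = T k) :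
    Prd S n = Prd T n := by
  induction n with
  | zero => rfl
  | succ n ih =>
    ext g
    change (∃ v ∈ Prd S n, ∃ u ∈ S n, g = v * u) ↔ (∃ v ∈ Prd T n, ∃ u ∈ T n, g = v * u)
    rw [ih (fun k hk => h k (by omega)), h n (by omega)]

theorem Prd_fix {S : ℕ → Set (Equiv.Perm C)} {y : C} (n : ℕ) (h : ∀ k < n, ∀ u ∈ S k, u y = y)
    {v : Equiv.Perm C} (hv : v ∈ Prd S n) : v y = y := by
  induction n generalizing v with
  | zero =>
    have : v = 1 := hv
    rw [this]
    rfl
  | succ n ih =>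
    obtain ⟨v', hv', u, hu, rfl⟩ := hv
    change v' (u y) = y
    rw [h n (by omega) u hu, ih (fun k hk => h k (by omega)) hv']

theorem Prd_mem {G : Type*} [Group G] {S : ℕ → Set G} {H : Subgroup G} (n : ℕ)
    (h : ∀ k < n, S k ⊆ H) {v : G} (hv : v ∈ Prd S n) : v ∈ H := by
  induction n generalizing v with
  | zero =>
    have : v = 1 := hv
    rw [this]
    exact H.one_mem
  | succ n ih =>
    obtain ⟨v', hv', u, hu, rfl⟩ := hv
    exact H.mul_mem (ih (fun k hk => h k (by omega)) hv') (h n (by omega) hu)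

end Geo

section Main

variable {C : Type*} {Δ : Bldg cs C} [Finite I] [Finite W]

/-- the `r`-th root of the dihedral sequence -/
def gam (cs : CoxeterSystem M W) (i j : I) (r : ℤ) : Set W := rt cs (D cs i j (r - 1)) (ct i j (r - 1))

theorem D_mul_simple (i j : I) (r : ℤ) : D cs i j (r - 1) * cs.simple (ct i j (r - 1)) = D cs i j r := by
  have := D_succ cs i j (r - 1)
  rw [sub_add_cancel] at this
  exact this.symm

theorem simple_mul_Dinv (i j : I) (r : ℤ) (v : W) :
    cs.simple (ct i j (r - 1)) * ((D cs i j (r - 1))⁻¹ * v) = (D cs i j r)⁻¹ * v := by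
  rw [← D_mul_simple i j r, mul_inv_rev, cs.inv_simple, mul_assoc]

theorem len_D' {i j : I} (hij : i ≠ j) (hm : M i j = 2 ∨ M i j = 3 ∨ M i j = 4) (n n' : ℤ)
    (h : n ≤ n') (h' : n' - n ≤ M i j) : (ℓ ((D cs i j n')⁻¹ * D cs i j n) : ℤ) = n' - n := by
  rw [← len_D cs hij hm n n' h h', ← cs.length_inv ((D cs i j n)⁻¹ * D cs i j n'), mul_inv_rev,
    inv_inv]

theorem mem_gam {i j : I} (hij : i ≠ j) (hm : M i j = 2 ∨ M i j = 3 ∨ M i j = 4) {n r : ℤ}
    (h1 : r - M i j ≤ n) (h2 : n ≤ r - 1) : D cs i j n ∈ gam cs i j r := by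
  change ℓ ((D cs i j (r - 1))⁻¹ * D cs i j n) <
    ℓ (cs.simple (ct i j (r - 1)) * ((D cs i j (r - 1))⁻¹ * D cs i j n))
  rw [simple_mul_Dinv]
  have e1 := len_D' (cs := cs) hij hm n (r - 1) h2 (by omega)
  have e2 := len_D' (cs := cs) hij hm n r (by omega) (by omega)
  omega

theorem not_mem_gam {i j : I} (hij : i ≠ j) (hm : M i j = 2 ∨ M i j = 3 ∨ M i j = 4) {n r : ℤ}
    (h1 : r ≤ n) (h2 : n ≤ r + M i j - 1) : D cs i j n ∉ gam cs i j r := by
  change ¬ ℓ ((D cs i j (r - 1))⁻¹ * D cs i j n) <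
    ℓ (cs.simple (ct i j (r - 1)) * ((D cs i j (r - 1))⁻¹ * D cs i j n))
  rw [simple_mul_Dinv]
  have e1 := len_D (cs := cs) hij hm (r - 1) n (by omega) (by omega)
  have e2 := len_D (cs := cs) hij hm r n h1 (by omega)
  omega

/-- the walls of `γ_r`, `γ_{r'}` are distinct for `0 < r' - r < m` -/
theorem refl_ne {i j : I} (hij : i ≠ j) (hm : M i j = 2 ∨ M i j = 3 ∨ M i j = 4) {r r' : ℤ}
    (h1 : r < r') (h2 : r' - r < M i j) :
    D cs i j (r - 1) * cs.simple (ct i j (r - 1)) * (D cs i j (r - 1))⁻¹ ≠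
      D cs i j (r' - 1) * cs.simple (ct i j (r' - 1)) * (D cs i j (r' - 1))⁻¹ := by
  intro he
  have h3 : D cs i j (r - 1) ∈ gam cs i j r' := mem_gam hij hm (by omega) (by omega)
  have h4 := fun h => (refl_mul_mem_rt_iff.1 h) h3
  rw [← he, inv_mul_cancel_right, D_mul_simple] at h4
  exact h4 (mem_gam hij hm (by omega) (by omega))

theorem D_period (i j : I) (n : ℤ) : D cs i j (n + 2 * M i j) = D cs i j n := by
  unfold D
  have e1 : (n + 2 * (M i j : ℤ)) / 2 = n / 2 + M i j := by omega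
  have e2 : Even (n + 2 * (M i j : ℤ)) ↔ Even n := by
    rw [Int.even_add]
    simp
  have e3 : (cs.simple i * cs.simple j) ^ (M i j : ℤ) = 1 := by
    rw [zpow_natCast]
    exact cs.simple_mul_simple_pow i j
  rw [e1, zpow_add, e3, mul_one]
  by_cases h : Even n
  · rw [if_pos h, if_pos (e2.2 h)]
  · rw [if_neg h, if_neg (fun h' => h (e2.1 h'))]

theorem D_one (i j : I) : D cs i j 1 = cs.simple i := by
  have := D_succ cs i j 0
  simpa [ct] using this

theorem D_neg_one (i j : I) : D cs i j (-1) = cs.simple j := by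
  have := D_succ cs i j (-1)
  rw [show (-1 : ℤ) + 1 = 0 by norm_num, D_zero] at this
  have h : ct i j (-1) = j := by
    unfold ct
    rw [if_neg (by decide)]
  rw [h] at this
  have h2 := congrArg (· * cs.simple j) this
  simp only [one_mul, cs.simple_mul_simple_cancel_right] at h2
  exact h2.symm

theorem D_mem (i j : I) (n : ℤ) : D cs i j n ∈ WJ cs {i, j} := by
  unfold D
  have hi := Generic.simple_mem_left cs i j
  have hj := Generic.simple_mem_right cs i j
  refine mul_mem (Subgroup.zpow_mem _ (mul_mem hi hj) _) ?_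
  split_ifs
  · exact one_mem _
  · exact hi

/-- a chart fixed at two opposite chambers is fixed -/
theorem fix_chart {σ : W → C} (hσ : Chart Δ σ) {g : Equiv.Perm C} (hg : g ∈ Aut Δ) {v : W}
    (h1 : g (σ v) = σ v) (h2 : g (σ (v * w0 cs)) = σ (v * w0 cs)) (w : W) : g (σ w) = σ w :=
  congrFun (Chart.ext_opp (hσ.aut hg) hσ h1 h2) w

/-- (M4) for the standard dihedral sequence. -/
theorem comm_std (hth : Δ.Thick) {σ : W → C} (hσ : Chart Δ σ) {i j : I} (hij : i ≠ j)
    (hm : M i j = 2 ∨ M i j = 3 ∨ M i j = 4)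
    (hreg : ∀ (w : W) (k : I) (x : C), x ∈ Δ.Pan k (σ w) → x ≠ σ w →
      ∃ u ∈ U Δ σ (rt cs w k), u (σ (w * cs.simple k)) = x)
    (l : ℕ) (hl2 : 2 ≤ l) (hlm : l ≤ M i j) {a b : Equiv.Perm C}
    (ha : a ∈ U Δ σ (gam cs i j 1)) (hb : b ∈ U Δ σ (gam cs i j l)) :
    ⁅a, b⁆ ∈ Prd (fun k => (U Δ σ (gam cs i j (2 + k)) : Set (Equiv.Perm C))) (l - 2) := by
  set S : ℕ → Set (Equiv.Perm C) := fun k => (U Δ σ (gam cs i j (2 + k)) : Set (Equiv.Perm C))
    with hS
  set g : Equiv.Perm C := ⁅a, b⁆ with hg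
  have hgA : g ∈ Aut Δ :=
    mul_mem (mul_mem (mul_mem ha.1 hb.1) (inv_mem ha.1)) (inv_mem hb.1)
  have hne := refl_ne (cs := cs) hij hm (r := 1) (r' := l) (by omega) (by omega)
  have hE1 : ∀ v, v ∈ gam cs i j 1 → v ∈ gam cs i j l → ∀ (q : I) (y : C),
      y ∈ Δ.Pan q (σ v) → g y = y := fun v h1 h2 q y hy => comm_E1 ha hb hne h1 h2 hy
  have h0a : D cs i j 0 ∈ gam cs i j 1 := mem_gam hij hm (by omega) (by omega)
  have h0b : D cs i j 0 ∈ gam cs i j l := mem_gam hij hm (by omega) (by omega)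
  have hPA : ∀ n v, v ∈ Prd S n → v ∈ Aut Δ := fun n v hv =>
    Prd_mem n (fun k _ u (hu : u ∈ U Δ σ (gam cs i j (2 + k))) => hu.1) hv
  have step : ∀ n : ℕ, n + 2 ≤ l → ∃ v ∈ Prd S n, ∀ s : ℤ, 0 ≤ s → s ≤ n + 1 →
      (v⁻¹ * g) (σ (D cs i j s)) = σ (D cs i j s) := by
    intro n
    induction n with
    | zero =>
      intro _
      refine ⟨1, rfl, fun s hs0 hs1 => ?_⟩
      rw [inv_one, one_mul]
      have hs : s = 0 ∨ s = 1 := by omega
      rcases hs with rfl | rfl
      · exact hE1 _ h0a h0b i _ (Or.inl rfl)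
      · refine hE1 _ h0a h0b (ct i j 0) _ ?_
        have := D_succ cs i j 0
        rw [zero_add] at this
        rw [this]
        exact Chart.pan hσ _ _
    | succ n ih =>
      intro hn
      obtain ⟨v, hv, hfix⟩ := ih (by omega)
      set h : Equiv.Perm C := v⁻¹ * g with hh
      have hhA : h ∈ Aut Δ := mul_mem (inv_mem (hPA n v hv)) hgA
      -- the next root
      have hr : D cs i j ((n : ℤ) + 1) * cs.simple (ct i j ((n : ℤ) + 1)) = D cs i j (n + 2) := by
        have := D_succ cs i j ((n : ℤ) + 1)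
        rw [← this]
        congr 1
      have hx1 : h (σ (D cs i j (n + 2))) ∈
          Δ.Pan (ct i j ((n : ℤ) + 1)) (σ (D cs i j ((n : ℤ) + 1))) := by
        have h1 := pan_map hhA (Chart.pan hσ (D cs i j ((n : ℤ) + 1)) (ct i j ((n : ℤ) + 1)))
        rw [hfix _ (by omega) (by omega), hr] at h1
        exact h1
      have hx2 : h (σ (D cs i j (n + 2))) ≠ σ (D cs i j ((n : ℤ) + 1)) := by
        intro he
        have h1 : h (σ (D cs i j (n + 2))) = h (σ (D cs i j ((n : ℤ) + 1))) := by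
          rw [he, hfix _ (by omega) (by omega)]
        have h2 := hσ.injective (h.injective h1)
        rw [← hr] at h2
        have h4 := cs.length_simple (ct i j ((n : ℤ) + 1))
        have h5 : cs.simple (ct i j ((n : ℤ) + 1)) = 1 := by
          have := mul_eq_left.1 h2
          exact this
        rw [h5, cs.length_one] at h4
        omega
      obtain ⟨u, hu, hux⟩ := hreg _ _ _ hx1 hx2
      rw [hr] at hux
      have hu' : u ∈ U Δ σ (gam cs i j (2 + n)) := by
        have e : (2 + (n : ℤ)) - 1 = (n : ℤ) + 1 := by ring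
        rw [gam, e]
        exact hu
      refine ⟨v * u, ⟨v, hv, u, hu', rfl⟩, fun s hs0 hs1 => ?_⟩
      have e : ((v * u)⁻¹ * g : Equiv.Perm C) = u⁻¹ * h := by rw [hh]; group
      rw [e]
      change u⁻¹ (h _) = _
      by_cases hs : s ≤ n + 1
      · rw [hfix s hs0 hs]
        apply inv_fix
        exact hu'.2.1 _ (mem_gam hij hm (by omega) (by omega))
      · have hs' : s = n + 2 := by push_cast at hs1; omega
        rw [hs']
        exact inv_apply_eq hux
  obtain ⟨v, hv, hfix⟩ := step (l - 2) (by omega)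
  set h : Equiv.Perm C := v⁻¹ * g with hh
  have hhA : h ∈ Aut Δ := mul_mem (inv_mem (hPA _ v hv)) hgA
  suffices hone : h = 1 by
    have : g = v := by
      rw [hh] at hone
      exact (inv_mul_eq_one.1 hone).symm
    rw [this]
    exact hv
  have hvfix : ∀ y : C, (∀ k : ℕ, k < l - 2 → ∀ u ∈ U Δ σ (gam cs i j (2 + k)), u y = y) →
      g y = y → h y = y := by
    intro y h1 h2
    change v⁻¹ (g y) = y
    rw [h2]
    exact inv_fix (Prd_fix (l - 2) h1 hv)
  -- `h` is trivial on the panels of `σ 1`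
  have hE : ∀ (q : I) (y : C), y ∈ Δ.Pan q (σ 1) → h y = y := by
    intro q y hy
    have hy' : y ∈ Δ.Pan q (σ (D cs i j 0)) := by rw [D_zero]; exact hy
    refine hvfix y (fun k hk u hu => ?_) (hE1 _ h0a h0b q y hy')
    have h1 : D cs i j 0 ∈ gam cs i j (2 + k) := mem_gam hij hm (by omega) (by omega)
    refine hu.2.2 _ q h1 ?_ y hy'
    by_contra hcon
    have h2 := wall_of_cross h1 hcon
    rw [D_mul_simple, D_zero, one_mul, inv_one, mul_one] at h2
    have h3 : cs.simple q ∈ WJ cs {i, j} := by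
      rw [← h2]
      exact mul_mem (D_mem i j _) (inv_mem (D_mem i j _))
    have h4 : q ∈ ({i, j} : Set I) :=
      (OppRes.instCox : OppRes.Cox cs).descent_mem _ _ h3 q (by
        rw [cs.simple_mul_simple_self, cs.length_one, cs.length_simple]; exact Nat.one_pos)
    apply hcon
    rw [D_zero, one_mul]
    rcases h4 with rfl | h4
    · rw [← D_one (cs := cs) q j]
      exact mem_gam hij hm (by omega) (by omega)
    · rw [Set.mem_singleton_iff] at h4
      subst h4
      rw [← D_neg_one (cs := cs) i q]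
      exact mem_gam hij hm (by omega) (by omega)
  -- `h` fixes the chamber opposite to `x_{l-1}`
  have hy : h (σ (D cs i j ((l : ℤ) - 1 - M i j))) = σ (D cs i j ((l : ℤ) - 1 - M i j)) := by
    apply hvfix
    · intro k hk u hu
      exact hu.2.1 _ (mem_gam hij hm (by omega) (by omega))
    · refine hE1 (D cs i j ((l : ℤ) - M i j)) (mem_gam hij hm (by omega) (by omega))
        (mem_gam hij hm (by omega) (by omega)) (ct i j ((l : ℤ) - 1 - M i j)) _ ?_
      have h1 := D_succ cs i j ((l : ℤ) - 1 - M i j)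
      have e : (l : ℤ) - 1 - M i j + 1 = (l : ℤ) - M i j := by ring
      rw [e] at h1
      apply Δ.mem_Pan_symm
      rw [h1]
      exact Chart.pan hσ _ _
  have hy2 : h (σ (D cs i j ((l : ℤ) - 1 + M i j))) = σ (D cs i j ((l : ℤ) - 1 + M i j)) := by
    have := D_period (cs := cs) i j ((l : ℤ) - 1 - M i j)
    have e : (l : ℤ) - 1 - M i j + 2 * M i j = (l : ℤ) - 1 + M i j := by ring
    rw [e] at this
    rw [this]
    exact hy
  have hxl : h (σ (D cs i j ((l : ℤ) - 1))) = σ (D cs i j ((l : ℤ) - 1)) :=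
    hfix _ (by omega) (by omega)
  have hxm : h (σ (D cs i j (M i j))) = σ (D cs i j (M i j)) := by
    have e1 := len_D (cs := cs) hij hm ((l : ℤ) - 1) (M i j) (by omega) (by omega)
    have e2 := len_D (cs := cs) hij hm (M i j) ((l : ℤ) - 1 + M i j) (by omega) (by omega)
    have e3 := len_D (cs := cs) hij hm ((l : ℤ) - 1) ((l : ℤ) - 1 + M i j) (by omega) (by omega)
    have e4 : (D cs i j ((l : ℤ) - 1))⁻¹ * D cs i j (M i j) *
        ((D cs i j (M i j))⁻¹ * D cs i j ((l : ℤ) - 1 + M i j)) =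
        (D cs i j ((l : ℤ) - 1))⁻¹ * D cs i j ((l : ℤ) - 1 + M i j) := by group
    refine Δ.between_unique (x := σ (D cs i j ((l : ℤ) - 1)))
      (z := σ (D cs i j ((l : ℤ) - 1 + M i j)))
      (v := (D cs i j ((l : ℤ) - 1))⁻¹ * D cs i j (M i j))
      (w := (D cs i j (M i j))⁻¹ * D cs i j ((l : ℤ) - 1 + M i j)) ?_ ?_ ?_ (hσ _ _) (hσ _ _)
    · rw [e4]
      omega
    · conv_lhs => rw [← hxl]
      rw [hhA, hσ]
    · conv_lhs => rw [← hy2]
      rw [hhA, hσ]
  have hq : h (σ (D cs i j (M i j) * w0 cs)) = σ (D cs i j (M i j) * w0 cs) := by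
    have hmem : ∀ r : ℤ, 1 ≤ r → r ≤ M i j → D cs i j (M i j) * w0 cs ∈ gam cs i j r := by
      intro r h1 h2
      exact mem_rt_w0.2 (not_mem_gam hij hm (by omega) (by omega))
    apply hvfix
    · intro k hk u hu
      exact hu.2.1 _ (hmem _ (by omega) (by omega))
    · exact hE1 _ (hmem 1 (by omega) (by omega)) (hmem l (by omega) (by omega)) i _ (Or.inl rfl)
  have hall := fix_chart hσ hhA hxm hq
  -- rigidity
  refine aut_eq_of_rigid hth hhA (one_mem _) (hσ.opp 1) (fun y hy => ?_) ?_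
  · obtain ⟨q, hy⟩ := hy
    exact hE q y hy
  · exact hall _

/-- The root groups of the translated chart. -/
theorem U_translate {σ : W → C} (x w : W) (i : I) :
    U Δ (fun v => σ (x * v)) (rt cs w i) = U Δ σ (rt cs (x * w) i) := by
  ext g
  rw [mem_U, mem_U]
  refine and_congr Iff.rfl (and_congr ?_ ?_)
  · constructor
    · intro h v hv
      have h1 := h (x⁻¹ * v) (by
        rw [← mul_mem_rt_iff (x := x), mul_inv_cancel_left]
        exact hv)
      simpa using h1
    · intro h v hv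
      exact h (x * v) (mul_mem_rt_iff.2 hv)
  · constructor
    · intro h v q hv hv' y hy
      have h1 := h (x⁻¹ * v) q (by
        rw [← mul_mem_rt_iff (x := x), mul_inv_cancel_left]
        exact hv) (by
        rw [← mul_mem_rt_iff (x := x), ← mul_assoc, mul_inv_cancel_left]
        exact hv') y
      rw [mul_inv_cancel_left] at h1
      exact h1 hy
    · intro h v q hv hv' y hy
      exact h (x * v) q (mul_mem_rt_iff.2 hv) (by
        rw [mul_assoc]
        exact mul_mem_rt_iff.2 hv') y hy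

/-- The `r`-th root of the dihedral sequence of type `i, j` at `w`. -/
def gw (cs : CoxeterSystem M W) (w : W) (i j : I) (r : ℤ) : Set W :=
  rt cs (w * D cs i j (r - 1)) (ct i j (r - 1))

theorem gw_one (w : W) (i j : I) : gw cs w i j 1 = rt cs w i := by
  simp [gw, ct]

theorem gw_two (w : W) (i j : I) : gw cs w i j 2 = rt cs (w * cs.simple i) j := by
  have e : (2 : ℤ) - 1 = 1 := by norm_num
  rw [gw, e, D_one]
  simp [ct]

theorem D_two (i j : I) : D cs i j 2 = cs.simple i * cs.simple j := by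
  have := D_succ cs i j 1
  rw [D_one] at this
  simpa [ct] using this

theorem D_three (i j : I) : D cs i j 3 = cs.simple i * cs.simple j * cs.simple i := by
  have := D_succ cs i j 2
  rw [D_two] at this
  simpa [ct] using this

theorem gw_three (w : W) (i j : I) :
    gw cs w i j 3 = rt cs (w * (cs.simple i * cs.simple j)) i := by
  have e : (3 : ℤ) - 1 = 2 := by norm_num
  rw [gw, e, D_two]
  simp [ct]

theorem gw_four (w : W) (i j : I) :
    gw cs w i j 4 = rt cs (w * (cs.simple i * cs.simple j * cs.simple i)) j := by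
  have e : (4 : ℤ) - 1 = 3 := by norm_num
  have e' : ct i j 3 = j := by
    unfold ct
    rw [if_neg (by decide)]
  rw [gw, e, D_three, e']

theorem gw_zero (w : W) (i j : I) : gw cs w i j 0 = rt cs (w * cs.simple j) j := by
  have e : (0 : ℤ) - 1 = -1 := by norm_num
  have e' : ct i j (-1) = j := by
    unfold ct
    rw [if_neg (by decide)]
  rw [gw, e, D_neg_one, e']

/-- Opposite roots. -/
theorem gw_compl {i j : I} (hij : i ≠ j) (hm : M i j = 2 ∨ M i j = 3 ∨ M i j = 4) (w : W) (r : ℤ) :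
    gw cs w i j (r + M i j) = (gw cs w i j r)ᶜ := by
  have e0 : r + (M i j : ℤ) - 1 = (r - 1) + M i j := by ring
  rw [gw, gw, rt_compl]
  symm
  have hD := D_mul_simple (cs := cs) i j r
  have hD' := D_mul_simple (cs := cs) i j (r + M i j)
  have h1 : D cs i j (r + M i j - 1) ∈ rt cs (D cs i j r) (ct i j (r - 1)) := by
    rw [← hD, ← rt_compl]
    exact not_mem_gam hij hm (by omega) (by omega)
  have h2 : D cs i j (r + M i j) ∉ rt cs (D cs i j r) (ct i j (r - 1)) := by
    rw [← hD, ← rt_compl, Set.notMem_compl_iff]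
    have e : r + (M i j : ℤ) = (r - M i j) + 2 * M i j := by ring
    rw [e, D_period]
    exact mem_gam hij hm (by omega) (by omega)
  rw [mul_assoc, hD]
  refine rt_eq_of_cross (mul_mem_rt_iff.2 h1) ?_
  rw [mul_assoc, hD', mul_mem_rt_iff]
  exact h2

theorem gw_period {i j : I} (hij : i ≠ j) (hm : M i j = 2 ∨ M i j = 3 ∨ M i j = 4) (w : W) (r : ℤ) :
    gw cs w i j (r + 2 * M i j) = gw cs w i j r := by
  have e : r + 2 * (M i j : ℤ) = r + M i j + M i j := by ring
  rw [e, gw_compl hij hm, gw_compl hij hm, compl_compl]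

theorem D_neg (i j : I) (n : ℤ) : D cs j i n = D cs i j (-n) := by
  have hct : ∀ n : ℤ, ct j i n = ct i j (n + 1) := by
    intro n
    unfold ct
    by_cases hn : Even n
    · rw [if_pos hn, if_neg (by rw [Int.even_add_one]; exact not_not.2 hn)]
    · rw [if_neg hn, if_pos (by rw [Int.even_add_one]; exact hn)]
  have hct' : ∀ n : ℤ, ct i j (-n) = ct i j n := by
    intro n
    unfold ct
    by_cases hn : Even n
    · rw [if_pos hn, if_pos (even_neg.2 hn)]
    · rw [if_neg hn, if_neg (fun h => hn (even_neg.1 h))]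
  induction n using Int.induction_on with
  | zero => simp
  | succ k ih =>
    rw [D_succ, ih]
    have h := D_succ cs i j (-((k : ℤ) + 1))
    have e : -((k : ℤ) + 1) + 1 = -(k : ℤ) := by ring
    rw [e] at h
    rw [h, hct, hct', mul_assoc, cs.simple_mul_simple_self, mul_one]
  | pred k ih =>
    have h := D_succ cs j i (-(k : ℤ) - 1)
    have e : -(k : ℤ) - 1 + 1 = -(k : ℤ) := by ring
    rw [e, ih, neg_neg] at h
    have h2 := D_succ cs i j (k : ℤ)
    have e2 : -(-(k : ℤ) - 1) = (k : ℤ) + 1 := by ring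
    rw [e2, h2, h, hct, e, hct', mul_assoc, cs.simple_mul_simple_self, mul_one]

theorem gw_symm {i j : I} (hij : i ≠ j) (hm : M i j = 2 ∨ M i j = 3 ∨ M i j = 4) (w : W) (r : ℤ) :
    gw cs w j i r = gw cs w i j (M i j + 1 - r) := by
  have e : (M i j : ℤ) + 1 - r = (1 - r) + M i j := by ring
  have hct : ct j i (r - 1) = ct i j (1 - r - 1) := by
    unfold ct
    have h1 : Even (1 - r - 1) ↔ Even r := by
      have : (1 - r - 1 : ℤ) = -r := by ring
      rw [this, even_neg]
    by_cases hn : Even r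
    · rw [if_pos (h1.2 hn), if_neg (by rw [Int.even_sub_one]; exact not_not.2 hn)]
    · rw [if_neg (fun h => hn (h1.1 h)), if_pos (by rw [Int.even_sub_one]; exact hn)]
  rw [e, gw_compl hij hm, gw, gw, rt_compl, mul_assoc, D_mul_simple, D_neg, hct]
  have e2 : -(r - 1) = 1 - r := by ring
  rw [e2]

theorem mem_gw {i j : I} (hij : i ≠ j) (hm : M i j = 2 ∨ M i j = 3 ∨ M i j = 4) (w : W) {n r : ℤ}
    (h1 : r - M i j ≤ n) (h2 : n ≤ r - 1) : w * D cs i j n ∈ gw cs w i j r :=
  mul_mem_rt_iff.2 (mem_gam hij hm h1 h2)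

theorem not_mem_gw {i j : I} (hij : i ≠ j) (hm : M i j = 2 ∨ M i j = 3 ∨ M i j = 4) (w : W)
    {n r : ℤ} (h1 : r ≤ n) (h2 : n ≤ r + M i j - 1) : w * D cs i j n ∉ gw cs w i j r := fun h =>
  not_mem_gam hij hm h1 h2 (mul_mem_rt_iff.1 h)

theorem U_gw {σ : W → C} (w : W) (i j : I) (r k : ℤ) :
    U Δ (fun v => σ (w * D cs i j (r - 1) * v)) (gam cs (ct i j (r - 1)) (ct i j r) k) =
      U Δ σ (gw cs w i j (r + k - 1)) := by
  have e1 : r + k - 1 - 1 = (r - 1) + (k - 1) := by ring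
  have e2 := D_add cs i j (r - 1) (k - 1)
  have e3 := ct_ct i j (r - 1) (k - 1)
  rw [sub_add_cancel] at e2 e3
  rw [gam, U_translate, gw, e1, e2, e3, mul_assoc]

theorem M_ct (i j : I) (r : ℤ) : M (ct i j (r - 1)) (ct i j r) = M i j := by
  unfold ct
  by_cases hn : Even r
  · rw [if_pos hn, if_neg (by
      intro h
      have := h.add_one
      rw [sub_add_cancel] at this
      revert hn
      rw [imp_false, Int.not_even_iff_odd]
      exact this), M.symmetric i j]
  · rw [if_neg hn, if_pos (by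
      rw [Int.even_sub_one]
      exact hn)]

/-- (M4) The commutator relations of the root groups. -/
theorem comm_gen (hth : Δ.Thick) {σ : W → C} (hσ : Chart Δ σ) {i j : I} (hij : i ≠ j)
    (hm : M i j = 2 ∨ M i j = 3 ∨ M i j = 4)
    (hreg : ∀ (w : W) (k : I) (x : C), x ∈ Δ.Pan k (σ w) → x ≠ σ w →
      ∃ u ∈ U Δ σ (rt cs w k), u (σ (w * cs.simple k)) = x)
    (w : W) (r : ℤ) (d : ℕ) (hd : 1 ≤ d) (hd' : d < M i j) {a b : Equiv.Perm C}
    (ha : a ∈ U Δ σ (gw cs w i j r)) (hb : b ∈ U Δ σ (gw cs w i j (r + d))) :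
    ⁅a, b⁆ ∈ Prd (fun k => (U Δ σ (gw cs w i j (r + 1 + k)) : Set (Equiv.Perm C))) (d - 1) := by
  have hne : ct i j (r - 1) ≠ ct i j r := by
    have := ct_ne hij (r - 1)
    rwa [sub_add_cancel] at this
  have key := comm_std hth (σ := fun v => σ (w * D cs i j (r - 1) * v)) (hσ.translate _) hne
    (by rw [M_ct]; exact hm) (fun v k x hx hne => by
      rw [U_translate]
      rw [← mul_assoc]
      exact hreg _ k x hx hne) (d + 1) (by omega) (by rw [M_ct]; omega) (a := a) (b := b)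
    (by
      rw [U_gw]
      rwa [add_sub_cancel_right]) (by
      rw [U_gw]
      have : r + ((d + 1 : ℕ) : ℤ) - 1 = r + d := by push_cast; ring
      rwa [this])
  rw [Nat.add_sub_add_right d 1 1] at key
  rw [Prd_congr (d - 1) (T := fun k => (U Δ σ (gw cs w i j (r + 1 + k)) : Set (Equiv.Perm C)))] at key
  · exact key
  · intro k _
    rw [U_gw]
    have : r + (2 + (k : ℤ)) - 1 = r + 1 + k := by ring
    rw [this]

/-- Consecutive roots: the root groups commute. -/
theorem comm_one (hth : Δ.Thick) {σ : W → C} (hσ : Chart Δ σ) {i j : I} (hij : i ≠ j)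
    (hm : M i j = 2 ∨ M i j = 3 ∨ M i j = 4)
    (hreg : ∀ (w : W) (k : I) (x : C), x ∈ Δ.Pan k (σ w) → x ≠ σ w →
      ∃ u ∈ U Δ σ (rt cs w k), u (σ (w * cs.simple k)) = x)
    (w : W) (r : ℤ) {a b : Equiv.Perm C}
    (ha : a ∈ U Δ σ (gw cs w i j r)) (hb : b ∈ U Δ σ (gw cs w i j (r + 1))) :
    a * b = b * a := by
  have := comm_gen hth hσ hij hm hreg w r 1 le_rfl (by omega) ha hb
  exact commutatorElement_eq_one_iff_mul_comm.1 this

theorem comm_two (hth : Δ.Thick) {σ : W → C} (hσ : Chart Δ σ) {i j : I} (hij : i ≠ j)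
    (hm : M i j = 2 ∨ M i j = 3 ∨ M i j = 4) (hm3 : 3 ≤ M i j)
    (hreg : ∀ (w : W) (k : I) (x : C), x ∈ Δ.Pan k (σ w) → x ≠ σ w →
      ∃ u ∈ U Δ σ (rt cs w k), u (σ (w * cs.simple k)) = x)
    (w : W) (r : ℤ) {a b : Equiv.Perm C}
    (ha : a ∈ U Δ σ (gw cs w i j r)) (hb : b ∈ U Δ σ (gw cs w i j (r + 2))) :
    ⁅a, b⁆ ∈ U Δ σ (gw cs w i j (r + 1)) := by
  obtain ⟨v, hv, u, hu, h⟩ := comm_gen hth hσ hij hm hreg w r 2 (by omega) (by omega) ha hb
  have hv' : v = 1 := hv
  rw [h, hv', one_mul]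
  simpa using hu

theorem comm_three (hth : Δ.Thick) {σ : W → C} (hσ : Chart Δ σ) {i j : I} (hij : i ≠ j)
    (hm : M i j = 2 ∨ M i j = 3 ∨ M i j = 4) (hm4 : 4 ≤ M i j)
    (hreg : ∀ (w : W) (k : I) (x : C), x ∈ Δ.Pan k (σ w) → x ≠ σ w →
      ∃ u ∈ U Δ σ (rt cs w k), u (σ (w * cs.simple k)) = x)
    (w : W) (r : ℤ) {a b : Equiv.Perm C}
    (ha : a ∈ U Δ σ (gw cs w i j r)) (hb : b ∈ U Δ σ (gw cs w i j (r + 3))) :
    ∃ c ∈ U Δ σ (gw cs w i j (r + 1)), ∃ d ∈ U Δ σ (gw cs w i j (r + 2)), ⁅a, b⁆ = c * d := by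
  obtain ⟨v, hv, u, hu, h⟩ := comm_gen hth hσ hij hm hreg w r 3 (by omega) (by omega) ha hb
  obtain ⟨v', hv', c, hc, hvc⟩ := hv
  have hv'' : v' = 1 := hv'
  rw [hv'', one_mul] at hvc
  refine ⟨c, by simpa using hc, u, ?_, by rw [h, hvc]⟩
  have e : r + 1 + ((1 : ℕ) : ℤ) = r + 2 := by push_cast; ring
  have hu' : u ∈ U Δ σ (gw cs w i j (r + 1 + ((1 : ℕ) : ℤ))) := hu
  rwa [e] at hu'

end Main

end Cfsg.Agent.Tits.MouComm
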