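import Mathlib
import Cfsg.Agent.Tits.RGSys
import Cfsg.Agent.Tits.Mou
import Cfsg.Agent.Tits.Chart
import Cfsg.Agent.Tits.MouComm
/-!
S1143, interface layer: the root groups `U Δ σ A` of an apartment form a system of root groups `RG`.
The commutator relations (M4) are a hypothesis `CommRel`.
-/

set_option autoImplicit false
set_option linter.unusedSectionVars false

namespace Cfsg.Agent.Tits.MouRG

open CoxeterSystem Cfsg.Agent.ChevalleyStructure.CoxeterGeom Cfsg.Agent.Tits.Roots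
open Cfsg.Agent.Tits.C3Roots Cfsg.Agent.Tits.Core Cfsg.Agent.Tits.Core.Bldg Cfsg.Agent.Tits.OppRes
open Cfsg.Agent.Tits.MouDefs Cfsg.Agent.Tits.RGSys
open scoped commutatorElement

section General

variable {I W : Type*} [Fintype I] [DecidableEq I] [Group W] {M : CoxeterMatrix I}
  {cs : CoxeterSystem M W} {A : I → I → ℤ} {h : IsCartan M A} {Y Y' : Type*} [Group Y] [Group Y']

/-- Restriction of a system of root groups along an injective homomorphism. -/
theorem comap {X : (I → ℤ) → Subgroup Y} {St : W → Subgroup Y} (hX : RG cs h X St)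
    (f : Y' →* Y) (hf : Function.Injective f) (hr : ∀ x, IsRoot cs h x → X x ≤ f.range) :
    RG cs h (fun x => (X x).comap f) (fun v => (St v).comap f) where
  adj := by
    intro w i j hij a ha b hb
    apply hf
    rw [map_mul, map_mul]
    exact hX.adj w i j hij _ ha _ hb
  two := by
    intro w i j hij a ha b hb
    rw [Subgroup.mem_comap, map_commutatorElement]
    exact hX.two w i j hij _ ha _ hb
  three := by
    intro w i j hij a ha b hb
    obtain ⟨c, hc, d, hd, e⟩ := hX.three w i j hij _ ha _ hb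
    obtain ⟨c', rfl⟩ := hr _ ⟨_, _, rfl⟩ hc
    obtain ⟨d', rfl⟩ := hr _ ⟨_, _, rfl⟩ hd
    refine ⟨c', hc, d', hd, ?_⟩
    apply hf
    rw [map_commutatorElement, map_mul]
    exact e
  mu := by
    intro w i a ha ha1
    obtain ⟨b, hb, b', hb', hm⟩ := hX.mu w i (f a) ha (fun e => ha1 (hf (e.trans (map_one f).symm)))
    have hroot : IsRoot cs h (-rep cs h w (sr i)) := IsRoot.neg ⟨w, i, rfl⟩
    obtain ⟨c, rfl⟩ := hr _ hroot hb
    obtain ⟨c', rfl⟩ := hr _ hroot hb'
    refine ⟨c, hb, c', hb', fun y hy z => ?_⟩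
    rw [Subgroup.mem_comap, Subgroup.mem_comap, ← hm y hy]
    simp only [map_mul, map_inv]
  le_St := fun v x hx h0 => Subgroup.comap_mono (hX.le_St v x hx h0)
  sep := by
    intro v x hx h0 a ha hs
    apply hf
    rw [map_one]
    exact hX.sep v x hx h0 _ ha hs
  ne_bot := by
    intro x hx
    obtain ⟨a, ha, ha1⟩ := hX.ne_bot x hx
    obtain ⟨b, rfl⟩ := hr x hx ha
    exact ⟨b, ha, fun e => ha1 (by rw [e, map_one])⟩

end General

variable {I W : Type*} [Fintype I] [DecidableEq I] [Group W] {M : CoxeterMatrix I}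
  {cs : CoxeterSystem M W} {C : Type*} {Δ : Bldg cs C}

/-- The commutator relations (M4). -/
structure CommRel (Δ : Bldg cs C) (σ : W → C) : Prop where
  adj : ∀ w i j, i ≠ j → ∀ a ∈ U Δ σ (rt cs w i), ∀ b ∈ U Δ σ (rt cs (w * cs.simple i) j),
    a * b = b * a
  two : ∀ w i j, (M i j = 3 ∨ M i j = 4) → ∀ a ∈ U Δ σ (rt cs w i),
    ∀ b ∈ U Δ σ (rt cs (w * cs.simple i * cs.simple j) i), ⁅a, b⁆ ∈ U Δ σ (rt cs (w * cs.simple i) j)
  three : ∀ w i j, M i j = 4 → ∀ a ∈ U Δ σ (rt cs w i),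
    ∀ b ∈ U Δ σ (rt cs (w * cs.simple i * cs.simple j * cs.simple i) j),
      ∃ c ∈ U Δ σ (rt cs (w * cs.simple i) j),
      ∃ d ∈ U Δ σ (rt cs (w * cs.simple i * cs.simple j) i), ⁅a, b⁆ = c * d

theorem U_Rt {A : I → I → ℤ} (h : IsCartan M A) (σ : W → C) (w : W) (i : I) :
    U Δ σ (Rt cs h (rep cs h w (sr i))) = U Δ σ (rt cs w i) := by
  rw [← C3Roots.rt_eq]
  rfl

/-- The stabiliser of a chamber. -/
def stab (σ : W → C) (v : W) : Subgroup (Equiv.Perm C) where
  carrier := {g | g (σ v) = σ v}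
  mul_mem' := by
    intro a b ha hb
    change (a * b) (σ v) = σ v
    rw [Equiv.Perm.mul_apply, show b (σ v) = σ v from hb]
    exact ha
  one_mem' := rfl
  inv_mem' := by
    intro a ha
    exact Equiv.Perm.inv_eq_iff_eq.2 (show a (σ v) = σ v from ha).symm

theorem rt_iff {A : I → I → ℤ} (h : IsCartan M A) (v w : W) (i : I) :
    0 ≤ rep cs h v⁻¹ (rep cs h w (sr i)) ↔ v ∈ rt cs w i := by
  change v ∈ Rt cs h (rep cs h w (sr i)) ↔ _
  rw [← C3Roots.rt_eq]
  rfl

/-- The root groups of an apartment form a system of root groups. -/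
theorem rg [Finite W] [Finite C] {A : I → I → ℤ} (h : IsCartan M A) [F : Cox cs]
    (hth : Δ.Thick) (hext : Ext Δ Δ) (hc : Comb cs) {σ : W → C} (hσ : Chart Δ σ)
    (hr : CommRel Δ σ) :
    RG cs h (fun x => U Δ σ (Rt cs h x)) (stab σ) where
  adj := by
    intro w i j hij a ha b hb
    rw [U_Rt] at ha hb
    exact hr.adj w i j hij a ha b hb
  two := by
    intro w i j hij a ha b hb
    rw [U_Rt] at ha hb ⊢
    exact hr.two w i j hij a ha b hb
  three := by
    intro w i j hij a ha b hb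
    rw [U_Rt] at ha hb
    obtain ⟨c, hc, d, hd, e⟩ := hr.three w i j hij a ha b hb
    exact ⟨c, by rw [U_Rt]; exact hc, d, by rw [U_Rt]; exact hd, e⟩
  mu := by
    intro w i a ha ha1
    rw [U_Rt] at ha
    obtain ⟨b, hb, b', hb', hm⟩ := Mou.exists_refl hth hext hc hσ ha ha1
    have e : -rep cs h w (sr i) = rep cs h (w * cs.simple i) (sr i) := by
      rw [rep_mul_apply, rep_simple_sr, map_neg]
    refine ⟨b, by rw [e, U_Rt]; exact hb, b', by rw [e, U_Rt]; exact hb', ?_⟩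
    rintro y ⟨w', j, rfl⟩ c
    rw [U_Rt, ← rep_mul_apply, U_Rt]
    exact Mou.conj_mem_U_iff (mul_mem (mul_mem hb.1 ha.1) hb'.1) hm
  le_St := by
    rintro v x ⟨w, i, rfl⟩ h0 a ha
    rw [U_Rt] at ha
    exact Mou.U_fix ha ((rt_iff h v w i).1 h0)
  sep := by
    rintro v x ⟨w, i, rfl⟩ h0 a ha hs
    rw [U_Rt] at ha
    rw [rt_iff] at h0
    refine Mou.eq_one_of_fix hth hc hσ ha ?_
    have h2 : v * w0 cs ∈ rt cs w i := (Chart.mul_w0_mem_rt cs).2 h0
    have h1 : (fun w => a (σ w)) = σ := Chart.ext_opp (hσ.aut ha.1) hσ (v := v) hs (Mou.U_fix ha h2)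
    exact fun w => congrFun h1 w
  ne_bot := by
    rintro x ⟨w, i, rfl⟩
    rw [U_Rt]
    have hc0 : σ w ∈ Δ.Pan i (σ (w * cs.simple i)) := Mou.mem_pan_chart' hσ w i
    -- a third chamber of the panel
    obtain ⟨y, z, hyz, hy, hz⟩ := hth (σ w) i
    have hex : ∃ x, x ≠ σ (w * cs.simple i) ∧ Δ.δ (σ w) x = cs.simple i := by
      by_cases hy1 : y = σ (w * cs.simple i)
      · exact ⟨z, fun hz1 => hyz (hy1.trans hz1.symm), hz⟩
      · exact ⟨y, hy1, hy⟩
    obtain ⟨x, hx1, hx2⟩ := hex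
    have hx3 : x ∈ Δ.Pan i (σ w) := Or.inr hx2
    have hx4 : x ≠ σ w := by
      intro e
      rw [e, (Δ.eq_one _ _).2 rfl] at hx2
      have := cs.length_simple i
      rw [← hx2, cs.length_one] at this
      omega
    obtain ⟨g, hg, hgx⟩ := Mou.exists_root_elt hth hext hc hσ hx3 hx4
    refine ⟨g, hg, ?_⟩
    rintro rfl
    exact hx1 hgx.symm

/-- (M4) in the form `CommRel`. -/
theorem commRel [Finite W] [Finite C] [F : Cox cs] (hM : ∀ i j, i ≠ j → M i j = 2 ∨ M i j = 3 ∨ M i j = 4)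
    (hth : Δ.Thick) (hext : Ext Δ Δ) (hc : Comb cs) {σ : W → C} (hσ : Chart Δ σ) : CommRel Δ σ := by
  have hreg : ∀ (w : W) (k : I) (x : C), x ∈ Δ.Pan k (σ w) → x ≠ σ w →
      ∃ u ∈ U Δ σ (rt cs w k), u (σ (w * cs.simple k)) = x :=
    fun w k x hx hne => Mou.exists_root_elt hth hext hc hσ hx hne
  have hne3 : ∀ i j, (M i j = 3 ∨ M i j = 4) → i ≠ j := by
    rintro i j h rfl
    rw [M.diagonal] at h
    omega
  refine ⟨fun w i j hij a ha b hb => ?_, fun w i j hij a ha b hb => ?_,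
    fun w i j hij a ha b hb => ?_⟩
  · exact MouComm.comm_one hth hσ hij (hM i j hij) hreg w 1 (by rw [MouComm.gw_one]; exact ha)
      (by rw [show (1 : ℤ) + 1 = 2 from rfl, MouComm.gw_two]; exact hb)
  · have := MouComm.comm_two hth hσ (hne3 i j hij) (Or.inr hij) (by omega) hreg w 1
      (by rw [MouComm.gw_one]; exact ha)
      (by rw [show (1 : ℤ) + 2 = 3 from rfl, MouComm.gw_three, ← mul_assoc]; exact hb)
    rwa [show (1 : ℤ) + 1 = 2 from rfl, MouComm.gw_two] at this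
  · have := MouComm.comm_three hth hσ (hne3 i j (Or.inr hij)) (Or.inr (Or.inr hij)) (by omega)
      hreg w 1 (by rw [MouComm.gw_one]; exact ha)
      (by rw [show (1 : ℤ) + 3 = 4 from rfl, MouComm.gw_four, ← mul_assoc, ← mul_assoc]; exact hb)
    rwa [show (1 : ℤ) + 1 = 2 from rfl, show (1 : ℤ) + 2 = 3 from rfl, MouComm.gw_two,
      MouComm.gw_three, ← mul_assoc] at this

end Cfsg.Agent.Tits.MouRG
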