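import Mathlib
import Cfsg.Agent.Tits.MouRG
import Cfsg.Agent.Tits.MouA2
import Cfsg.Agent.Tits.MouAll
import Cfsg.Agent.TitsThree.Tree
/-!
S1143, interface layer, output in the group `G' = Gg cs (UU Δ σ)`:
* `rgG`: the root groups `RX Δ σ R` form a system of root groups;
* `edgeA2`: two nodes with label 3 give `EdgeA2`;
* `comm_pp`, `comm_pm`, `comm_mm`: two nodes with label 2 commute.
-/

set_option autoImplicit false
set_option linter.unusedSectionVars false

namespace Cfsg.Agent.Tits.RGOut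

open CoxeterSystem Cfsg.Agent.ChevalleyStructure.CoxeterGeom Cfsg.Agent.Tits.Roots
open Cfsg.Agent.Tits.C3Roots Cfsg.Agent.Tits.Core Cfsg.Agent.Tits.Core.Bldg Cfsg.Agent.Tits.OppRes
open Cfsg.Agent.Tits.MouDefs Cfsg.Agent.Tits.RGSys Cfsg.Agent.Tits.MouRG Cfsg.Agent.Tits.MouA2
open Cfsg.Agent.Tits.MouOut Cfsg.Agent.Tits.MouAll
open Cfsg.Agent.Tits.RootComb (Diag)
open Cfsg.Agent.Tits.MouDefs (rt)
open Cfsg.Agent.TitsThree.Tree
open scoped commutatorElement

variable {I W : Type*} [Fintype I] [DecidableEq I] [Group W] {M : CoxeterMatrix I}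
  {cs : CoxeterSystem M W} {C : Type*}

/-- The root groups as subgroups of `G'`. -/
def RX (Δ : Bldg cs C) (σ : W → C) (R : Set W) : Subgroup ↥(Gg cs (UU Δ σ)) :=
  (UU Δ σ R).subgroupOf (Gg cs (UU Δ σ))

variable {Δ : Bldg cs C} {σ : W → C}

/-- The inclusion of `G'` in the symmetric group. -/
def inc (Δ : Bldg cs C) (σ : W → C) : ↥(Gg cs (UU Δ σ)) →* Equiv.Perm C :=
  (Aut Δ).subtype.comp (Gg cs (UU Δ σ)).subtype

theorem inc_injective : Function.Injective (inc Δ σ) := fun a b hab =>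
  Subtype.ext (Subtype.ext hab)

theorem mem_RX {R : Set W} {g : ↥(Gg cs (UU Δ σ))} :
    g ∈ RX Δ σ R ↔ ((g : Aut Δ) : Equiv.Perm C) ∈ MouDefs.U Δ σ R := Iff.rfl

theorem mem_RX' {R : Set W} {g : ↥(Gg cs (UU Δ σ))} :
    g ∈ RX Δ σ R ↔ (g : Aut Δ) ∈ UU Δ σ R := Iff.rfl

section Out

variable [Finite W] [Finite C] (hM : Lab234 M) (hD : Diag M) (hth : Δ.Thick) (hσ : Chart Δ σ)

include hM hD hth hσ

/-- The root groups in `G'` form a system of root groups. -/
theorem rgG {A : I → I → ℤ} (h : IsCartan M A) :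
    RG cs h (fun x => RX Δ σ (Rt cs h x)) (fun v => (stab σ v).comap (inc Δ σ)) := by
  have hsys := MouAll.sys hM hD hth hσ
  have h1 := rg h hth (MouAll.ext hM hth) (CombInst.comb cs hD) hσ
    (commRel hM hth (MouAll.ext hM hth) (CombInst.comb cs hD) hσ)
  refine MouRG.comap h1 (inc Δ σ) inc_injective ?_
  rintro x ⟨w, i, rfl⟩ g hg
  rw [U_Rt] at hg
  exact ⟨⟨⟨g, hg.1⟩, hsys.rt_le w i hg⟩, rfl⟩

theorem RX_Rt {A : I → I → ℤ} (h : IsCartan M A) (w : W) (i : I) :
    RX Δ σ (Rt cs h (rep cs h w (sr i))) = RX Δ σ (rt cs w i) := by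
  rw [← C3Roots.rt_eq]
  rfl

theorem RX_sr {A : I → I → ℤ} (h : IsCartan M A) (i : I) :
    RX Δ σ (Rt cs h (sr i)) = RX Δ σ (rt cs 1 i) := by
  rw [← RX_Rt hM hD hth hσ h, map_one, Module.End.one_apply]

theorem RX_neg_sr {A : I → I → ℤ} (h : IsCartan M A) (i : I) :
    RX Δ σ (Rt cs h (-sr i)) = RX Δ σ (rt cs (cs.simple i) i) := by
  rw [← RX_Rt hM hD hth hσ h, rep_simple_sr]

theorem exists_cartan' : ∃ A : I → I → ℤ, IsCartan M A :=
  exists_cartan M fun i j hij => by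
    rcases hM i j hij with h | h | h
    · exact Or.inl h
    · exact Or.inr (Or.inl h)
    · exact Or.inr (Or.inr (Or.inl h))

/-- (I2) -/
theorem edgeA2 {i j : I} (hij : M i j = 3) :
    EdgeA2 (RX Δ σ (rt cs 1 i) : Set ↥(Gg cs (UU Δ σ))) (RX Δ σ (rt cs (cs.simple i) i))
      (RX Δ σ (rt cs 1 j)) (RX Δ σ (rt cs (cs.simple j) j)) := by
  obtain ⟨A, h⟩ := exists_cartan' hM hD hth hσ
  have hX := rgG hM hD hth hσ h
  obtain ⟨F, i1, i2, x, hx, hp⟩ :=
    TitsThree.A2Field.exists_field (graded hij hX) (rgd hij hX)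
  have hran : ∀ a b : Fin 3, a ≠ b →
      Set.range (x a b) = (X3 (fun x => RX Δ σ (Rt cs h x)) i j a b : Set ↥(Gg cs (UU Δ σ))) := by
    intro a b hab
    ext y
    constructor
    · rintro ⟨t, rfl⟩
      exact (hp a b hab).1 t
    · intro hy
      obtain ⟨t, ht, -⟩ := (hp a b hab).2 y hy
      exact ⟨t, ht⟩
  refine ⟨F, i1, inferInstance, x, hx, ?_, ?_, ?_, ?_, ?_⟩
  · intro a b hab s t hst
    exact ((hp a b hab).2 (x a b t) ((hp a b hab).1 t)).unique hst rfl
  · rw [hran 0 1 (by decide), X3, p01, RX_sr hM hD hth hσ]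
  · rw [hran 1 0 (by decide), X3, p10, RX_neg_sr hM hD hth hσ]
  · rw [hran 1 2 (by decide), X3, p12, RX_sr hM hD hth hσ]
  · rw [hran 2 1 (by decide), X3, p21, RX_neg_sr hM hD hth hσ]

omit hM hD hth hσ in
/-- (I4): label 2, general form. -/
theorem comm_vec {Y : Type*} [Group Y] {A : I → I → ℤ} {h : IsCartan M A} {X : (I → ℤ) → Subgroup Y}
    {St : W → Subgroup Y} (hX : RG cs h X St) {i j : I} (hij : M i j = 2) (w : W) {a b : Y}
    (ha : a ∈ X (rep cs h w (sr i))) (hb : b ∈ X (rep cs h w (sr j))) : a * b = b * a := by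
  have hne : i ≠ j := by
    rintro rfl
    rw [M.diagonal] at hij
    omega
  have hA := h.rel i j hne
  rw [hij] at hA
  have hA' : A i j = 0 := by
    rcases hA with h1 | h1 | h1 | h1
    · exact h1.2.1
    all_goals omega
  refine hX.adj w i j hne a ha b ?_
  rw [rep_mul_apply, rep_simple_eq, pairing_sr, hA', zero_smul, sub_zero]
  exact hb

/-- The four commutations of two nodes with label 2. -/
theorem comm_two {i j : I} (hij : M i j = 2) {w w' : W} (hw : w = 1 ∨ w = cs.simple i)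
    (hw' : w' = 1 ∨ w' = cs.simple j) {a b : ↥(Gg cs (UU Δ σ))}
    (ha : a ∈ RX Δ σ (rt cs w i)) (hb : b ∈ RX Δ σ (rt cs w' j)) : a * b = b * a := by
  obtain ⟨A, h⟩ := exists_cartan' hM hD hth hσ
  have hX := rgG hM hD hth hσ h
  have hne : i ≠ j := by
    rintro rfl
    rw [M.diagonal] at hij
    omega
  have hA := h.rel i j hne
  rw [hij] at hA
  have hA' : A i j = 0 ∧ A j i = 0 := by
    rcases hA with h1 | h1 | h1 | h1
    · exact h1.2
    all_goals omega
  have r1 : rep cs h (cs.simple i) (sr j) = sr j := by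
    rw [rep_simple_eq, pairing_sr, hA'.1, zero_smul, sub_zero]
  have r2 : rep cs h (cs.simple j) (sr i) = sr i := by
    rw [rep_simple_eq, pairing_sr, hA'.2, zero_smul, sub_zero]
  rw [← RX_Rt hM hD hth hσ h] at ha hb
  have key : rep cs h (w * w') (sr i) = rep cs h w (sr i) ∧
      rep cs h (w * w') (sr j) = rep cs h w' (sr j) := by
    rcases hw with rfl | rfl <;> rcases hw' with rfl | rfl
    · simp
    · rw [one_mul, r2, map_one]; simp
    · rw [mul_one, r1, map_one]; simp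
    · rw [rep_mul_apply, rep_mul_apply, r2, rep_simple_sr, rep_simple_sr, map_neg, r1]
      exact ⟨rfl, rfl⟩
  refine comm_vec hX hij (w * w') ?_ ?_
  · rw [key.1]; exact ha
  · rw [key.2]; exact hb

end Out

end Cfsg.Agent.Tits.RGOut
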