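import Mathlib
import Cfsg.Agent.Tits.RGC3
import Cfsg.Agent.Tits.RGOut
import Cfsg.Agent.TitsThree.C3Out
import Cfsg.Agent.TitsThree.C3B2
import Cfsg.Agent.TitsThree.GCNTransport
/-!
S1143, (G2)(c): a triple of nodes `n 0 - n 1 = n 2` of type `C₃` in a system of root groups: the double bond
`n 1 = n 2` is helper284's `Bond` over one of the five standard data (`bond_std`).
-/

set_option autoImplicit false
set_option linter.unusedSectionVars false

namespace Cfsg.Agent.Tits.RGBond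

open CoxeterSystem Cfsg.Agent.ChevalleyStructure.CoxeterGeom Cfsg.Agent.Tits.Roots
open Cfsg.Agent.Tits.C3Roots Cfsg.Agent.Tits.RGSys Cfsg.Agent.Tits.RGC3
open Cfsg.Agent.TitsThree Cfsg.Agent.TitsThree.B2Pkg Cfsg.Agent.TitsThree.GSideMou
open Cfsg.Agent.TitsThree.StdData
open scoped commutatorElement

variable {I W : Type*} [Fintype I] [DecidableEq I] [Group W] {M : CoxeterMatrix I}
  {cs : CoxeterSystem M W} {A : I → I → ℤ} {h : IsCartan M A} {Y : Type*} [Group Y]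
  {n : Fin 3 → I} (hn : Tri A n) {X : (I → ℤ) → Subgroup Y} {St : W → Subgroup Y}
  (hX : RG cs h X St) (h01 : M (n 0) (n 1) = 3) (h12 : M (n 1) (n 2) = 4) (h02 : M (n 0) (n 2) = 2)

/-- From the B2 package with the right ranges to `Bond`. -/
theorem bond_of_b2 {F : Type*} [Field F] {V : Type*} [AddCommGroup V] [Module F V]
    {D : PQDatum F V} {x : Fin 3 → Fin 3 → F → Y}
    (hx : C3Grp.Crd (grp hn hX h01 h12 h02) x) (m : B2Maps D Y) (hm : B2Rel m)
    (ex : m.x = x 1 2) (ex' : m.x' = x 2 1)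
    (r3 : Set.range m.z₂ = ((grp hn hX h01 h12 h02).Z (2, true) : Set Y))
    (r4 : Set.range m.z₂' = ((grp hn hX h01 h12 h02).Z (2, false) : Set Y))
    (hy : ∀ b, m.y b ∈ (grp hn hX h01 h12 h02).X (1, true) (2, true)) :
    Bond D (X (sr (n 1)) : Set Y) (X (-sr (n 1))) (X (sr (n 2))) (X (-sr (n 2))) (St 1) := by
  have h12' : (1 : Fin 3) ≠ 2 := by decide
  have h21' : (2 : Fin 3) ≠ 1 := by decide
  refine ⟨m, hm, ?_, ?_, ?_, ?_, ?_, fun b => X12_le hn hX h01 h12 h02 (hy b)⟩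
  · rw [ex, ex']
    exact GlueA.sl2Par hx.stein (fun a b hab => hx.inj a b hab) h12'
  · rw [ex]
    ext g
    constructor
    · rintro ⟨t, rfl⟩
      have := hx.mem 1 2 h12' t
      rwa [grp_X, b_sr1] at this
    · intro hg
      refine hx.surj 1 2 h12' g ?_
      rw [grp_X, b_sr1]
      exact hg
  · rw [ex']
    ext g
    constructor
    · rintro ⟨t, rfl⟩
      have := hx.mem 2 1 h21' t
      rwa [grp_X, b_nsr1] at this
    · intro hg
      refine hx.surj 2 1 h21' g ?_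
      rw [grp_X, b_nsr1]
      exact hg
  · rw [r3, grp_Z, b_sr2]
  · rw [r4, grp_Z, b_nsr2]

/-- The final disjunction over the standard data. -/
def StdBond {Y : Type*} [Group Y] (a b c d e : Set Y) : Prop :=
  ∃ (F : Type) (_ : Field F) (_ : Finite F), Bond (stdSp F) a b c d e ∨
    ((2 : F) ≠ 0 ∧ Bond (stdO1 F) a b c d e) ∨ (∃ x y hxy, Bond (stdO2 F x y hxy) a b c d e) ∨
    (∃ τ hτ, (∃ x, τ x ≠ x) ∧ Bond (stdU0 F τ hτ) a b c d e) ∨
    (∃ τ hτ, (∃ x, τ x ≠ x) ∧ Bond (stdU1 F τ hτ) a b c d e)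

include hn hX h01 h12 h02 in
/-- **(G2)(c)** -/
theorem bond_std [Finite Y] : StdBond (X (sr (n 1)) : Set Y) (X (-sr (n 1))) (X (sr (n 2)))
    (X (-sr (n 2))) (St 1) := by
  obtain ⟨F, i1, i2, x, hx⟩ := exists_crd hn hX h01 h12 h02
  obtain ⟨P, M, hE, hrE, hiE, hrZ, hiZ, -, hne⟩ := C3Out.exists_sgn hx
  have hB : ∃ m : B2Maps P.datum Y, B2Rel m ∧ m.x = M.E (1, true) (2, true) ∧
      m.x' = M.E (2, true) (1, true) ∧ Set.range m.z₂ = Set.range (M.Z (2, true)) ∧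
      Set.range m.z₂' = Set.range (M.Z (2, false)) ∧
      ∀ b, m.y b ∈ Set.range (M.E (1, true) (2, false)) :=
    ⟨C3B2.maps M 1 2, C3B2.b2Rel M (by decide), rfl, rfl, C3B2.range_z₂ M 1 2, C3B2.range_z₂' M 1 2,
      fun b => ⟨b, rfl⟩⟩
  obtain ⟨m, hm, ex, ex', r3, r4, hy⟩ := hB
  have hbond := bond_of_b2 hn hX h01 h12 h02 hx m hm (by rw [ex]; exact funext (hE 1 2 (by decide)))
    (by rw [ex']; exact funext (hE 2 1 (by decide))) (by rw [r3, hrZ]) (by rw [r4, hrZ])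
    (fun b => by
      have := hy b
      rw [hrE (1, true) (2, false) (by decide)] at this
      exact this)
  have : Finite P.V := by
    have : Function.Surjective (P.cl) := fun v => P.cl_surj v
    exact Finite.of_surjective _ this
  have : Finite F := Finite.of_fintype F
  have h0 : ∀ c, P.datum.ok 0 c → ∃ m, c = m - P.datum.ε * P.datum.σ m := fun c hc =>
    P.datum_ok_zero hc
  have hs : ∀ w, ∃ c, P.datum.ok w c := P.datum_surj
  have hne' : ∃ w c, P.datum.ok w c ∧ c ≠ 0 := by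
    obtain ⟨p, hp⟩ := hne
    exact ⟨_, _, (P.equiv p).ok, by rw [P.equiv_c]; exact hp⟩
  rcases GCNTransport.bond_std h0 hs hne' hbond with h | h | h | ⟨h1, h2⟩ | ⟨h1, h2⟩
  · exact ⟨F, i1, inferInstance, Or.inl h⟩
  · exact ⟨F, i1, inferInstance, Or.inr (Or.inl h)⟩
  · exact ⟨F, i1, inferInstance, Or.inr (Or.inr (Or.inl h))⟩
  · exact ⟨F, i1, inferInstance, Or.inr (Or.inr (Or.inr (Or.inl ⟨_, _, h1, h2⟩)))⟩
  · exact ⟨F, i1, inferInstance, Or.inr (Or.inr (Or.inr (Or.inr ⟨_, _, h1, h2⟩)))⟩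

/-! ### In the group `G'` of an apartment -/

section Out

open Cfsg.Agent.Tits.Core Cfsg.Agent.Tits.Core.Bldg Cfsg.Agent.Tits.MouOut Cfsg.Agent.Tits.MouAll
open Cfsg.Agent.Tits.RGOut Cfsg.Agent.Tits.MouRG
open Cfsg.Agent.Tits.MouDefs (rt Aut Chart)
open Cfsg.Agent.Tits.RootComb (Diag)

variable {C : Type*} {Δ : Bldg cs C} {σ : W → C} [Finite W] [Finite C] (hM : Lab234 M) (hD : Diag M)
  (hth : Δ.Thick) (hσ : Chart Δ σ)

include hM hD hth hσ

/-- **(G2)(c)** for three nodes `i - j = k` of a building of rank at least three. -/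
theorem stdBond {i j k : I} (hij : M i j = 3) (hjk : M j k = 4) (hik : M i k = 2) :
    StdBond (RX Δ σ (rt cs 1 j) : Set ↥(Gg cs (UU Δ σ))) (RX Δ σ (rt cs (cs.simple j) j))
      (RX Δ σ (rt cs 1 k)) (RX Δ σ (rt cs (cs.simple k) k)) {g | g • σ 1 = σ 1} := by
  have hcart := exists_cartan' hM hD hth hσ
  obtain ⟨A, h, hn⟩ := exists_tri hcart ![i, j, k] hij hjk hik
  have hX := rgG hM hD hth hσ h
  have := bond_std hn hX hij hjk hik
  have e : ((Subgroup.comap (inc Δ σ) (stab σ 1) : Subgroup _) : Set ↥(Gg cs (UU Δ σ))) =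
      {g | g • σ 1 = σ 1} := rfl
  rw [e] at this
  change StdBond (RX Δ σ (Rt cs h (sr j)) : Set ↥(Gg cs (UU Δ σ))) (RX Δ σ (Rt cs h (-sr j)))
    (RX Δ σ (Rt cs h (sr k))) (RX Δ σ (Rt cs h (-sr k))) _ at this
  rwa [RX_sr hM hD hth hσ, RX_sr hM hD hth hσ, RX_neg_sr hM hD hth hσ,
    RX_neg_sr hM hD hth hσ] at this

end Out

end Cfsg.Agent.Tits.RGBond
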