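import Cfsg.Agent.Tits.OfBN
import Cfsg.Agent.Tits.Exchange
import Cfsg.Agent.LieRecognition.CoxForm
import Cfsg.Agent.SignalizersComponents.DihedralIso
import Cfsg.Agent.S0320
import Cfsg.Agent.S1142

/-!
The labels of the Weyl group of a finite (B,N)-pair: `M i j ∈ {2,3,4,6,8}` for `i ≠ j`
(Feit–Higman, S1142, applied to the parabolic subgroups of rank two).
-/

set_option autoImplicit false
set_option maxHeartbeats 400000

namespace Cfsg.Agent.Tits.Labels

open Cfsg Cfsg.Agent.LieExceptional.BNPairCore Cfsg.Agent.Tits.Core Cfsg.Agent.Tits.OfBN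

/-- `W_{ij}` is dihedral of order `2 M i j`. -/
theorem card_WJ_pair {I : Type*} {M : CoxeterMatrix I} {W : Type*} [Group W]
    (cs : CoxeterSystem M W) [Finite I] [Finite W] (i j : I) :
    Nat.card (WJ cs {i, j}) = 2 * M i j := by
  classical
  have := Fintype.ofFinite I
  have ha : cs.simple i * cs.simple i = 1 := cs.simple_mul_simple_self i
  have hax : cs.simple i * (cs.simple i * cs.simple j) * (cs.simple i)⁻¹ =
      (cs.simple i * cs.simple j)⁻¹ := by
    rw [mul_inv_rev, cs.inv_simple, cs.inv_simple, cs.simple_mul_simple_cancel_left]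
  have hn : cs.simple i ∉ Subgroup.zpowers (cs.simple i * cs.simple j) := by
    intro h
    obtain ⟨k, hk⟩ := Subgroup.mem_zpowers_iff.1 h
    have h1 := congrArg cs.lengthParity hk
    rw [map_zpow, map_mul, cs.lengthParity_simple, cs.lengthParity_simple] at h1
    have h2 : (Multiplicative.ofAdd (1 : ZMod 2)) * Multiplicative.ofAdd (1 : ZMod 2) = 1 := by
      decide
    rw [h2, one_zpow] at h1
    exact absurd h1 (by decide)
  obtain ⟨f⟩ := SignalizersComponents.DihedralIso.nonempty_mulEquiv_of_notMem _ _ ha hax hn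
  have h1 : Subgroup.zpowers (cs.simple i) ⊔ Subgroup.zpowers (cs.simple i * cs.simple j) =
      WJ cs {i, j} := by
    apply le_antisymm
    · apply sup_le <;> rw [Subgroup.zpowers_le]
      · exact Exchange.simple_mem_WJ cs (by simp)
      · exact mul_mem (Exchange.simple_mem_WJ cs (by simp)) (Exchange.simple_mem_WJ cs (by simp))
    · unfold WJ
      rw [Subgroup.closure_le]
      rintro _ ⟨k, hk | hk, rfl⟩
      · rw [hk]
        exact (le_sup_left : Subgroup.zpowers (cs.simple i) ≤ _) (Subgroup.mem_zpowers _)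
      · rw [Set.mem_singleton_iff] at hk
        rw [hk]
        have h3 : cs.simple i ∈
            Subgroup.zpowers (cs.simple i) ⊔ Subgroup.zpowers (cs.simple i * cs.simple j) :=
          (le_sup_left : Subgroup.zpowers (cs.simple i) ≤ _) (Subgroup.mem_zpowers _)
        have h4 : cs.simple i * cs.simple j ∈
            Subgroup.zpowers (cs.simple i) ⊔ Subgroup.zpowers (cs.simple i * cs.simple j) :=
          (le_sup_right : Subgroup.zpowers (cs.simple i * cs.simple j) ≤ _)
            (Subgroup.mem_zpowers _)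
        have h2 := mul_mem h3 h4
        rwa [cs.simple_mul_simple_cancel_left] at h2
  have h5 := (Nat.card_congr f.toEquiv).trans DihedralGroup.nat_card
  rw [h1] at h5
  rw [h5, LieRecognition.CoxForm.orderOf_eq cs]

variable {G : Type*} [Group G] (P : Cfsg.BNPair G)

/-- The subgroup `N_J` generated by `J` and `B ⊓ N`. -/
def NJ (J : Set G) : Subgroup G := Subgroup.closure J ⊔ (P.B ⊓ P.N)

variable {P} {J : Set G}

theorem NJ_le_N (hJ : J ⊆ P.S) : NJ P J ≤ P.N :=
  sup_le ((Subgroup.closure_le _).2 fun _ hs => P.subset (hJ hs)) inf_le_right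

theorem NJ_le_parabolic : NJ P J ≤ P.parabolic J :=
  sup_le le_sup_right (inf_le_left.trans le_sup_left)

theorem B_inf_NJ (hJ : J ⊆ P.S) : P.B ⊓ NJ P J = P.B ⊓ P.N :=
  le_antisymm (inf_le_inf_left _ (NJ_le_N hJ)) (le_inf inf_le_left le_sup_right)

theorem mem_parabolic_of_mem {s : G} (hs : s ∈ J) : s ∈ P.parabolic J :=
  (le_sup_right : Subgroup.closure J ≤ _) (Subgroup.subset_closure hs)

theorem B_le_parabolic : P.B ≤ P.parabolic J := le_sup_left

theorem mem_NJ_of_mem {s : G} (hs : s ∈ J) : s ∈ NJ P J :=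
  (le_sup_left : Subgroup.closure J ≤ _) (Subgroup.subset_closure hs)

variable (P) in
/-- The (B,N)-pair of a parabolic subgroup. -/
def parBN (J : Set G) (hJ : J ⊆ P.S) : Cfsg.BNPair ↥(P.parabolic J) where
  B := P.B.subgroupOf _
  N := (NJ P J).subgroupOf _
  S := {s | (s : G) ∈ J}
  sup_eq_top := by
    rw [← Subgroup.subgroupOf_sup B_le_parabolic NJ_le_parabolic, Subgroup.subgroupOf_eq_top]
    exact sup_le le_sup_left (le_sup_left.trans le_sup_right)
  conj_mem := by
    intro n hn t ht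
    rw [Subgroup.mem_subgroupOf] at hn ⊢
    have h1 : (t : G) ∈ P.B ⊓ NJ P J := ht
    rw [B_inf_NJ hJ] at h1
    exact P.conj_mem n (NJ_le_N hJ hn) t h1
  subset := fun s hs => mem_NJ_of_mem hs
  sq_mem := fun s hs => P.sq_mem s (hJ hs)
  inj := fun s hs s' hs' h => Subtype.ext (P.inj s (hJ hs) s' (hJ hs') h)
  closure_sup := by
    have h1 : Subgroup.closure {s : ↥(P.parabolic J) | (s : G) ∈ J} =
        (Subgroup.closure J).subgroupOf (P.parabolic J) := by
      apply Subgroup.map_injective (P.parabolic J).subtype_injective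
      have h3 : Subgroup.closure J ⊓ P.parabolic J = Subgroup.closure J :=
        inf_eq_left.2 le_sup_right
      rw [MonoidHom.map_closure, Subgroup.subgroupOf_map_subtype, h3]
      congr 1
      ext s
      constructor
      · rintro ⟨t, ht, rfl⟩
        exact ht
      · intro hs
        exact ⟨⟨s, mem_parabolic_of_mem hs⟩, hs, rfl⟩
    have h2 : P.B.subgroupOf (P.parabolic J) ⊓ (NJ P J).subgroupOf (P.parabolic J) =
        (P.B ⊓ P.N).subgroupOf (P.parabolic J) := by
      rw [← B_inf_NJ hJ]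
      rfl
    have h4 : Subgroup.closure J ≤ P.parabolic J := le_sup_right
    have h5 : P.B ⊓ P.N ≤ P.parabolic J := inf_le_left.trans le_sup_left
    rw [h1, h2, ← Subgroup.subgroupOf_sup h4 h5]
    rfl
  mul_mem_union := by
    intro s hs n hn b hb
    rcases P.mul_mem_union s (hJ hs) n (NJ_le_N hJ hn) b hb with h | h
    · left
      obtain ⟨x, hx, y, hy, h1⟩ := DoubleCoset.mem_doubleCoset.1 h
      exact DoubleCoset.mem_doubleCoset.2 ⟨⟨x, B_le_parabolic hx⟩, hx, ⟨y, B_le_parabolic hy⟩, hy,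
        Subtype.ext h1⟩
    · right
      obtain ⟨x, hx, y, hy, h1⟩ := DoubleCoset.mem_doubleCoset.1 h
      exact DoubleCoset.mem_doubleCoset.2 ⟨⟨x, B_le_parabolic hx⟩, hx, ⟨y, B_le_parabolic hy⟩, hy,
        Subtype.ext h1⟩
  conj_ne := by
    intro s hs h
    apply P.conj_ne s (hJ hs)
    ext g
    constructor
    · rintro ⟨b, hb, rfl⟩
      have h1 : s * (⟨b, B_le_parabolic hb⟩ : ↥(P.parabolic J)) * s ∈
          (P.B.subgroupOf (P.parabolic J) : Set ↥(P.parabolic J)) := by
        rw [← h]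
        exact ⟨⟨b, B_le_parabolic hb⟩, hb, rfl⟩
      exact h1
    · intro hg
      have h1 : (⟨g, B_le_parabolic hg⟩ : ↥(P.parabolic J)) ∈
          (P.B.subgroupOf (P.parabolic J) : Set ↥(P.parabolic J)) := hg
      rw [← h] at h1
      obtain ⟨b, hb, h2⟩ := h1
      exact ⟨b, hb, congrArg Subtype.val h2⟩

theorem rank_parBN (hJ : J ⊆ P.S) : (parBN P J hJ).rank = J.ncard := by
  unfold BNPair.rank
  rw [← Nat.card_coe_set_eq]
  exact Nat.card_congr
    { toFun := fun s => ⟨(s : ↥(P.parabolic J)), s.2⟩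
      invFun := fun s => ⟨⟨s, mem_parabolic_of_mem s.2⟩, s.2⟩
      left_inv := fun _ => rfl
      right_inv := fun _ => rfl }

section

variable [hN : ((P.B ⊓ P.N).subgroupOf P.N).Normal]
variable {I : Type*} {M : CoxeterMatrix I} {e : I ≃ P.S} (cs : CoxeterSystem M (WP P))
  (hcs : ∀ i, cs.simple i = QuotientGroup.mk (⟨(e i : G), P.subset (e i).2⟩ : P.N))

include hcs

/-- The Weyl group of `P_J` is `W_J`. -/
theorem index_parBN (K : Set I) (hJ : (fun i => (e i : G)) '' K ⊆ P.S) :
    (((parBN P _ hJ).B ⊓ (parBN P _ hJ).N).subgroupOf (parBN P _ hJ).N).index =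
      Nat.card (WJ cs K) := by
  set J : Set G := (fun i => (e i : G)) '' K with hJdef
  let f : ↥(parBN P J hJ).N →* WP P :=
    (QuotientGroup.mk' ((P.B ⊓ P.N).subgroupOf P.N)).comp
      { toFun := fun n => ⟨(n : ↥(P.parabolic J)), NJ_le_N hJ n.2⟩
        map_one' := rfl
        map_mul' := fun _ _ => rfl }
  have hf : ∀ n : ↥(parBN P J hJ).N, f n =
      QuotientGroup.mk (⟨((n : ↥(P.parabolic J)) : G), NJ_le_N hJ n.2⟩ : P.N) := fun n => rfl
  have hker : f.ker = ((parBN P J hJ).B ⊓ (parBN P J hJ).N).subgroupOf (parBN P J hJ).N := by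
    ext n
    rw [MonoidHom.mem_ker, hf, QuotientGroup.eq_one_iff, Subgroup.mem_subgroupOf,
      Subgroup.mem_subgroupOf]
    constructor
    · intro h
      exact ⟨h.1, n.2⟩
    · intro h
      exact ⟨h.1, NJ_le_N hJ n.2⟩
  have hrange : f.range = WJ cs K := by
    apply le_antisymm
    · rintro _ ⟨n, rfl⟩
      rw [hf]
      have h1 : ((n : ↥(P.parabolic J)) : G) ∈ NJ P J := n.2
      obtain ⟨l, hl, hrel⟩ := exists_word_of_mem (P := P) hJ h1
      have h2 : (QuotientGroup.mk (⟨((n : ↥(P.parabolic J)) : G), NJ_le_N hJ n.2⟩ : P.N) : WP P) =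
          QuotientGroup.mk (⟨l.prod, prod_mem_N fun s hs => hJ (hl s hs)⟩ : P.N) := by
        rw [eq_comm, mk_eq_iff]
        exact hrel
      rw [h2]
      clear hrel h2
      induction l with
      | nil => exact one_mem _
      | cons s l ih =>
        have h3 := ih fun x hx => hl x (by simp [hx])
        obtain ⟨i, hi, hs⟩ := hl s (by simp)
        have h4 : (⟨(s :: l).prod, prod_mem_N fun t ht => hJ (hl t ht)⟩ : P.N) =
            ⟨(e i : G), P.subset (e i).2⟩ *
              ⟨l.prod, prod_mem_N fun t ht => hJ (hl t (by simp [ht]))⟩ := by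
          apply Subtype.ext
          simp [← hs]
        rw [h4, QuotientGroup.mk_mul, ← hcs]
        exact mul_mem (Exchange.simple_mem_WJ cs hi) h3
    · unfold WJ
      rw [Subgroup.closure_le]
      rintro _ ⟨i, hi, rfl⟩
      have h1 : (e i : G) ∈ J := ⟨i, hi, rfl⟩
      refine ⟨⟨⟨(e i : G), mem_parabolic_of_mem h1⟩, mem_NJ_of_mem h1⟩, ?_⟩
      rw [hf, hcs]
  rw [← hker, Subgroup.index_ker, hrange]

/-- The labels of a finite (B,N)-pair. -/
theorem labels_cs [Finite G] {i j : I} (hij : i ≠ j) :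
    M i j = 2 ∨ M i j = 3 ∨ M i j = 4 ∨ M i j = 6 ∨ M i j = 8 := by
  have hfinI : Finite I := Finite.of_equiv _ e.symm
  have hJ : (fun i => (e i : G)) '' {i, j} ⊆ P.S := by
    rintro _ ⟨k, _, rfl⟩
    exact (e k).2
  have hrank : (parBN P _ hJ).rank = 2 := by
    rw [rank_parBN, Set.image_pair, Set.ncard_pair]
    intro h
    exact hij (e.injective (Subtype.ext h))
  have h1 := S1142.result (parBN P _ hJ) hrank
  rw [index_parBN cs hcs, card_WJ_pair cs] at h1
  simp only [Set.mem_insert_iff, Set.mem_singleton_iff] at h1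
  omega

end

/-- The labels of a finite (B,N)-pair. -/
theorem labels [Finite G] {I : Type*} {M : CoxeterMatrix I} {e : I ≃ P.S} (h : BNType P M e)
    {i j : I} (hij : i ≠ j) : M i j = 2 ∨ M i j = 3 ∨ M i j = 4 ∨ M i j = 6 ∨ M i j = 8 := by
  obtain ⟨hN, cs, hcs⟩ := h
  exact labels_cs cs hcs hij

variable (P) in
/-- Every (B,N)-pair has a type, indexed by `P.S`. -/
theorem exists_bnType : ∃ M : CoxeterMatrix P.S, BNType P M (Equiv.refl P.S) := by
  have hN := normal_subgroupOf P
  obtain ⟨M, cs, hcs⟩ := S0320.result P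
  exact ⟨M, hN, cs, hcs⟩

/-- Reindexing the type. -/
theorem bnType_reindex {I I' : Type*} {M : CoxeterMatrix I} {e : I ≃ P.S} (h : BNType P M e)
    (f : I ≃ I') : BNType P (M.reindex f) (f.symm.trans e) := by
  obtain ⟨hN, cs, hcs⟩ := h
  refine ⟨hN, cs.reindex f, fun i => ?_⟩
  rw [CoxeterSystem.reindex_simple, hcs]
  rfl

end Cfsg.Agent.Tits.Labels
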