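import Cfsg.Agent.Tits.ExtGood

/-!
The apartment given by two opposite chambers; transport of a 2-isometry along a step going away
from the base chamber.
-/

set_option autoImplicit false
set_option linter.unusedSectionVars false

namespace Cfsg.Agent.Tits.Ext

open Cfsg.Agent.Tits.Core Cfsg.Agent.Tits.Core.Bldg Cfsg.Agent.Tits.Exchange

variable {I : Type*} {M : CoxeterMatrix I} {W : Type*} [Group W] {cs : CoxeterSystem M W}
  {C C' : Type*} (Δ : Bldg cs C) (Δ' : Bldg cs C')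

local prefix:100 "ℓ" => cs.length

section Apt

variable [Finite W] [Finite I]

open Classical in
/-- The chamber at distance `w` from `c` in the apartment through the opposite chambers `c, d`. -/
noncomputable def apt (c d : C) (w : W) : C :=
  if h : ∃ a, Δ.δ c a = w ∧ Δ.δ a d = w⁻¹ * w0 cs then h.choose else c

variable {c d : C} (hcd : Δ.Opp c d)

theorem length_inv_mul_w0 (w : W) : ℓ (w⁻¹ * w0 cs) + ℓ w = ℓ (w0 cs) := by
  rw [← cs.length_inv w]
  exact length_mul_w0 cs w⁻¹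

include hcd

theorem apt_spec (w : W) : Δ.δ c (apt Δ c d w) = w ∧ Δ.δ (apt Δ c d w) d = w⁻¹ * w0 cs := by
  have hex : ∃ a, Δ.δ c a = w ∧ Δ.δ a d = w⁻¹ * w0 cs := by
    apply Δ.exists_between
    · rw [mul_inv_cancel_left]; exact hcd
    · rw [mul_inv_cancel_left]
      have := length_inv_mul_w0 (cs := cs) w
      omega
  unfold apt
  rw [dif_pos hex]
  exact hex.choose_spec

theorem δ_apt (w : W) : Δ.δ c (apt Δ c d w) = w := (apt_spec Δ hcd w).1

theorem apt_unique {a : C} {w : W} (h1 : Δ.δ c a = w) (h2 : Δ.δ a d = w⁻¹ * w0 cs) :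
    a = apt Δ c d w := by
  obtain ⟨h3, h4⟩ := apt_spec Δ hcd w
  refine Δ.between_unique ?_ h1 h2 h3 h4
  rw [mul_inv_cancel_left]
  have := length_inv_mul_w0 (cs := cs) w
  omega

theorem apt_one : apt Δ c d 1 = c := by
  symm
  apply apt_unique Δ hcd (Δ.δ_self c)
  rw [inv_one, one_mul]
  exact hcd

theorem apt_w0 : apt Δ c d (w0 cs) = d := by
  symm
  apply apt_unique Δ hcd hcd
  rw [Δ.δ_self, inv_mul_cancel]

theorem apt_step_up {w : W} {i : I} (hl : ℓ w < ℓ (w * cs.simple i)) :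
    Δ.δ (apt Δ c d w) (apt Δ c d (w * cs.simple i)) = cs.simple i := by
  obtain ⟨h1, h2⟩ := apt_spec Δ hcd (w * cs.simple i)
  have hl' : ℓ (w * cs.simple i) = ℓ w + 1 := by
    rcases cs.length_mul_simple w i with h | h <;> omega
  obtain ⟨y, hy, hy'⟩ := Δ.exists_between h1 (by rw [cs.length_simple, hl'])
  have e : cs.simple i * ((w * cs.simple i)⁻¹ * w0 cs) = w⁻¹ * w0 cs := by
    rw [mul_inv_rev, cs.inv_simple, mul_assoc, cs.simple_mul_simple_cancel_left]
  have h3 : Δ.δ y d = w⁻¹ * w0 cs := by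
    rw [← e]
    apply Δ.δ_mul_of hy' h2
    rw [e, cs.length_simple]
    have l1 := length_inv_mul_w0 (cs := cs) w
    have l2 := length_inv_mul_w0 (cs := cs) (w * cs.simple i)
    omega
  rw [← apt_unique Δ hcd hy h3]
  exact hy'

theorem apt_step (w : W) (i : I) :
    Δ.δ (apt Δ c d w) (apt Δ c d (w * cs.simple i)) = cs.simple i := by
  rcases lt_or_gt_of_ne (cs.length_mul_simple_ne w i) with h | h
  · have h1 := apt_step_up Δ hcd (w := w * cs.simple i) (i := i) (by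
      rwa [cs.simple_mul_simple_cancel_right])
    rw [cs.simple_mul_simple_cancel_right] at h1
    exact Δ.δ_symm_simple h1
  · exact apt_step_up Δ hcd h

theorem apt_δ_mul (w t : W) : Δ.δ (apt Δ c d w) (apt Δ c d (w * t)) = t := by
  generalize hn : ℓ t = n
  induction n generalizing t with
  | zero =>
    rw [cs.length_eq_zero_iff] at hn
    rw [hn, mul_one, Δ.δ_self]
  | succ n ih =>
    have hne : t ≠ 1 := fun h1 => by rw [h1, cs.length_one] at hn; omega
    obtain ⟨i, hi⟩ := cs.exists_rightDescent_of_ne_one hne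
    rw [cs.isRightDescent_iff] at hi
    have h1 := ih (t * cs.simple i) (by omega)
    have h2 := apt_step Δ hcd (w * (t * cs.simple i)) i
    rw [mul_assoc, cs.simple_mul_simple_cancel_right] at h2
    rw [Δ.step_lt _ _ _ i h2 (by rw [h1, cs.simple_mul_simple_cancel_right]; omega), h1,
      cs.simple_mul_simple_cancel_right]

/-- Distances in the apartment. -/
theorem apt_δ (w v : W) : Δ.δ (apt Δ c d w) (apt Δ c d v) = w⁻¹ * v := by
  have := apt_δ_mul Δ hcd w (w⁻¹ * v)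
  rwa [mul_inv_cancel_left] at this

theorem opp_apt (z : C) : Δ.Opp z (apt Δ c d (Δ.δ c z * w0 cs)) := by
  have h1 := δ_apt Δ hcd (Δ.δ c z * w0 cs)
  have h2 := Δ.δ_mul_of (Δ.symm c z) h1
  rw [inv_mul_cancel_left] at h2
  apply h2
  rw [cs.length_inv]
  have := length_mul_w0 cs (Δ.δ c z)
  omega

theorem δ_apt_near {x : C} {w : W} (hx : Δ.δ c x = w) {i : I} (hl : ℓ w < ℓ (w * cs.simple i)) :
    Δ.δ x (apt Δ c d (w * cs.simple i * w0 cs)) = cs.simple i * w0 cs := by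
  have hl' : ℓ (w * cs.simple i) = ℓ w + 1 := by
    rcases cs.length_mul_simple w i with h | h <;> omega
  have h1 := δ_apt Δ hcd (w * cs.simple i * w0 cs)
  have h0 : Δ.δ x c = w⁻¹ := by rw [Δ.symm c x, hx]
  have e : w⁻¹ * (w * cs.simple i * w0 cs) = cs.simple i * w0 cs := by group
  have h2 := Δ.δ_mul_of h0 h1
  rw [e] at h2
  apply h2
  have l1 := length_mul_w0 cs (w * cs.simple i)
  have l2 := length_mul_w0 cs (cs.simple i)
  rw [cs.length_simple] at l2
  rw [cs.length_inv]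
  omega

theorem proj_apt_left {x : C} {w : W} (hx : Δ.δ c x = w) {i : I}
    (hl : ℓ w < ℓ (w * cs.simple i)) :
    Δ.proj {i} x (apt Δ c d (w * cs.simple i * w0 cs)) = x := by
  apply Δ.proj_eq_of_isProj
  apply Δ.isProj_of_isMinR (Δ.self_mem_Res _ x)
  rw [isMinR_iff]
  rintro j rfl
  have h1 : Δ.δ (apt Δ c d (w * cs.simple j * w0 cs)) x = w0 cs * cs.simple j := by
    rw [Δ.symm x, δ_apt_near Δ hcd hx hl, mul_inv_rev, cs.inv_simple, w0_inv]
  rw [h1, cs.simple_mul_simple_cancel_right]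
  have l2 := length_w0_mul cs (cs.simple j)
  rw [cs.length_simple] at l2
  omega

theorem apt_mem_opp_panel (w : W) (i : I) :
    apt Δ c d (w * cs.simple i * w0 cs) ∈ Δ.Pan (op cs i) (apt Δ c d (w * w0 cs)) := by
  apply Δ.mem_Pan_of_δ
  rw [apt_δ Δ hcd, simple_op, mul_inv_rev, w0_inv]
  group

theorem proj_apt_right {x : C} {w : W} (hx : Δ.δ c x = w) {i : I}
    (hl : ℓ w < ℓ (w * cs.simple i)) :
    Δ.proj (op cs '' {i}) (apt Δ c d (w * w0 cs)) x = apt Δ c d (w * cs.simple i * w0 cs) := by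
  apply Δ.proj_eq_of_isProj
  apply Δ.isProj_of_isMinR
  · have := apt_mem_opp_panel Δ hcd w i
    rwa [Pan_eq_Res, ← Set.image_singleton] at this
  · rw [isMinR_iff]
    rintro _ ⟨j, rfl, rfl⟩
    rw [δ_apt_near Δ hcd hx hl, mul_assoc, w0_mul_simple_op, cs.simple_mul_simple_cancel_left]
    have l2 := length_mul_w0 cs (cs.simple j)
    rw [cs.length_simple] at l2
    omega

end Apt

section Panels

variable [Finite W] [Finite I]

theorem wJ_singleton (i : I) : wJ cs {i} = cs.simple i := by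
  have h : IsLongest cs {i} (cs.simple i) := by
    refine ⟨simple_mem_WJ cs rfl, fun v hv => ?_⟩
    rcases mem_WJ_singleton.1 hv with rfl | rfl
    · simp
    · simp
  exact h.eq_wJ.symm

/-- In the panel opposite to the panel of `a`, all chambers but one are opposite to `a`. -/
theorem opp_of_ne_proj {x v a u : C} {i : I} (h : Δ.Opp x v) (ha : a ∈ Δ.Pan i x)
    (hu : u ∈ Δ.Pan (op cs i) v) (hne : u ≠ Δ.proj (op cs '' {i}) v a) : Δ.Opp a u := by
  rw [Pan_eq_Res] at ha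
  have hu' : u ∈ Δ.Res (op cs '' {i}) v := by rwa [Set.image_singleton, ← Pan_eq_Res]
  have hp : Δ.proj (op cs '' {i}) v a ∈ Δ.Pan (op cs i) v := by
    rw [Pan_eq_Res, ← Set.image_singleton]
    exact Δ.proj_mem _ _ _
  have h1 := δ_left Δ h ha hu'
  rw [Δ.δ_eq_of_mem_Pan hp hu hne.symm, wJ_singleton, mul_assoc, w0_mul_simple_op,
    cs.simple_mul_simple_cancel_left] at h1
  exact h1

end Panels

/-! ### States -/

section State

variable [Finite W] [Finite I] (c d : C) (c' d' : C')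

/-- `α` is a state at `x` with respect to the base pairs `c, d` and `c', d'`. -/
structure St (x : C) (α : C → C') : Prop where
  δ_eq : Δ'.δ c' (α x) = Δ.δ c x
  good : Good Δ Δ' x (apt Δ c d (Δ.δ c x * w0 cs)) (α x) (apt Δ' c' d' (Δ.δ c x * w0 cs)) α

variable {Δ Δ' c d c' d'}

/-- (TR) -/
theorem St.transport [Nonempty I] (hinj : Function.Injective cs.simple) (hth : Δ.Thick)
    (hcd : Δ.Opp c d) (hcd' : Δ'.Opp c' d') {x : C} {α : C → C'} (h : St Δ Δ' c d c' d' x α)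
    {z : C} {i : I} (hxz : Δ.δ x z = cs.simple i)
    (hl : ℓ (Δ.δ c x) < ℓ (Δ.δ c x * cs.simple i)) :
    ∃ α₁, St Δ Δ' c d c' d' z α₁ ∧ ∀ k, ∀ y ∈ Δ.Res {i, k} x, α₁ y = α y := by
  have hz : Δ.δ c z = Δ.δ c x * cs.simple i := Δ.step_lt c x z i hxz hl
  have hopp := opp_apt Δ hcd z
  rw [hz] at hopp
  have hgood := h.good
  have hδ := h.δ_eq
  generalize hw : Δ.δ c x = w at *
  have hv1 := apt_mem_opp_panel Δ hcd w i
  have hp1 := proj_apt_left Δ hcd hw hl
  have hp2 := proj_apt_right Δ' hcd' hδ hl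
  have hp3 := proj_apt_right Δ hcd hw hl
  set v := apt Δ c d (w * w0 cs)
  set v' := apt Δ' c' d' (w * w0 cs)
  set v1 := apt Δ c d (w * cs.simple i * w0 cs)
  set v1' := apt Δ' c' d' (w * cs.simple i * w0 cs)
  have hxv : Δ.Opp x v := hgood.opp
  have hzP : z ∈ Δ.Pan i x := Δ.mem_Pan_of_δ hxz
  have hzR : z ∈ Δ.Res {i} x := by rwa [← Pan_eq_Res]
  obtain ⟨u, hu, hu1, hu2⟩ := hth.exists_third (i := op cs i) (x := v) v1
    (Δ.proj (op cs '' {i}) v z)
  have hu' : u ∈ Δ.Res (op cs '' {i}) v := by rwa [Set.image_singleton, ← Pan_eq_Res]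
  have hxu : Δ.Opp x u := opp_of_ne_proj Δ hxv (Δ.self_mem_Pan i x) hu (by rwa [hp3])
  have hzu : Δ.Opp z u := opp_of_ne_proj Δ hxv hzP hu hu2
  have hI := two_singleton i
  have g1 := hgood.compat hinj hI hu' hxu
  obtain ⟨α₁, β, g2, h1, -, -, -⟩ := g1.move hinj hzP hzu
  have hv1' : v1 ∈ Δ.Res (op cs '' {i}) u := by
    rw [Δ.Res_eq_of_mem hu', Set.image_singleton, ← Pan_eq_Res]
    exact hv1
  have g3 := g2.compat hinj hI hv1' hopp
  have hαz : α₁ z = α z := h1 i z (Δ.Res_mono (by simp) x hzR)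
  have hαx : α₁ x = α x := h1 i x (Δ.self_mem_Res _ x)
  have h2 : ind Δ Δ' {i} z (ind Δ Δ' {i} x v' α u) α₁ v1 = v1' := by
    have h3 : ind Δ Δ' {i} x v' α u ∈ Δ'.Res (op cs '' {i}) v' := ind_mem Δ Δ' {i} x v' α u
    have h4 : Δ.proj {i} z v1 = x := by rw [Δ.proj_congr hzR, hp1]
    change Δ'.proj (op cs '' {i}) (ind Δ Δ' {i} x v' α u) (α₁ (Δ.proj {i} z v1)) = v1'
    rw [h4, hαx, Δ'.proj_congr h3, hp2]
  rw [h2] at g3
  refine ⟨α₁, ⟨?_, ?_⟩, h1⟩
  · have h3 : Δ'.δ (α x) (α z) = cs.simple i := by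
      rw [hgood.iso _ hI x (Δ.self_mem_Res _ x) z hzR, hxz]
    rw [hαz, Δ'.step_lt c' (α x) (α z) i h3 (by rw [hδ]; exact hl), hδ, hz]
  · rw [hz, hαz]
    exact g3

/-- the transported state is unique -/
theorem St.uniq (hth : Δ.Thick) {z : C} {α α' : C → C'}
    (h : St Δ Δ' c d c' d' z α) (h' : St Δ Δ' c d c' d' z α')
    (he : ∀ i, ∀ y ∈ Δ.Pan i z, α y = α' y) (hz : α z = α' z) : ∀ y ∈ Δ.E2 z, α y = α' y := by
  have g := h.good
  rw [hz] at g
  exact g.uniq hth h'.good he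

theorem St.uniq' (hth : Δ.Thick) {x z : C} {i : I} {α α₁ α₂ : C → C'}
    (hxz : Δ.δ x z = cs.simple i)
    (h1 : St Δ Δ' c d c' d' z α₁) (h2 : St Δ Δ' c d c' d' z α₂)
    (e1 : ∀ k, ∀ y ∈ Δ.Res {i, k} x, α₁ y = α y) (e2 : ∀ k, ∀ y ∈ Δ.Res {i, k} x, α₂ y = α y) :
    ∀ y ∈ Δ.E2 z, α₁ y = α₂ y := by
  have hz : ∀ k, z ∈ Δ.Res {i, k} x := fun k =>
    Δ.Pan_subset_Res (by simp) x (Δ.mem_Pan_of_δ hxz)
  refine h1.uniq hth h2 (fun k y hy => ?_) (by rw [e1 i z (hz i), e2 i z (hz i)])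
  have hy' : y ∈ Δ.Res {i, k} x := by
    rw [← Δ.Res_eq_of_mem (hz k)]
    exact Δ.Pan_subset_Res (by simp) z hy
  rw [e1 k y hy', e2 k y hy']

end State

end Cfsg.Agent.Tits.Ext
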