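import Cfsg.Agent.Tits.OfBN
import Cfsg.Agent.S1142
import Cfsg.Agent.LieRecognition.CoxForm

/-!
The (B,N)-pair of a standard parabolic subgroup, and the labels of the diagram of a finite group with
a (B,N)-pair: they are `2, 3, 4, 6` or `8` (Feit–Higman, S1142, applied to the parabolic subgroups of
rank two).
-/

set_option autoImplicit false

namespace Cfsg.Agent.Tits.Parabolic

open Cfsg Cfsg.Agent.LieRecognition Cfsg.Agent.LieExceptional.BNPairCore Cfsg.Agent.Tits.Core Cfsg.Agent.Tits.OfBN

variable {G : Type*} [Group G] (P : Cfsg.BNPair G)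

/-- `N_J`, the subgroup generated by `J` and `B ⊓ N`. -/
def NJ (J : Set G) : Subgroup G := Subgroup.closure J ⊔ (P.B ⊓ P.N)

theorem NJ_le_N {J : Set G} (hJ : J ⊆ P.S) : NJ P J ≤ P.N := by
  refine sup_le ?_ inf_le_right
  rw [Subgroup.closure_le]
  exact fun s hs => P.subset (hJ hs)

theorem subset_NJ (J : Set G) : J ⊆ (NJ P J : Set G) := fun _ hs =>
  (le_sup_left : _ ≤ NJ P J) (Subgroup.subset_closure hs)

theorem inf_le_NJ (J : Set G) : P.B ⊓ P.N ≤ NJ P J := le_sup_right

theorem NJ_le_parabolic (J : Set G) : NJ P J ≤ P.parabolic J := by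
  refine sup_le ?_ ?_
  · exact le_sup_right
  · exact inf_le_left.trans le_sup_left

theorem B_le_parabolic (J : Set G) : P.B ≤ P.parabolic J := le_sup_left

theorem B_inf_NJ {J : Set G} (hJ : J ⊆ P.S) : P.B ⊓ NJ P J = P.B ⊓ P.N := by
  apply le_antisymm
  · exact inf_le_inf_left _ (NJ_le_N P hJ)
  · exact le_inf inf_le_left (inf_le_NJ P J)

/-- The (B,N)-pair of the standard parabolic subgroup of type `J`. -/
def para (J : Set G) (hJ : J ⊆ P.S) : Cfsg.BNPair ↥(P.parabolic J) where
  B := P.B.subgroupOf (P.parabolic J)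
  N := (NJ P J).subgroupOf (P.parabolic J)
  S := {x | (x : G) ∈ J}
  sup_eq_top := by
    rw [eq_top_iff]
    intro x _
    rw [← Subgroup.subgroupOf_sup (B_le_parabolic P J) (NJ_le_parabolic P J), Subgroup.mem_subgroupOf]
    have hx : (x : G) ∈ P.B ⊔ Subgroup.closure J := x.2
    refine (sup_le_sup_left ?_ P.B : P.B ⊔ Subgroup.closure J ≤ P.B ⊔ NJ P J) hx
    exact le_sup_left
  conj_mem := by
    intro n hn t ht
    rw [Subgroup.mem_subgroupOf] at hn ⊢
    have ht1 : (t : G) ∈ P.B ⊓ P.N := by
      rw [← B_inf_NJ P hJ]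
      exact ⟨ht.1, ht.2⟩
    exact P.conj_mem n (NJ_le_N P hJ hn) t ht1
  subset := fun s hs => subset_NJ P J hs
  sq_mem := fun s hs => P.sq_mem s (hJ hs)
  inj := fun s hs s' hs' h => Subtype.ext (P.inj s (hJ hs) s' (hJ hs') h)
  closure_sup := by
    have hS : Subgroup.closure {x : ↥(P.parabolic J) | (x : G) ∈ J} =
        (Subgroup.closure J).subgroupOf (P.parabolic J) := by
      have hle : Subgroup.closure J ≤ P.parabolic J := le_sup_right
      have hmap : (Subgroup.closure {x : ↥(P.parabolic J) | (x : G) ∈ J}).map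
          (P.parabolic J).subtype = Subgroup.closure J := by
        rw [MonoidHom.map_closure]
        congr 1
        ext y
        constructor
        · rintro ⟨x, hx, rfl⟩; exact hx
        · intro hy
          exact ⟨⟨y, hle (Subgroup.subset_closure hy)⟩, hy, rfl⟩
      rw [← hmap]
      exact (Subgroup.comap_map_eq_self_of_injective (Subgroup.subtype_injective _) _).symm
    have hinf : P.B.subgroupOf (P.parabolic J) ⊓ (NJ P J).subgroupOf (P.parabolic J) =
        (P.B ⊓ P.N).subgroupOf (P.parabolic J) := by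
      rw [← B_inf_NJ P hJ]; rfl
    rw [hS, hinf]
    exact (Subgroup.subgroupOf_sup (le_sup_right : Subgroup.closure J ≤ P.parabolic J)
      ((inf_le_NJ P J).trans (NJ_le_parabolic P J))).symm
  mul_mem_union := by
    intro s hs n hn b hb
    have h := P.mul_mem_union (s : G) (hJ hs) (n : G) (NJ_le_N P hJ hn) (b : G) hb
    rcases h with h | h
    · left
      obtain ⟨x, hx, y, hy, hxy⟩ := DoubleCoset.mem_doubleCoset.1 h
      exact DoubleCoset.mem_doubleCoset.2 ⟨⟨x, B_le_parabolic P J hx⟩, hx,
        ⟨y, B_le_parabolic P J hy⟩, hy, Subtype.ext hxy⟩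
    · right
      obtain ⟨x, hx, y, hy, hxy⟩ := DoubleCoset.mem_doubleCoset.1 h
      exact DoubleCoset.mem_doubleCoset.2 ⟨⟨x, B_le_parabolic P J hx⟩, hx,
        ⟨y, B_le_parabolic P J hy⟩, hy, Subtype.ext hxy⟩
  conj_ne := by
    intro s hs h
    apply P.conj_ne (s : G) (hJ hs)
    ext y
    have h' := Set.ext_iff.1 h
    constructor
    · rintro ⟨b, hb, rfl⟩
      have := (h' (s * ⟨b, B_le_parabolic P J hb⟩ * s)).1 ⟨⟨b, B_le_parabolic P J hb⟩, hb, rfl⟩
      exact this
    · intro hy
      obtain ⟨b, hb, hby⟩ := (h' ⟨y, B_le_parabolic P J hy⟩).2 hy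
      exact ⟨b, hb, congrArg Subtype.val hby⟩

theorem para_rank {J : Set G} (hJ : J ⊆ P.S) : (para P J hJ).rank = Nat.card J := by
  have hle : ∀ s : J, (s : G) ∈ P.parabolic J := fun s =>
    (le_sup_right : Subgroup.closure J ≤ P.parabolic J) (Subgroup.subset_closure s.2)
  refine Nat.card_congr ⟨fun x => ⟨(x : ↥(P.parabolic J)), x.2⟩, fun s => ⟨⟨s, hle s⟩, s.2⟩, ?_, ?_⟩
  · intro x; rfl
  · intro s; rfl

/-- A group generated by two different involutions is dihedral: its order is twice the order of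
their product. -/
theorem card_eq_two_mul_orderOf {D : Type*} [Group D] {a b : D} (ha : a * a = 1) (hb : b * b = 1)
    (ha1 : a ≠ 1) (hb1 : b ≠ 1) (htop : Subgroup.closure {a, b} = ⊤) :
    Nat.card D = 2 * orderOf (a * b) := by
  have hai : a⁻¹ = a := inv_eq_of_mul_eq_one_left ha
  have hbi : b⁻¹ = b := inv_eq_of_mul_eq_one_left hb
  have hinv : ∀ z ∈ Subgroup.zpowers (a * b), a * z * a ∈ Subgroup.zpowers (a * b) := by
    rintro z ⟨k, rfl⟩
    have h1 : a * (a * b) * a⁻¹ = (a * b)⁻¹ := by
      rw [hai, mul_inv_rev, hai, hbi, ← mul_assoc, ha, one_mul]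
    have h2 : a * (a * b) ^ k * a = ((a * b)⁻¹) ^ k := by
      rw [← h1, conj_zpow, hai]
    simp only
    rw [h2]
    exact Subgroup.zpow_mem _ (inv_mem (Subgroup.mem_zpowers _)) _
  have hnot : a ∉ Subgroup.zpowers (a * b) := by
    rintro ⟨k, hk⟩
    have hk' : (a * b) ^ k = a := hk
    have hcomm : a * (a * b) = a * b * a := by
      have := (Commute.zpow_self (a * b) k).eq
      rw [hk'] at this
      exact this
    have hab : b = a * b * a := by
      rw [← hcomm, ← mul_assoc, ha, one_mul]
    have hab2 : (a * b) * (a * b) = 1 := by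
      calc (a * b) * (a * b) = (a * b * a) * b := by group
        _ = b * b := by rw [← hab]
        _ = 1 := hb
    rcases Int.even_or_odd k with ⟨j, hj⟩ | ⟨j, hj⟩
    · apply ha1
      rw [← hk', hj, ← two_mul, zpow_mul]
      have : (a * b) ^ (2 : ℤ) = 1 := by rw [zpow_two]; exact hab2
      rw [this, one_zpow]
    · apply hb1
      have h3 : (a * b) ^ (2 : ℤ) = 1 := by rw [zpow_two]; exact hab2
      have h4 : (a * b) ^ k = a * b := by
        rw [hj, zpow_add, zpow_mul, h3, one_zpow, one_mul, zpow_one]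
      rw [hk'] at h4
      have : a * 1 = a * b := by rw [mul_one]; exact h4
      exact (mul_left_cancel this).symm
  have hidx : (Subgroup.zpowers (a * b)).index = 2 := by
    rw [Subgroup.index_eq_two_iff]
    refine ⟨a, fun x => ?_⟩
    have hor : x ∈ Subgroup.zpowers (a * b) ∨ x * a ∈ Subgroup.zpowers (a * b) := by
      have hx : x ∈ Subgroup.closure {a, b} := by rw [htop]; trivial
      induction hx using Subgroup.closure_induction with
      | mem y hy =>
        rcases hy with rfl | rfl
        · right; rw [ha]; exact one_mem _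
        · right
          have : y * a = (a * y)⁻¹ := by rw [mul_inv_rev, hai, hbi]
          rw [this]; exact inv_mem (Subgroup.mem_zpowers _)
      | one => left; exact one_mem _
      | mul y z _ _ hy hz =>
        rcases hy with hy | hy <;> rcases hz with hz | hz
        · left; exact mul_mem hy hz
        · right; rw [mul_assoc]; exact mul_mem hy hz
        · right
          have : y * z * a = (y * a) * (a * z * a) := by
            calc y * z * a = y * (a * a) * z * a := by rw [ha, mul_one]
              _ = (y * a) * (a * z * a) := by group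
          rw [this]; exact mul_mem hy (hinv z hz)
        · left
          have : y * z = (y * a) * (a * (z * a) * a) := by
            calc y * z = y * (a * a) * z * (a * a) := by rw [ha, mul_one, mul_one]
              _ = (y * a) * (a * (z * a) * a) := by group
          rw [this]; exact mul_mem hy (hinv _ hz)
      | inv y _ hy =>
        rcases hy with hy | hy
        · left; exact inv_mem hy
        · right
          have : y⁻¹ * a = a * (y * a)⁻¹ * a := by
            rw [mul_inv_rev, hai, ← mul_assoc a a, ha, one_mul]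
          rw [this]; exact hinv _ (inv_mem hy)
    have hnand : ¬ (x ∈ Subgroup.zpowers (a * b) ∧ x * a ∈ Subgroup.zpowers (a * b)) := by
      rintro ⟨h1, h2⟩
      exact hnot (by simpa using mul_mem (inv_mem h1) h2)
    unfold Xor
    tauto
  have h := Subgroup.card_mul_index (Subgroup.zpowers (a * b))
  rw [hidx, Nat.card_zpowers] at h
  omega

theorem mk_pow_eq_one_iff {s t : G} (hs : s ∈ P.S) (ht : t ∈ P.S) (k : ℕ) :
    haveI := normal_subgroupOf P
    ((QuotientGroup.mk ⟨s, P.subset hs⟩ * QuotientGroup.mk ⟨t, P.subset ht⟩ : WP P) ^ k = 1) ↔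
      (s * t) ^ k ∈ P.B := by
  have := normal_subgroupOf P
  rw [← QuotientGroup.mk_mul, ← QuotientGroup.mk_pow, QuotientGroup.eq_one_iff,
    Subgroup.mem_subgroupOf]
  constructor
  · intro h; exact h.1
  · intro h
    exact ⟨h, (((⟨s, P.subset hs⟩ : P.N) * ⟨t, P.subset ht⟩) ^ k).2⟩

/-- For a (B,N)-pair of rank two with `P.S = {s, t}` the Weyl group has order twice the order of
`s t`. -/
theorem index_eq_of_pair {s t : G} (hs : s ∈ P.S) (ht : t ∈ P.S) (hst : s ≠ t)
    (hS : P.S ⊆ {s, t}) :
    haveI := normal_subgroupOf P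
    ((P.B ⊓ P.N).subgroupOf P.N).index =
      2 * orderOf (QuotientGroup.mk ⟨s, P.subset hs⟩ * QuotientGroup.mk ⟨t, P.subset ht⟩ : WP P) := by
  have := normal_subgroupOf P
  have hsq : ∀ r (hr : r ∈ P.S), (QuotientGroup.mk ⟨r, P.subset hr⟩ *
      QuotientGroup.mk ⟨r, P.subset hr⟩ : WP P) = 1 := by
    intro r hr
    rw [← QuotientGroup.mk_mul, QuotientGroup.eq_one_iff, Subgroup.mem_subgroupOf]
    exact ⟨P.sq_mem r hr, mul_mem (P.subset hr) (P.subset hr)⟩
  have hne : ∀ r (hr : r ∈ P.S), (QuotientGroup.mk ⟨r, P.subset hr⟩ : WP P) ≠ 1 := by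
    intro r hr h
    rw [QuotientGroup.eq_one_iff, Subgroup.mem_subgroupOf] at h
    exact not_mem_B hr h.1
  have htop : Subgroup.closure ({QuotientGroup.mk ⟨s, P.subset hs⟩,
      QuotientGroup.mk ⟨t, P.subset ht⟩} : Set (WP P)) = ⊤ := by
    rw [eq_top_iff]
    intro x _
    induction x using QuotientGroup.induction_on with
    | _ n =>
      obtain ⟨n, hn⟩ := n
      have hn' : n ∈ Subgroup.closure P.S ⊔ (P.B ⊓ P.N) := by rw [P.closure_sup]; exact hn
      have key : ∀ m (hm : m ∈ Subgroup.closure P.S ⊔ (P.B ⊓ P.N)),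
          ∃ hm' : m ∈ P.N, (QuotientGroup.mk (⟨m, hm'⟩ : P.N) : WP P) ∈
            Subgroup.closure ({QuotientGroup.mk ⟨s, P.subset hs⟩,
              QuotientGroup.mk ⟨t, P.subset ht⟩} : Set (WP P)) := by
        intro m hm
        rw [← Subgroup.closure_eq (P.B ⊓ P.N), ← Subgroup.closure_union] at hm
        induction hm using Subgroup.closure_induction with
        | mem y hy =>
          rcases hy with hy | hy
          · refine ⟨P.subset hy, Subgroup.subset_closure ?_⟩
            rcases hS hy with rfl | rfl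
            · exact Or.inl rfl
            · exact Or.inr rfl
          · refine ⟨hy.2, ?_⟩
            have : (QuotientGroup.mk (⟨y, hy.2⟩ : P.N) : WP P) = 1 := by
              rw [QuotientGroup.eq_one_iff, Subgroup.mem_subgroupOf]
              exact hy
            rw [this]; exact one_mem _
        | one => exact ⟨one_mem _, one_mem _⟩
        | mul y z _ _ hy hz =>
          obtain ⟨hy1, hy2⟩ := hy
          obtain ⟨hz1, hz2⟩ := hz
          exact ⟨mul_mem hy1 hz1, mul_mem hy2 hz2⟩
        | inv y _ hy =>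
          obtain ⟨hy1, hy2⟩ := hy
          exact ⟨inv_mem hy1, inv_mem hy2⟩
      exact (key n hn').2
  have h := card_eq_two_mul_orderOf (hsq s hs) (hsq t ht) (hne s hs) (hne t ht) htop
  rw [← h]
  rfl

/-- The labels of the diagram of a finite group with a (B,N)-pair. -/
theorem orderOf_mem [Finite G] {s t : G} (hs : s ∈ P.S) (ht : t ∈ P.S) (hst : s ≠ t) :
    haveI := normal_subgroupOf P
    orderOf (QuotientGroup.mk ⟨s, P.subset hs⟩ * QuotientGroup.mk ⟨t, P.subset ht⟩ : WP P) ∈
      ({2, 3, 4, 6, 8} : Set ℕ) := by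
  have := normal_subgroupOf P
  have hJ : ({s, t} : Set G) ⊆ P.S := by
    rintro x (rfl | rfl) <;> assumption
  set Q := para P {s, t} hJ with hQ
  have := normal_subgroupOf Q
  have hle : ∀ x ∈ ({s, t} : Set G), x ∈ P.parabolic {s, t} := fun x hx =>
    (le_sup_right : Subgroup.closure {s, t} ≤ P.parabolic {s, t}) (Subgroup.subset_closure hx)
  have hsm : (⟨s, hle s (Or.inl rfl)⟩ : ↥(P.parabolic {s, t})) ∈ Q.S := Or.inl rfl
  have htm : (⟨t, hle t (Or.inr rfl)⟩ : ↥(P.parabolic {s, t})) ∈ Q.S := Or.inr rfl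
  have hne : (⟨s, hle s (Or.inl rfl)⟩ : ↥(P.parabolic {s, t})) ≠ ⟨t, hle t (Or.inr rfl)⟩ := by
    intro h; exact hst (congrArg Subtype.val h)
  have hSQ : Q.S ⊆ {⟨s, hle s (Or.inl rfl)⟩, ⟨t, hle t (Or.inr rfl)⟩} := by
    rintro x (hx | hx)
    · exact Or.inl (Subtype.ext hx)
    · exact Or.inr (Subtype.ext hx)
  have hrank : Q.rank = 2 := by
    rw [hQ, para_rank]
    have := Set.ncard_pair hst
    exact this
  have h1 := Cfsg.Agent.S1142.result Q hrank
  rw [index_eq_of_pair Q hsm htm hne hSQ] at h1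
  have h2 : orderOf (QuotientGroup.mk ⟨s, P.subset hs⟩ * QuotientGroup.mk ⟨t, P.subset ht⟩ : WP P) =
      orderOf (QuotientGroup.mk ⟨_, Q.subset hsm⟩ * QuotientGroup.mk ⟨_, Q.subset htm⟩ : WP Q) := by
    rw [orderOf_eq_orderOf_iff]
    intro k
    rw [mk_pow_eq_one_iff P hs ht, mk_pow_eq_one_iff Q hsm htm]
    rfl
  rw [h2]
  simp only [Set.mem_insert_iff, Set.mem_singleton_iff] at h1 ⊢
  omega

/-- The labels of the Coxeter matrix of a finite group with a (B,N)-pair of type `M`. -/
theorem label_mem [Finite G] {I : Type*} [Fintype I] [DecidableEq I] {M : CoxeterMatrix I}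
    {e : I ≃ P.S} (h : BNType P M e) {i j : I} (hij : i ≠ j) :
    M i j ∈ ({2, 3, 4, 6, 8} : Set ℕ) := by
  obtain ⟨_, cs, hcs⟩ := h
  have h1 := orderOf_mem P (e i).2 (e j).2 (fun h => hij (e.injective (Subtype.ext h)))
  rw [← CoxForm.orderOf_eq cs i j, hcs i, hcs j]
  exact h1

end Cfsg.Agent.Tits.Parabolic
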