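import Cfsg.Agent.Tits.ExtTr
import Cfsg.Agent.Tits.Opp

/-!
BRAID: the transports along the two galleries between opposite chambers of a residue of rank two
agree.
-/

set_option autoImplicit false
set_option linter.unusedSectionVars false

namespace Cfsg.Agent.Tits.Ext

open Cfsg.Agent.Tits.Core Cfsg.Agent.Tits.Core.Bldg Cfsg.Agent.Tits.Exchange

variable {I : Type*} {M : CoxeterMatrix I} {W : Type*} [Group W] {cs : CoxeterSystem M W}
  {C C' : Type*} (Δ : Bldg cs C) (Δ' : Bldg cs C')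

local prefix:100 "ℓ" => cs.length

section

variable [Finite W] [Finite I]

theorem exists_conj_simple (hinj : Function.Injective cs.simple) {J : Set I} {k : I} (hk : k ∈ J) :
    ∃ k₁ ∈ J, cs.simple k₁ = wJ cs J * cs.simple k * wJ cs J := by
  have hL := isLongest_wJ cs J
  have h1 := (hL.2 _ (simple_mem_WJ cs hk)).2
  have h2 := (hL.2 _ (mul_mem (simple_mem_WJ cs hk) hL.mem)).1
  rw [cs.length_simple] at h1
  have h3 : ℓ (wJ cs J * cs.simple k * wJ cs J) = 1 := by rw [mul_assoc]; omega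
  obtain ⟨j, hj⟩ := cs.length_eq_one_iff.1 h3
  refine ⟨j, mem_of_simple_mem_WJ hinj ?_, hj.symm⟩
  rw [← hj]
  exact mul_mem (mul_mem hL.mem (simple_mem_WJ cs hk)) hL.mem

theorem twist_left {J : Set I} {x v a b : C} (h : Δ.Opp x v) (ha : a ∈ Δ.Res J x)
    (hb : b ∈ Δ.Res J x) :
    Δ.δ (Δ.proj (op cs '' J) v a) (Δ.proj (op cs '' J) v b) =
      (wJ cs J * w0 cs)⁻¹ * Δ.δ a b * (wJ cs J * w0 cs) := by
  have h1 := δ_right Δ h ha (Δ.proj_mem _ v b)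
  rw [δ_left Δ h ha (Δ.proj_mem _ v b), proj_proj_left Δ h hb] at h1
  rw [mul_assoc, ← h1, inv_mul_cancel_left]

/-- the image of a panel under the projection onto the opposite residue -/
theorem proj_panel (hinj : Function.Injective cs.simple) {J : Set I} {x v e : C}
    (h : Δ.Opp x v) (he : e ∈ Δ.Res J x) {k : I} (hk : k ∈ J) :
    ∃ k₁ ∈ J, ∀ t ∈ Δ.Pan k e,
      Δ.proj (op cs '' J) v t ∈ Δ.Pan (op cs k₁) (Δ.proj (op cs '' J) v e) := by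
  obtain ⟨k₁, hk₁, hs⟩ := exists_conj_simple hinj hk
  refine ⟨k₁, hk₁, fun t ht => ?_⟩
  rcases ht with rfl | ht
  · exact Δ.self_mem_Pan _ _
  · apply Δ.mem_Pan_of_δ
    have ht' : t ∈ Δ.Res J x :=
      Δ.mem_Res_trans he (Δ.Pan_subset_Res hk e (Δ.mem_Pan_of_δ ht))
    rw [twist_left Δ h he ht', ht, simple_op, hs, mul_inv_rev, w0_inv, (isLongest_wJ cs J).inv_eq]
    simp only [mul_assoc]

end

section Braid

variable [Finite W] [Finite I] [Nonempty I] (c d : C) (c' d' : C')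

/-- the transport relation -/
structure Tp (x : C) (α : C → C') (i : I) (z : C) (α₁ : C → C') : Prop where
  δ_eq : Δ.δ x z = cs.simple i
  up : ℓ (Δ.δ c x) < ℓ (Δ.δ c x * cs.simple i)
  st : St Δ Δ' c d c' d' x α
  st' : St Δ Δ' c d c' d' z α₁
  eq : ∀ k, ∀ y ∈ Δ.Res {i, k} x, α₁ y = α y

/-- `(a, A)` is a state in the residue `Res J x` extending `α`. -/
structure Inv (J : Set I) (x : C) (α : C → C') (a : C) (A : C → C') : Prop where
  mem : a ∈ Δ.Res J x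
  eq : ∀ y ∈ Δ.Res J x, A y = α y
  st : St Δ Δ' c d c' d' a A

variable {Δ Δ' c d c' d'}

theorem Inv.step {i j : I} {x a b : C} {α A B : C → C'} (h : Inv Δ Δ' c d c' d' {i, j} x α a A)
    {k : I} (hk : k = i ∨ k = j) (ht : Tp Δ Δ' c d c' d' a A k b B) :
    Inv Δ Δ' c d c' d' {i, j} x α b B := by
  have hab : b ∈ Δ.Res {i, j} a :=
    Δ.Pan_subset_Res (by rcases hk with rfl | rfl <;> simp) a (Δ.mem_Pan_of_δ ht.δ_eq)
  refine ⟨Δ.mem_Res_trans h.mem hab, fun y hy => ?_, ht.st'⟩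
  rw [← h.eq y hy]
  rw [← Δ.Res_eq_of_mem h.mem] at hy
  rcases hk with rfl | rfl
  · exact ht.eq j y hy
  · exact ht.eq i y (by rwa [Set.pair_comm])

/-- (S0) -/
theorem Inv.good (hinj : Function.Injective cs.simple) (hcd : Δ.Opp c d) (hcd' : Δ'.Opp c' d')
    {J : Set I} (hJ : Two J) {x a u : C} {α A : C → C'} (h : Inv Δ Δ' c d c' d' J x α a A)
    (hu : u ∈ Δ.Res (op cs '' J) (apt Δ c d (Δ.δ c x * w0 cs))) (hau : Δ.Opp a u) :
    Good Δ Δ' a u (α a) (ind Δ Δ' J x (apt Δ' c' d' (Δ.δ c x * w0 cs)) α u) A := by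
  obtain ⟨t, ht, h1⟩ := Δ.exists_mul_of_mem c h.mem
  have key : ∀ w : W, (w * w0 cs)⁻¹ * (w * t * w0 cs) ∈ WJ cs (op cs '' J) := by
    intro w
    have e : (w * w0 cs)⁻¹ * (w * t * w0 cs) = w0 cs * t * w0 cs := by
      rw [mul_inv_rev, w0_inv]; group
    rw [e]
    exact w0_conj_mem_WJ cs ht
  have h2 := h.st.good
  rw [h1] at h2
  have h3 : apt Δ c d (Δ.δ c x * t * w0 cs) ∈
      Δ.Res (op cs '' J) (apt Δ c d (Δ.δ c x * w0 cs)) := by
    rw [mem_Res, apt_δ Δ hcd]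
    exact key _
  have h3' : apt Δ' c' d' (Δ.δ c x * t * w0 cs) ∈
      Δ'.Res (op cs '' J) (apt Δ' c' d' (Δ.δ c x * w0 cs)) := by
    rw [mem_Res, apt_δ Δ' hcd']
    exact key _
  rw [← Δ.Res_eq_of_mem h3] at hu
  have h4 := h2.compat hinj hJ hu hau
  have h5 : ind Δ Δ' J a (apt Δ' c' d' (Δ.δ c x * t * w0 cs)) A u =
      ind Δ Δ' J x (apt Δ' c' d' (Δ.δ c x * w0 cs)) α u := by
    unfold ind
    rw [Δ'.proj_congr h3', Δ.proj_congr h.mem, h.eq _ (Δ.proj_mem J x u)]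
  rw [h5, h.eq a h.mem] at h4
  exact h4

/-- (S1) -/
theorem Inv.adj (hinj : Function.Injective cs.simple) (hth : Δ.Thick) (hcd : Δ.Opp c d)
    (hcd' : Δ'.Opp c' d') {J : Set I} (hJ : Two J) {x a b u : C} {α A B : C → C'}
    (ha : Inv Δ Δ' c d c' d' J x α a A) (hb : Inv Δ Δ' c d c' d' J x α b B) {i : I}
    (ht : Tp Δ Δ' c d c' d' a A i b B)
    (hu : u ∈ Δ.Res (op cs '' J) (apt Δ c d (Δ.δ c x * w0 cs))) (hau : Δ.Opp a u)
    (hbu : Δ.Opp b u) {K : Set I} (hK : Two K) {y : C} (hy : y ∈ Δ.Res (op cs '' K) u) :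
    ind Δ Δ' K a (ind Δ Δ' J x (apt Δ' c' d' (Δ.δ c x * w0 cs)) α u) A y =
      ind Δ Δ' K b (ind Δ Δ' J x (apt Δ' c' d' (Δ.δ c x * w0 cs)) α u) B y := by
  have ga := ha.good hinj hcd hcd' hJ hu hau
  have gb := hb.good hinj hcd hcd' hJ hu hbu
  set u' := ind Δ Δ' J x (apt Δ' c' d' (Δ.δ c x * w0 cs)) α u
  have hab : b ∈ Δ.Pan i a := Δ.mem_Pan_of_δ ht.δ_eq
  obtain ⟨α₁, β, g, h1, h2, h3, -⟩ := ga.move hinj hab hbu
  rw [ha.eq b hb.mem] at g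
  have h4 : ∀ y ∈ Δ.E2 b, α₁ y = B y := by
    refine g.uniq hth gb fun k y hy => ?_
    have hbk : b ∈ Δ.Res {i, k} a := Δ.Pan_subset_Res (by simp) a hab
    have hyk : y ∈ Δ.Res {i, k} a := by
      rw [← Δ.Res_eq_of_mem hbk]
      exact Δ.Pan_subset_Res (by simp) b hy
    rw [h1 k y hyk, ht.eq k y hyk]
  rw [← h2 K hK y hy, h3 K hK y hy]
  unfold ind
  rw [h4 _ ((mem_E2 Δ).2 ⟨K, hK, Δ.proj_mem K b y⟩)]

/-- (S2) -/
theorem Inv.indep {J : Set I} (hJ : Two J) {x a : C}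
    {α A : C → C'} (hx : Inv Δ Δ' c d c' d' J x α x α) {u u₁ : C} {k : I} (l : I)
    (hu : u ∈ Δ.Res (op cs '' J) (apt Δ c d (Δ.δ c x * w0 cs)))
    (hu₁ : u₁ ∈ Δ.Res (op cs '' J) (apt Δ c d (Δ.δ c x * w0 cs)))
    (huu : u₁ ∈ Δ.Pan (op cs k) u) (y : C) :
    ind Δ Δ' {k, l} a (ind Δ Δ' J x (apt Δ' c' d' (Δ.δ c x * w0 cs)) α u) A y =
      ind Δ Δ' {k, l} a (ind Δ Δ' J x (apt Δ' c' d' (Δ.δ c x * w0 cs)) α u₁) A y := by
  have h1 := ind_iso (hx.st.good.cpt hJ) u hu u₁ hu₁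
  set w := ind Δ Δ' J x (apt Δ' c' d' (Δ.δ c x * w0 cs)) α u
  set w₁ := ind Δ Δ' J x (apt Δ' c' d' (Δ.δ c x * w0 cs)) α u₁
  have h2 : w₁ ∈ Δ'.Res (op cs '' {k, l}) w := by
    rw [mem_Res, h1]
    exact Δ.Pan_subset_Res (Set.mem_image_of_mem _ (by simp)) u huu
  unfold ind
  rw [Δ'.proj_congr h2]

theorem exists_common_opp_panel (hth : Δ.Thick) {a b u u₁ e : C} {k : I} (hu : u ∈ Δ.Pan k e)
    (hu₁ : u₁ ∈ Δ.Pan k e) (ha : Δ.Opp a u) (hb : Δ.Opp b u₁) :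
    ∃ t ∈ Δ.Pan k e, Δ.Opp a t ∧ Δ.Opp b t := by
  obtain ⟨p, hp, -, hp'⟩ := Opp.exists_nonopp Δ ha k
  obtain ⟨q, hq, -, hq'⟩ := Opp.exists_nonopp Δ hb k
  obtain ⟨t, ht, htp, htq⟩ := hth.exists_third (i := k) (x := e) p q
  refine ⟨t, ht, ?_, ?_⟩
  · by_cases h : t = u
    · rw [h]; exact ha
    · exact hp' t (Δ.δ_eq_of_mem_Pan hu ht (Ne.symm h)) htp
  · by_cases h : t = u₁
    · rw [h]; exact hb
    · exact hq' t (Δ.δ_eq_of_mem_Pan hu₁ ht (Ne.symm h)) htq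

/-- (S3) -/
theorem Inv.chain (hinj : Function.Injective cs.simple) (hth : Δ.Thick) (hcd : Δ.Opp c d)
    (hcd' : Δ'.Opp c' d') {J : Set I} (hJ : Two J) {x a b e : C} {α A B : C → C'}
    (hx : Inv Δ Δ' c d c' d' J x α x α)
    (ha : Inv Δ Δ' c d c' d' J x α a A) (hb : Inv Δ Δ' c d c' d' J x α b B) {i k : I}
    (hk : k ∈ J)
    (ht : Tp Δ Δ' c d c' d' a A i b B)
    (he : e ∈ Δ.Res (op cs '' J) (apt Δ c d (Δ.δ c x * w0 cs)))
    (hae : ∃ u ∈ Δ.Pan (op cs k) e, Δ.Opp a u) (hbe : ∃ u ∈ Δ.Pan (op cs k) e, Δ.Opp b u)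
    (F : I → C → C')
    (hF : ∀ u ∈ Δ.Pan (op cs k) e, Δ.Opp a u → ∀ l, ∀ y ∈ Δ.Res (op cs '' {k, l}) e,
      ind Δ Δ' {k, l} a (ind Δ Δ' J x (apt Δ' c' d' (Δ.δ c x * w0 cs)) α u) A y = F l y) :
    ∀ u ∈ Δ.Pan (op cs k) e, Δ.Opp b u → ∀ l, ∀ y ∈ Δ.Res (op cs '' {k, l}) e,
      ind Δ Δ' {k, l} b (ind Δ Δ' J x (apt Δ' c' d' (Δ.δ c x * w0 cs)) α u) B y = F l y := by
  intro u hu hbu l y hy
  have hPQ : ∀ t ∈ Δ.Pan (op cs k) e,
      t ∈ Δ.Res (op cs '' J) (apt Δ c d (Δ.δ c x * w0 cs)) := fun t ht =>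
    Δ.mem_Res_trans he (Δ.Pan_subset_Res (Set.mem_image_of_mem _ hk) e ht)
  obtain ⟨p, hp, hap⟩ := hae
  obtain ⟨q, hq, hbq⟩ := hbe
  obtain ⟨t, ht1, hat, hbt⟩ := exists_common_opp_panel hth hp hq hap hbq
  have hut : t ∈ Δ.Pan (op cs k) u := Δ.mem_Pan_trans (Δ.mem_Pan_symm hu) ht1
  rw [Inv.indep hJ hx l (hPQ u hu) (hPQ t ht1) hut y]
  have hy' : y ∈ Δ.Res (op cs '' {k, l}) t := by
    have h1 : t ∈ Δ.Res (op cs '' {k, l}) e :=
      Δ.Pan_subset_Res (Set.mem_image_of_mem _ (by simp)) e ht1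
    rwa [Δ.Res_eq_of_mem h1]
  rw [← ha.adj hinj hth hcd hcd' hJ hb ht (hPQ t ht1) hat hbt (two_pair k l) hy']
  exact hF t ht1 hat l y hy

/-- (BRAID) -/
theorem braid (hth : Δ.Thick) (hcd : Δ.Opp c d) (hcd' : Δ'.Opp c' d') {i j : I}
    (hij : i ≠ j) (hm : M i j = 2 ∨ M i j = 3 ∨ M i j = 4) (y z : ℕ → C) (A B : ℕ → C → C')
    (hA : ∀ k < M i j, Tp Δ Δ' c d c' d' (y k) (A k) (if Even k then i else j) (y (k + 1))
      (A (k + 1)))
    (hB : ∀ k < M i j, Tp Δ Δ' c d c' d' (z k) (B k) (if Even k then j else i) (z (k + 1))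
      (B (k + 1)))
    (h0 : y 0 = z 0) (h0' : A 0 = B 0) (h1 : y (M i j) = z (M i j)) :
    ∀ p ∈ Δ.E2 (y (M i j)), A (M i j) p = B (M i j) p := by
  have hinj : Function.Injective cs.simple := simple_injective
  have hpos : 0 < M i j := by omega
  have hJ : Two ({i, j} : Set I) := two_pair i j
  obtain ⟨k, e, hk, he, hy, hz⟩ := Generic.generic Δ hth hij hm y z
    (fun k hk => (hA k hk).δ_eq) (fun k hk => (hB k hk).δ_eq) h0 h1
  set x := y 0 with hxdef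
  set α := A 0 with hαdef
  have hx : Inv Δ Δ' c d c' d' {i, j} x α x α :=
    ⟨Δ.self_mem_Res _ x, fun _ _ => rfl, (hA 0 hpos).st⟩
  have IA : ∀ k ≤ M i j, Inv Δ Δ' c d c' d' {i, j} x α (y k) (A k) := by
    intro k
    induction k with
    | zero => intro _; exact hx
    | succ k ih =>
      intro hk
      refine (ih (by omega)).step ?_ (hA k (by omega))
      split_ifs
      · exact Or.inl rfl
      · exact Or.inr rfl
  have IB : ∀ k ≤ M i j, Inv Δ Δ' c d c' d' {i, j} x α (z k) (B k) := by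
    intro k
    induction k with
    | zero => intro _; rw [← h0, ← h0']; exact hx
    | succ k ih =>
      intro hk
      refine (ih (by omega)).step ?_ (hB k (by omega))
      split_ifs
      · exact Or.inr rfl
      · exact Or.inl rfl
  -- the generic panel in the opposite residue
  have hxv : Δ.Opp x (apt Δ c d (Δ.δ c x * w0 cs)) := hx.st.good.opp
  have hkJ : k ∈ ({i, j} : Set I) := by rcases hk with rfl | rfl <;> simp
  obtain ⟨k₁, hk₁, hpan⟩ := proj_panel Δ hinj hxv he hkJ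
  set v := apt Δ c d (Δ.δ c x * w0 cs) with hv
  set v' := apt Δ' c' d' (Δ.δ c x * w0 cs) with hv'
  set e' := Δ.proj (op cs '' {i, j}) v e with he'
  have he'Q : e' ∈ Δ.Res (op cs '' {i, j}) v := Δ.proj_mem _ _ _
  have hopp : ∀ a ∈ Δ.Res {i, j} x, (∃ t ∈ Δ.Pan k e, Δ.δ a t = wJ cs {i, j}) →
      ∃ u ∈ Δ.Pan (op cs k₁) e', Δ.Opp a u := by
    rintro a ha ⟨t, ht, hat⟩
    refine ⟨_, hpan t ht, ?_⟩
    have ht' : t ∈ Δ.Res {i, j} x := Δ.mem_Res_trans he (Δ.Pan_subset_Res hkJ e ht)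
    rw [opp_iff Δ hxv ha (Δ.proj_mem _ _ _), proj_proj_left Δ hxv ht']
    exact hat
  have hyo : ∀ a ≤ M i j, ∃ u ∈ Δ.Pan (op cs k₁) e', Δ.Opp (y a) u := fun a ha =>
    hopp _ (IA a ha).mem (hy a ha)
  have hzo : ∀ a ≤ M i j, ∃ u ∈ Δ.Pan (op cs k₁) e', Δ.Opp (z a) u := fun a ha =>
    hopp _ (IB a ha).mem (hz a ha)
  obtain ⟨u₀, hu₀, hxu₀⟩ := hyo 0 (Nat.zero_le _)
  let F : I → C → C' := fun l p => ind Δ Δ' {k₁, l} x (ind Δ Δ' {i, j} x v' α u₀) α p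
  have hPQ : ∀ t ∈ Δ.Pan (op cs k₁) e', t ∈ Δ.Res (op cs '' {i, j}) v := fun t ht =>
    Δ.mem_Res_trans he'Q (Δ.Pan_subset_Res (Set.mem_image_of_mem _ hk₁) e' ht)
  have hF0 : ∀ u ∈ Δ.Pan (op cs k₁) e', Δ.Opp x u → ∀ l, ∀ p ∈ Δ.Res (op cs '' {k₁, l}) e',
      ind Δ Δ' {k₁, l} x (ind Δ Δ' {i, j} x v' α u) α p = F l p := by
    intro u hu _ l p _
    exact Inv.indep hJ hx l (hPQ u hu) (hPQ u₀ hu₀)
      (Δ.mem_Pan_trans (Δ.mem_Pan_symm hu) hu₀) p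
  have FA : ∀ a ≤ M i j, ∀ u ∈ Δ.Pan (op cs k₁) e', Δ.Opp (y a) u → ∀ l,
      ∀ p ∈ Δ.Res (op cs '' {k₁, l}) e',
      ind Δ Δ' {k₁, l} (y a) (ind Δ Δ' {i, j} x v' α u) (A a) p = F l p := by
    intro a
    induction a with
    | zero => intro _; exact hF0
    | succ a ih =>
      intro ha
      exact Inv.chain hinj hth hcd hcd' hJ hx (IA a (by omega)) (IA (a + 1) ha) hk₁
        (hA a (by omega)) he'Q (hyo a (by omega)) (hyo (a + 1) ha) F (ih (by omega))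
  have FB : ∀ a ≤ M i j, ∀ u ∈ Δ.Pan (op cs k₁) e', Δ.Opp (z a) u → ∀ l,
      ∀ p ∈ Δ.Res (op cs '' {k₁, l}) e',
      ind Δ Δ' {k₁, l} (z a) (ind Δ Δ' {i, j} x v' α u) (B a) p = F l p := by
    intro a
    induction a with
    | zero => intro _; rw [← h0, ← h0']; exact hF0
    | succ a ih =>
      intro ha
      exact Inv.chain hinj hth hcd hcd' hJ hx (IB a (by omega)) (IB (a + 1) ha) hk₁
        (hB a (by omega)) he'Q (hzo a (by omega)) (hzo (a + 1) ha) F (ih (by omega))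
  have FAm := FA _ le_rfl
  have FBm := FB _ le_rfl
  have IAm := IA _ le_rfl
  have IBm := IB _ le_rfl
  obtain ⟨u, hu, hau⟩ := hyo _ le_rfl
  rw [← h1] at FBm IBm
  generalize A (M i j) = Am at *
  generalize B (M i j) = Bm at *
  generalize y (M i j) = a at *
  have gA := IAm.good hinj hcd hcd' hJ (hPQ u hu) hau
  have gB := IBm.good hinj hcd hcd' hJ (hPQ u hu) hau
  obtain ⟨βA, sA, lA⟩ := gA.swap hinj
  obtain ⟨βB, sB, lB⟩ := gB.swap hinj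
  have h2 : ∀ p ∈ Δ.E2 u, βA p = βB p := by
    refine sA.uniq hth sB fun l' p hp => ?_
    have hl' : op cs (op cs l') = l' := op_op cs hinj l'
    have hp' : p ∈ Δ.Res (op cs '' {k₁, op cs l'}) u := by
      refine Δ.Pan_subset_Res ?_ u hp
      rw [Set.image_pair, hl']
      simp
    have hp'' : p ∈ Δ.Res (op cs '' {k₁, op cs l'}) e' := by
      have h3 : u ∈ Δ.Res (op cs '' {k₁, op cs l'}) e' :=
        Δ.Pan_subset_Res (Set.mem_image_of_mem _ (by simp)) e' hu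
      rwa [← Δ.Res_eq_of_mem h3]
    rw [lA _ (two_pair _ _) p hp', lB _ (two_pair _ _) p hp', FAm u hu hau _ p hp'',
      FBm u hu hau _ p hp'']
  exact (lA.symm hinj gA).unique hinj (lB.symm hinj gB) h2

end Braid

end Cfsg.Agent.Tits.Ext
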