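import Cfsg.Agent.Tits.ExtInd

/-!
`Good x v x' v' α`: an isometry on the rank two residues of `x` compatible with the pair of
opposite chambers `x, v` and `x', v'`; the operations SWAP, COMPAT, MOVE and UNIQ.
-/

set_option autoImplicit false
set_option linter.unusedSectionVars false

namespace Cfsg.Agent.Tits.Ext

open Cfsg.Agent.Tits.Core Cfsg.Agent.Tits.Core.Bldg Cfsg.Agent.Tits.Exchange

variable {I : Type*} {M : CoxeterMatrix I} {W : Type*} [Group W] {cs : CoxeterSystem M W}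
  {C C' : Type*} (Δ : Bldg cs C) (Δ' : Bldg cs C')

local prefix:100 "ℓ" => cs.length

/-- sets of types of cardinality one or two -/
def Two (J : Set I) : Prop := ∃ i j, J = {i, j}

theorem two_pair (i j : I) : Two ({i, j} : Set I) := ⟨i, j, rfl⟩

theorem two_singleton (i : I) : Two ({i} : Set I) := ⟨i, i, by simp⟩

theorem Two.image {J : Set I} (h : Two J) (cs : CoxeterSystem M W) : Two (op cs '' J) := by
  obtain ⟨i, j, rfl⟩ := h
  exact ⟨op cs i, op cs j, Set.image_pair _ _ _⟩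

theorem mem_E2 {x y : C} : y ∈ Δ.E2 x ↔ ∃ J, Two J ∧ y ∈ Δ.Res J x := by
  constructor
  · rintro ⟨i, j, h⟩
    exact ⟨_, two_pair i j, h⟩
  · rintro ⟨_, ⟨i, j, rfl⟩, h⟩
    exact ⟨i, j, h⟩

/-- `α` is a 2-isometry at `x` compatible with the opposite chambers. -/
structure Good (x v : C) (x' v' : C') (α : C → C') : Prop where
  map : α x = x'
  opp : Δ.Opp x v
  opp' : Δ'.Opp x' v'
  iso : ∀ J, Two J → Δ.IsoOn Δ' α (Δ.Res J x)
  proj : ∀ J, Two J → α (Δ.proj J x v) = Δ'.proj J x' v'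

/-- `β` is the map induced by `α` on the opposite side -/
def Lnk (x v : C) (v' : C') (α β : C → C') : Prop :=
  ∀ J, Two J → ∀ u ∈ Δ.Res (op cs '' J) v, β u = ind Δ Δ' J x v' α u

variable {Δ Δ'} {x v : C} {x' v' : C'} {α α' β β' : C → C'}

theorem Good.cpt (h : Good Δ Δ' x v x' v' α) {J : Set I} (hJ : Two J) :
    Cpt Δ Δ' J x v x' v' α where
  map := h.map
  opp := h.opp
  opp' := h.opp'
  iso := h.iso J hJ
  proj := h.proj J hJ

theorem good_of_cpt [Nonempty I] (h : ∀ J, Two J → Cpt Δ Δ' J x v x' v' α) :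
    Good Δ Δ' x v x' v' α where
  map := (h _ (two_singleton (Classical.arbitrary I))).map
  opp := (h _ (two_singleton (Classical.arbitrary I))).opp
  opp' := (h _ (two_singleton (Classical.arbitrary I))).opp'
  iso J hJ := (h J hJ).iso
  proj J hJ := (h J hJ).proj

section

variable [Finite W] [Finite I]

theorem Good.swap [Nonempty I] (hinj : Function.Injective cs.simple)
    (h : Good Δ Δ' x v x' v' α) :
    ∃ β, Good Δ Δ' v x v' x' β ∧ Lnk Δ Δ' x v v' α β := by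
  classical
  let β : C → C' := fun u =>
    if hu : ∃ J, Two J ∧ u ∈ Δ.Res (op cs '' J) v then ind Δ Δ' hu.choose x v' α u else v'
  have hβ : Lnk Δ Δ' x v v' α β := by
    intro J hJ u hu
    have hex : ∃ J, Two J ∧ u ∈ Δ.Res (op cs '' J) v := ⟨J, hJ, hu⟩
    have h1 : β u = ind Δ Δ' hex.choose x v' α u := dif_pos hex
    obtain ⟨h2, h3⟩ := hex.choose_spec
    rw [h1]
    set L := hex.choose
    have h4 : u ∈ Δ.Res (op cs '' (J ∩ L)) v := by
      rw [op_image_inter hinj]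
      exact WJ_inter hinj hu h3
    rw [ind_sub (h.cpt h2) Set.inter_subset_right h4, ind_sub (h.cpt hJ) Set.inter_subset_left h4]
  have hpair : ∀ J : Set I, Two J → ∃ K, Two K ∧ op cs '' K = J := fun J hJ =>
    ⟨op cs '' J, hJ.image cs, op_image_image hinj J⟩
  have hiso : ∀ J, Two J → Δ.IsoOn Δ' β (Δ.Res (op cs '' J) v) := by
    intro J hJ a ha b hb
    rw [hβ J hJ a ha, hβ J hJ b hb]
    exact ind_iso (h.cpt hJ) a ha b hb
  have hbase : β v = v' := by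
    have hJ := two_singleton (Classical.arbitrary I)
    rw [hβ _ hJ v (Δ.self_mem_Res _ v), ind_base (h.cpt hJ)]
  refine ⟨β, ⟨hbase, opp_symm Δ h.opp, opp_symm Δ' h.opp', ?_, ?_⟩, hβ⟩
  · intro J hJ
    obtain ⟨K, hK, rfl⟩ := hpair J hJ
    exact hiso K hK
  · intro J hJ
    obtain ⟨K, hK, rfl⟩ := hpair J hJ
    rw [hβ K hK _ (Δ.proj_mem _ v x), ind_proj (h.cpt hK) (Δ.self_mem_Res K x), h.map]

theorem Lnk.proj_eq (hl : Lnk Δ Δ' x v v' α β) (h : Good Δ Δ' x v x' v' α) {J : Set I}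
    (hJ : Two J) {u : C} (hu : u ∈ Δ.Res (op cs '' J) v) :
    Δ'.proj J x' (β u) = α (Δ.proj J x u) := by
  rw [hl J hJ u hu, proj_ind (h.cpt hJ)]

theorem Lnk.map_proj (hl : Lnk Δ Δ' x v v' α β) (h : Good Δ Δ' x v x' v' α) {J : Set I}
    (hJ : Two J) {a : C} (ha : a ∈ Δ.Res J x) :
    β (Δ.proj (op cs '' J) v a) = Δ'.proj (op cs '' J) v' (α a) := by
  rw [hl J hJ _ (Δ.proj_mem _ v a), ind_proj (h.cpt hJ) ha]

theorem Lnk.symm (hinj : Function.Injective cs.simple) (hl : Lnk Δ Δ' x v v' α β)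
    (h : Good Δ Δ' x v x' v' α) : Lnk Δ Δ' v x x' β α := by
  intro J hJ a ha
  have h1 := hl.map_proj h (hJ.image cs) ha
  rw [op_image_image hinj] at h1
  unfold ind
  rw [h1]
  have h2 := proj_proj_left Δ' h.opp' ((h.cpt (hJ.image cs)).map_mem ha)
  rw [op_image_image hinj] at h2
  rw [h2]

/-- the partner is determined by the link -/
theorem Lnk.unique (hinj : Function.Injective cs.simple)
    (hl : Lnk Δ Δ' x v v' α β) (hl' : Lnk Δ Δ' x v v' α' β')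
    (he : ∀ y ∈ Δ.E2 x, α y = α' y) : ∀ u ∈ Δ.E2 v, β u = β' u := by
  intro u hu
  obtain ⟨J, hJ, hu⟩ := (mem_E2 Δ).1 hu
  have hu' : u ∈ Δ.Res (op cs '' (op cs '' J)) v := by rwa [op_image_image hinj]
  rw [hl _ (hJ.image cs) u hu', hl' _ (hJ.image cs) u hu']
  unfold ind
  rw [he _ ((mem_E2 Δ).2 ⟨_, hJ.image cs, Δ.proj_mem _ _ _⟩)]

theorem Good.congr [Nonempty I] (h : Good Δ Δ' x v x' v' α) (he : ∀ y ∈ Δ.E2 x, α y = α' y) :
    Good Δ Δ' x v x' v' α' where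
  map := by rw [← he x (Δ.self_mem_E2 x), h.map]
  opp := h.opp
  opp' := h.opp'
  iso J hJ a ha b hb := by
    rw [← he a ((mem_E2 Δ).2 ⟨J, hJ, ha⟩), ← he b ((mem_E2 Δ).2 ⟨J, hJ, hb⟩), h.iso J hJ a ha b hb]
  proj J hJ := by rw [← he _ ((mem_E2 Δ).2 ⟨J, hJ, Δ.proj_mem J x v⟩), h.proj J hJ]

/-- (COMPAT) -/
theorem Good.compat [Nonempty I] (hinj : Function.Injective cs.simple)
    (h : Good Δ Δ' x v x' v' α) {L : Set I} (hL : Two L) {u : C}
    (hu : u ∈ Δ.Res (op cs '' L) v) (hxu : Δ.Opp x u) :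
    Good Δ Δ' x u x' (ind Δ Δ' L x v' α u) α :=
  good_of_cpt fun _ hJ => Ext.compat hinj (h.cpt hJ) (h.cpt hL) hu hxu

/-- (MOVE) -/
theorem Good.move [Nonempty I] (hinj : Function.Injective cs.simple)
    (h : Good Δ Δ' x v x' v' α) {i : I} {z : C} (hz : z ∈ Δ.Pan i x) (hzv : Δ.Opp z v) :
    ∃ α₁ β, Good Δ Δ' z v (α z) v' α₁ ∧ (∀ k, ∀ y ∈ Δ.Res {i, k} x, α₁ y = α y) ∧
      Lnk Δ Δ' x v v' α β ∧ Lnk Δ Δ' z v v' α₁ β ∧ Good Δ Δ' v x v' x' β := by
  obtain ⟨β, hβ, hl⟩ := h.swap hinj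
  have hi : Two ({i} : Set I) := two_singleton i
  have hz1 : z ∈ Δ.Res {i} x := by rwa [Pan_eq_Res] at hz
  have hz2 : z ∈ Δ.Res (op cs '' (op cs '' {i})) x := by rwa [op_image_image hinj]
  have h1 := hβ.compat hinj (hi.image cs) hz2 (opp_symm Δ hzv)
  have h2 : ind Δ Δ' (op cs '' {i}) v x' β z = α z :=
    ((hl.symm hinj h) _ (hi.image cs) z hz2).symm
  rw [h2] at h1
  obtain ⟨α₁, hα₁, hl₁⟩ := h1.swap hinj
  refine ⟨α₁, β, hα₁, ?_, hl, hl₁.symm hinj h1, hβ⟩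
  intro k y hy
  have hJ : Two ({i, k} : Set I) := two_pair i k
  have hzJ : z ∈ Δ.Res {i, k} x := Δ.Res_mono (by simp) x hz1
  have hyz : y ∈ Δ.Res {i, k} z := by rwa [Δ.Res_eq_of_mem hzJ]
  have hyz' : y ∈ Δ.Res (op cs '' (op cs '' {i, k})) z := by rwa [op_image_image hinj]
  rw [hl₁ _ (hJ.image cs) y hyz']
  have hzJ' : α z ∈ Δ'.Res {i, k} x' := (h.cpt hJ).map_mem hzJ
  have h3 := hl.map_proj h hJ hy
  unfold ind
  rw [op_image_image hinj, h3, Δ'.proj_congr hzJ']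
  exact proj_proj_left Δ' h.opp' ((h.cpt hJ).map_mem hy)

/-- (UNIQ) -/
theorem Good.uniq (hth : Δ.Thick) (h : Good Δ Δ' x v x' v' α) (h' : Good Δ Δ' x v x' v' α')
    (he : ∀ i, ∀ y ∈ Δ.Pan i x, α y = α' y) : ∀ y ∈ Δ.E2 x, α y = α' y := by
  intro y hy
  obtain ⟨J, hJ, hy⟩ := (mem_E2 Δ).1 hy
  exact rigid hth (h.iso J hJ) (h'.iso J hJ) (fun i _ => he i) (δ_proj_self Δ h.opp)
    (by rw [h.proj J hJ, h'.proj J hJ]) y hy

end

end Cfsg.Agent.Tits.Ext
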