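import Cfsg.Agent.Tits.ExtOpp

/-!
Opposite residues: the map induced on the opposite residue by a map on a residue.
-/

set_option autoImplicit false
set_option linter.unusedSectionVars false

namespace Cfsg.Agent.Tits.Ext

open Cfsg.Agent.Tits.Core Cfsg.Agent.Tits.Core.Bldg Cfsg.Agent.Tits.Exchange

variable {I : Type*} {M : CoxeterMatrix I} {W : Type*} [Group W] {cs : CoxeterSystem M W}
  {C C' : Type*} (Δ : Bldg cs C) (Δ' : Bldg cs C')

local prefix:100 "ℓ" => cs.length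

section Residues

variable [Finite W] [Finite I]

theorem opp_symm {x y : C} (h : Δ.Opp x y) : Δ.Opp y x := by
  unfold Bldg.Opp at *
  rw [Δ.symm, h, w0_inv]

theorem dJ_inv_mul {J : Set I} : wJ cs J * w0 cs * (w0 cs * wJ cs J) = 1 := by
  rw [mul_assoc, ← mul_assoc (w0 cs), w0_mul_self, one_mul, (isLongest_wJ cs J).mul_self]

theorem twist {J : Set I} {x v u u' : C} (h : Δ.Opp x v) (hu : u ∈ Δ.Res (op cs '' J) v)
    (hu' : u' ∈ Δ.Res (op cs '' J) v) :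
    Δ.δ (Δ.proj J x u) (Δ.proj J x u') =
      (wJ cs J * w0 cs) * Δ.δ u u' * (wJ cs J * w0 cs)⁻¹ := by
  rw [eq_mul_inv_iff_mul_eq, ← δ_right Δ h (Δ.proj_mem J x u) hu',
    δ_left Δ h (Δ.proj_mem J x u) hu', proj_proj_right Δ h hu]

theorem δ_proj_opp {J : Set I} {x v u : C} (h : Δ.Opp x v) (hu : u ∈ Δ.Res (op cs '' J) v) :
    Δ.δ (Δ.proj J x u) u = wJ cs J * w0 cs := by
  rw [δ_right Δ h (Δ.proj_mem J x u) hu, Δ.δ_self, one_mul]

theorem δ_proj_self {J : Set I} {x v : C} (h : Δ.Opp x v) :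
    Δ.δ x (Δ.proj J x v) = wJ cs J :=
  (opp_iff Δ h (Δ.self_mem_Res J x) (Δ.self_mem_Res _ v)).1 h

/-- (T5e) -/
theorem T5e (hinj : Function.Injective cs.simple) {J L : Set I} {x u v : C} (hv : Δ.Opp x v)
    (hu : Δ.Opp x u) (h : u ∈ Δ.Res (op cs '' L) v) :
    Δ.δ (Δ.proj J x u) (Δ.proj J x v) ∈ WJ cs (conjSet cs J (J ∩ L)) := by
  rw [mem_WJ_conjSet Set.inter_subset_left]
  have hL := isLongest_wJ cs J
  obtain ⟨t, ht, h1⟩ := Δ.exists_mul_of_mem (Δ.proj J x u) (Δ.mem_Res_symm h)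
  rw [δ_proj_opp Δ hu (Δ.self_mem_Res _ u)] at h1
  rw [δ_right Δ hv (Δ.proj_mem J x u) (Δ.self_mem_Res _ v)] at h1
  set p := Δ.proj J x v
  set q := Δ.proj J x u
  have h2 : Δ.δ q p = wJ cs J * w0 cs * t * (w0 cs * wJ cs J) := by
    rw [← h1, mul_assoc _ _ (w0 cs * wJ cs J), dJ_inv_mul, mul_one]
  have h3 : wJ cs J * Δ.δ q p * wJ cs J = w0 cs * t * w0 cs := by
    rw [h2]
    calc wJ cs J * (wJ cs J * w0 cs * t * (w0 cs * wJ cs J)) * wJ cs J =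
        (wJ cs J * wJ cs J) * w0 cs * t * w0 cs * (wJ cs J * wJ cs J) := by group
      _ = _ := by rw [hL.mul_self, one_mul, mul_one]
  apply WJ_inter hinj
  · exact mul_mem (mul_mem hL.mem (Δ.δ_mem_of_mem_Res (Δ.proj_mem J x u) (Δ.proj_mem J x v)))
      hL.mem
  · rw [h3]
    exact w0_conj_mem hinj ht

/-- (T5f) -/
theorem T5f {J K : Set I} (hKJ : K ⊆ J) {x z z' : C} (hz : Δ.δ x z = wJ cs J)
    (hz' : Δ.δ x z' = wJ cs J) (h : Δ.δ z z' ∈ WJ cs (conjSet cs J K))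
    (hp : Δ.proj K x z = Δ.proj K x z') : z = z' := by
  rw [mem_WJ_conjSet hKJ] at h
  have hL := isLongest_wJ cs J
  have hLK := isLongest_wJ cs K
  have key : ∀ y, Δ.δ x y = wJ cs J → Δ.δ y (Δ.proj K x y) = wJ cs J * wJ cs K := by
    intro y hy
    have hxK : x ∈ Δ.Res K x := Δ.self_mem_Res K x
    have h1 := Δ.δ_proj_mul (u := y) hxK
    have hmin := Δ.isMinR_δ_proj K x y
    set q := Δ.proj K x y with hq
    have hqx : Δ.δ q x ∈ WJ cs K := Δ.δ_mem_of_mem_Res (Δ.proj_mem K x y) hxK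
    have h2 : Δ.δ y x = wJ cs J := by rw [Δ.symm x y, hy, hL.inv_eq]
    have h3 : Δ.δ y q = wJ cs J * (Δ.δ q x)⁻¹ := by rw [← h2, h1, mul_inv_cancel_right]
    have h4 : (Δ.δ q x)⁻¹ = wJ cs K := by
      apply hLK.eq_of_length (inv_mem hqx)
      have h5 := hmin _ (mul_mem hqx hLK.mem)
      rw [h3, ← mul_assoc, mul_assoc _ _ (Δ.δ q x), inv_mul_cancel, mul_one] at h5
      have h6 := (hL.2 _ (WJ_mono cs hKJ hLK.mem)).1
      have h7 := (hL.2 _ (WJ_mono cs hKJ (inv_mem hqx))).1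
      have h8 := cs.length_inv (Δ.δ q x)
      have h9 := hLK.length_le hqx
      omega
    rw [h3, h4]
  have h1 := key z hz
  have h2 := key z' hz'
  rw [← hp] at h2
  set q := Δ.proj K x z
  have h3 : Δ.δ z' z = (Δ.δ z z')⁻¹ := Δ.symm z z'
  set k := wJ cs J * Δ.δ z z' * wJ cs J with hk
  have h4 : Δ.δ z' z = wJ cs J * k⁻¹ * wJ cs J := by
    rw [h3, hk, mul_inv_rev, mul_inv_rev, hL.inv_eq]
    calc (Δ.δ z z')⁻¹ = 1 * (Δ.δ z z')⁻¹ * 1 := by group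
      _ = _ := by rw [← hL.mul_self]; group
  have h5 : Δ.δ z' z * Δ.δ z q = wJ cs J * (k⁻¹ * wJ cs K) := by
    rw [h4, h1]
    calc wJ cs J * k⁻¹ * wJ cs J * (wJ cs J * wJ cs K) =
        wJ cs J * k⁻¹ * (wJ cs J * wJ cs J) * wJ cs K := by group
      _ = _ := by rw [hL.mul_self]; group
  have l1 := (hL.2 _ (WJ_mono cs hKJ hLK.mem)).1
  have l2 := (hL.2 _ (WJ_mono cs hKJ (mul_mem (inv_mem h) hLK.mem))).1
  have l3 := (hLK.2 _ (inv_mem h)).2
  have l4 : ℓ (Δ.δ z' z) ≤ ℓ k⁻¹ := by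
    rw [h4]
    have m1 := (hL.2 _ (WJ_mono cs hKJ (inv_mem h))).2
    have m2 := (hL.2 _ (mul_mem (WJ_mono cs hKJ (inv_mem h)) hL.mem)).1
    rw [← mul_assoc] at m2
    omega
  have l5 := cs.length_mul_le (Δ.δ z' z) (Δ.δ z q)
  rw [h5, h1] at l5
  have h6 : Δ.δ z' q = Δ.δ z' z * Δ.δ z q := by
    apply Δ.δ_mul
    rw [h5, h1]
    omega
  rw [h2, h1] at h6
  exact (Δ.eq_of_δ_eq_one (mul_eq_right.1 h6.symm)).symm

/-! ### The induced map -/

/-- The map induced by `α` (on the `J`-residue of `x`) on the opposite residue. -/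
noncomputable def ind (J : Set I) (x : C) (v' : C') (α : C → C') (u : C) : C' :=
  Δ'.proj (op cs '' J) v' (α (Δ.proj J x u))

/-- The hypotheses on `α` for one set `J` of types. -/
structure Cpt (J : Set I) (x v : C) (x' v' : C') (α : C → C') : Prop where
  map : α x = x'
  opp : Δ.Opp x v
  opp' : Δ'.Opp x' v'
  iso : Δ.IsoOn Δ' α (Δ.Res J x)
  proj : α (Δ.proj J x v) = Δ'.proj J x' v'

variable {Δ Δ'} {J K : Set I} {x v : C} {x' v' : C'} {α : C → C'}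

theorem Cpt.map_mem (h : Cpt Δ Δ' J x v x' v' α) {a : C} (ha : a ∈ Δ.Res J x) :
    α a ∈ Δ'.Res J x' := by
  rw [← h.map]
  exact map_mem_Res h.iso (Δ.self_mem_Res J x) ha ha

variable (Δ Δ') in
theorem ind_mem (J : Set I) (x : C) (v' : C') (α : C → C') (u : C) :
    ind Δ Δ' J x v' α u ∈ Δ'.Res (op cs '' J) v' := Δ'.proj_mem _ _ _

theorem proj_ind (h : Cpt Δ Δ' J x v x' v' α) (u : C) :
    Δ'.proj J x' (ind Δ Δ' J x v' α u) = α (Δ.proj J x u) :=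
  proj_proj_left Δ' h.opp' (h.map_mem (Δ.proj_mem J x u))

theorem ind_proj (h : Cpt Δ Δ' J x v x' v' α) {a : C} (ha : a ∈ Δ.Res J x) :
    ind Δ Δ' J x v' α (Δ.proj (op cs '' J) v a) = Δ'.proj (op cs '' J) v' (α a) := by
  unfold ind
  rw [proj_proj_left Δ h.opp ha]

theorem ind_base (h : Cpt Δ Δ' J x v x' v' α) : ind Δ Δ' J x v' α v = v' := by
  unfold ind
  rw [h.proj]
  exact proj_proj_right Δ' h.opp' (Δ'.self_mem_Res _ v')

theorem ind_iso (h : Cpt Δ Δ' J x v x' v' α) :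
    Δ.IsoOn Δ' (ind Δ Δ' J x v' α) (Δ.Res (op cs '' J) v) := by
  intro a ha b hb
  have h1 := twist Δ' h.opp' (ind_mem Δ Δ' J x v' α a) (ind_mem Δ Δ' J x v' α b)
  rw [proj_ind h, proj_ind h, h.iso _ (Δ.proj_mem J x a) _ (Δ.proj_mem J x b),
    twist Δ h.opp ha hb] at h1
  exact (mul_left_cancel (mul_right_cancel h1)).symm

theorem ind_sub (h : Cpt Δ Δ' J x v x' v' α) (hKJ : K ⊆ J) {u : C}
    (hu : u ∈ Δ.Res (op cs '' K) v) : ind Δ Δ' J x v' α u = ind Δ Δ' K x v' α u := by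
  have hsub : op cs '' K ⊆ op cs '' J := Set.image_mono hKJ
  have h1 : ind Δ Δ' J x v' α u ∈ Δ'.Res (op cs '' K) v' := by
    have h0 := ind_iso h v (Δ.self_mem_Res _ v) u (Δ.Res_mono hsub v hu)
    rw [ind_base h] at h0
    rw [mem_Res, h0]
    exact hu
  have h2 := proj_proj_right Δ' h.opp' h1
  rw [← h2, ← Δ'.proj_proj hKJ, proj_ind h, ← h.map, ← map_proj h.iso hKJ (Δ.proj_mem J x u),
    Δ.proj_proj hKJ]
  rfl

theorem Cpt.mono (h : Cpt Δ Δ' J x v x' v' α) (hKJ : K ⊆ J) : Cpt Δ Δ' K x v x' v' α where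
  map := h.map
  opp := h.opp
  opp' := h.opp'
  iso := h.iso.mono (Δ.Res_mono hKJ x)
  proj := by
    rw [← Δ.proj_proj hKJ, map_proj h.iso hKJ (Δ.proj_mem J x v), h.proj, h.map, Δ'.proj_proj hKJ]

/-- `x'` is opposite to the image of `u` iff `x` is opposite to `u`. -/
theorem opp_ind_iff (h : Cpt Δ Δ' J x v x' v' α) {a : C} (ha : a ∈ Δ.Res J x) {u : C}
    (hu : u ∈ Δ.Res (op cs '' J) v) : Δ'.Opp (α a) (ind Δ Δ' J x v' α u) ↔ Δ.Opp a u := by
  rw [opp_iff Δ' h.opp' (h.map_mem ha) (ind_mem Δ Δ' J x v' α u), proj_ind h,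
    h.iso a ha _ (Δ.proj_mem J x u), opp_iff Δ h.opp ha hu]

theorem compat (hinj : Function.Injective cs.simple) {L : Set I}
    (hJ : Cpt Δ Δ' J x v x' v' α) (hL : Cpt Δ Δ' L x v x' v' α) {u : C}
    (hu : u ∈ Δ.Res (op cs '' L) v) (hxu : Δ.Opp x u) :
    Cpt Δ Δ' J x u x' (ind Δ Δ' L x v' α u) α where
  map := hJ.map
  opp := hxu
  opp' := by
    rw [← hL.map]
    exact (opp_ind_iff hL (Δ.self_mem_Res L x) hu).2 hxu
  iso := hJ.iso
  proj := by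
    have hopp' : Δ'.Opp x' (ind Δ Δ' L x v' α u) := by
      rw [← hL.map]
      exact (opp_ind_iff hL (Δ.self_mem_Res L x) hu).2 hxu
    have hKJ : J ∩ L ⊆ J := Set.inter_subset_left
    have hKL : J ∩ L ⊆ L := Set.inter_subset_right
    apply T5f Δ' (J := J) (x := x') hKJ
    · have := hJ.iso x (Δ.self_mem_Res J x) _ (Δ.proj_mem J x u)
      rw [hJ.map] at this
      rw [this, δ_proj_self Δ hxu]
    · exact δ_proj_self Δ' hopp'
    · have h1 := T5e Δ hinj (J := J) hJ.opp hxu hu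
      rw [← hJ.iso _ (Δ.proj_mem J x u) _ (Δ.proj_mem J x v), hJ.proj] at h1
      have h2 := T5e Δ' hinj (J := J) hJ.opp' hopp' (ind_mem Δ Δ' L x v' α u)
      exact Δ'.mem_Res_trans (x := α (Δ.proj J x u)) h1 (Δ'.mem_Res_symm h2)
    · have e1 : Δ'.proj (J ∩ L) x' (α (Δ.proj J x u)) = α (Δ.proj (J ∩ L) x u) := by
        rw [← hJ.map, ← map_proj hJ.iso hKJ (Δ.proj_mem J x u), Δ.proj_proj hKJ]
      have e2 : Δ'.proj (J ∩ L) x' (Δ'.proj J x' (ind Δ Δ' L x v' α u)) =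
          α (Δ.proj (J ∩ L) x u) := by
        rw [Δ'.proj_proj hKJ, ← Δ'.proj_proj hKL, proj_ind hL, ← hL.map,
          ← map_proj hL.iso hKL (Δ.proj_mem L x u), Δ.proj_proj hKL]
      rw [e1, e2]

end Residues

end Cfsg.Agent.Tits.Ext
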