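import Cfsg.Agent.Tits.Ext
import Cfsg.Agent.Tits.MouDefs

/-! The extension theorem in the form `MouDefs.Ext`. -/

set_option autoImplicit false

namespace Cfsg.Agent.Tits.Ext

open Cfsg.Agent.Tits.Core Cfsg.Agent.Tits.Core.Bldg

variable {I : Type*} {M : CoxeterMatrix I} {W : Type*} [Group W] {cs : CoxeterSystem M W}
  {C C' : Type*}

theorem ext [Finite W] [Finite I] {Δ : Bldg cs C} (Δ' : Bldg cs C')
    (hM : ∀ i j, i ≠ j → M i j = 2 ∨ M i j = 3 ∨ M i j = 4) (hth : Δ.Thick) :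
    MouDefs.Ext Δ Δ' :=
  fun _ _ _ _ h1 h2 h3 h4 => EXT hM hth h1 h2 h3 h4

end Cfsg.Agent.Tits.Ext
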