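import Cfsg.Agent.Tits.ExtAux
import Cfsg.Agent.Tits.OppRes
import Cfsg.Agent.Tits.Rigid

/-! The facts on opposite residues (`OppRes`, `Rigid`) in the form used for the extension theorem. -/

set_option autoImplicit false

namespace Cfsg.Agent.Tits.Ext

open Cfsg.Agent.Tits.Core Cfsg.Agent.Tits.Core.Bldg

variable {I : Type*} {M : CoxeterMatrix I} {W : Type*} [Group W] {cs : CoxeterSystem M W}
  {C C' : Type*} (Δ : Bldg cs C) (Δ' : Bldg cs C')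

section

variable [Finite W] [Finite I]

theorem oppR {J : Set I} {x v a u : C} (h : Δ.Opp x v) (ha : a ∈ Δ.Res J x)
    (hu : u ∈ Δ.Res (op cs '' J) v) : OppRes.OppR Δ J a u :=
  ((OppRes.OppR.of_opp J h).left ha).right hu

theorem proj_proj_left {J : Set I} {x v a : C} (h : Δ.Opp x v) (ha : a ∈ Δ.Res J x) :
    Δ.proj J x (Δ.proj (op cs '' J) v a) = a := by
  rw [← Δ.proj_congr ha]
  exact OppRes.proj_proj (oppR Δ h ha (Δ.self_mem_Res _ v))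

theorem proj_proj_right {J : Set I} {x v u : C} (h : Δ.Opp x v) (hu : u ∈ Δ.Res (op cs '' J) v) :
    Δ.proj (op cs '' J) v (Δ.proj J x u) = u := by
  rw [← Δ.proj_congr hu]
  exact OppRes.proj_proj' (oppR Δ h (Δ.self_mem_Res _ x) hu)

theorem δ_right {J : Set I} {x v a u : C} (h : Δ.Opp x v) (ha : a ∈ Δ.Res J x)
    (hu : u ∈ Δ.Res (op cs '' J) v) :
    Δ.δ a u = Δ.δ a (Δ.proj J x u) * (wJ cs J * w0 cs) := by
  rw [← Δ.proj_congr ha]
  exact OppRes.delta_eq_left (oppR Δ h ha hu)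

theorem δ_left {J : Set I} {x v a u : C} (h : Δ.Opp x v) (ha : a ∈ Δ.Res J x)
    (hu : u ∈ Δ.Res (op cs '' J) v) :
    Δ.δ a u = (wJ cs J * w0 cs) * Δ.δ (Δ.proj (op cs '' J) v a) u := by
  rw [← Δ.proj_congr hu]
  exact OppRes.delta_eq_right (oppR Δ h ha hu)

theorem opp_iff {J : Set I} {x v a u : C} (h : Δ.Opp x v) (ha : a ∈ Δ.Res J x)
    (hu : u ∈ Δ.Res (op cs '' J) v) :
    Δ.Opp a u ↔ Δ.δ a (Δ.proj J x u) = wJ cs J := by
  rw [← Δ.proj_congr ha]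
  exact OppRes.opp_iff (oppR Δ h ha hu)

theorem rigid {Δ : Bldg cs C} {Δ' : Bldg cs C'} (hth : Δ.Thick) {J : Set I} {x z : C}
    {α β : C → C'} (hα : Δ.IsoOn Δ' α (Δ.Res J x)) (hβ : Δ.IsoOn Δ' β (Δ.Res J x))
    (hp : ∀ i ∈ J, ∀ y ∈ Δ.Pan i x, α y = β y) (hz : Δ.δ x z = wJ cs J) (hz' : α z = β z) :
    ∀ y ∈ Δ.Res J x, α y = β y :=
  Rigid.rigid hth hα hβ hp hz hz'

end

end Cfsg.Agent.Tits.Ext
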