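import Cfsg.Agent.Tits.Opp
import Cfsg.Agent.Tits.Gate

/-!
S1143, (I1), generic part: groups acting by isometries on a spherical building: transitivity from
panels, strong transitivity from the transitivity of the stabiliser of a chamber on opposite chambers.
-/

set_option autoImplicit false

namespace Cfsg.Agent.Tits.MouTrans

open Cfsg.Agent.Tits.Core Cfsg.Agent.Tits.Core.Bldg Cfsg.Agent.Tits.Exchange

variable {I : Type*} {M : CoxeterMatrix I} {W : Type*} [Group W] {cs : CoxeterSystem M W}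
variable {C A : Type*} [Group A] [MulAction A C] {Δ : Bldg cs C}

/-- isometric action -/
def Iso (Δ : Bldg cs C) (A : Type*) [Group A] [MulAction A C] : Prop :=
  ∀ (a : A) x y, Δ.δ (a • x) (a • y) = Δ.δ x y

theorem opp_smul (iso : Iso Δ A) (a : A) {x y : C} (h : Δ.Opp x y) : Δ.Opp (a • x) (a • y) := by
  rw [Bldg.Opp, iso]; exact h

theorem pan_smul (iso : Iso Δ A) (a : A) {i : I} {x y : C} (h : y ∈ Δ.Pan i x) :
    a • y ∈ Δ.Pan i (a • x) := by
  rcases h with rfl | h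
  · exact Or.inl rfl
  · exact Or.inr (by rw [iso, h])

/-- Transitivity on chambers from transitivity on the panels of one chamber. -/
theorem trans_of_pan (iso : Iso Δ A) (N : Subgroup A) (c : C)
    (h : ∀ i, ∀ y ∈ Δ.Pan i c, ∃ n ∈ N, n • c = y) : ∀ x, ∃ n ∈ N, n • c = x := by
  have key : ∀ k : ℕ, ∀ x, cs.length (Δ.δ c x) = k → ∃ n ∈ N, n • c = x := by
    intro k
    induction k with
    | zero =>
      intro x hx
      exact ⟨1, N.one_mem, by
        rw [one_smul]; exact Δ.eq_of_δ_eq_one (cs.length_eq_zero_iff.1 hx)⟩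
    | succ k ih =>
      intro x hx
      have hne : Δ.δ c x ≠ 1 := fun h1 => by rw [h1, cs.length_one] at hx; omega
      obtain ⟨i, hi⟩ := cs.exists_rightDescent_of_ne_one hne
      rw [cs.isRightDescent_iff] at hi
      obtain ⟨z, hz, hz'⟩ := Δ.exists_step c x i
      obtain ⟨n, hn, rfl⟩ := ih z (by rw [hz']; omega)
      have h1 : n⁻¹ • x ∈ Δ.Pan i c := by
        right
        rw [← iso n, smul_inv_smul]
        exact Δ.δ_symm_simple hz
      obtain ⟨m, hm, hmx⟩ := h i _ h1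
      exact ⟨n * m, N.mul_mem hn hm, by rw [mul_smul, hmx, smul_inv_smul]⟩
  intro x
  exact key _ x rfl

section Finite

variable [Finite W]

/-- Strong transitivity from transitivity on chambers and of the stabiliser of `c` on `opp(c)`. -/
theorem strong_of_opp (iso : Iso Δ A) (N : Subgroup A) (c d : C) (hcd : Δ.Opp c d)
    (h1 : ∀ x, ∃ n ∈ N, n • c = x)
    (h2 : ∀ x, Δ.Opp c x → ∃ n ∈ N, n • c = c ∧ n • d = x) :
    ∀ x y x' y', Δ.δ x y = Δ.δ x' y' → ∃ n ∈ N, n • x = x' ∧ n • y = y' := by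
  -- one fixed point
  have key : ∀ y y', Δ.δ c y = Δ.δ c y' → ∃ n ∈ N, n • c = c ∧ n • y = y' := by
    intro y y' hyy
    have hl : cs.length (Δ.δ c y * ((Δ.δ c y)⁻¹ * w0 cs)) =
        cs.length (Δ.δ c y) + cs.length ((Δ.δ c y)⁻¹ * w0 cs) := by
      rw [mul_inv_cancel_left]
      have := length_mul_w0 cs (Δ.δ c y)⁻¹
      rw [cs.length_inv] at this
      omega
    obtain ⟨e, he⟩ := Δ.exists_δ y ((Δ.δ c y)⁻¹ * w0 cs)
    obtain ⟨e', he'⟩ := Δ.exists_δ y' ((Δ.δ c y)⁻¹ * w0 cs)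
    have hce : Δ.Opp c e := by
      have := Δ.δ_mul_of rfl he hl
      rw [mul_inv_cancel_left] at this
      exact this
    have hce' : Δ.Opp c e' := by
      have := Δ.δ_mul_of hyy.symm he' hl
      rw [mul_inv_cancel_left] at this
      exact this
    obtain ⟨n, hn, hnc, hne⟩ := h2 e hce
    obtain ⟨n', hn', hnc', hne'⟩ := h2 e' hce'
    refine ⟨n' * n⁻¹, N.mul_mem hn' (N.inv_mem hn), ?_, ?_⟩
    · rw [mul_smul, inv_smul_eq_iff.2 hnc.symm, hnc']
    · have e1 : (n' * n⁻¹) • e = e' := by rw [mul_smul, ← hne, inv_smul_smul, hne']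
      have e2 : (n' * n⁻¹) • c = c := by rw [mul_smul, inv_smul_eq_iff.2 hnc.symm, hnc']
      refine Δ.between_unique (x := c) (z := e') (v := Δ.δ c y) (w := (Δ.δ c y)⁻¹ * w0 cs) hl
        ?_ ?_ hyy.symm he'
      · have := iso (n' * n⁻¹) c y
        rwa [e2] at this
      · have := iso (n' * n⁻¹) y e
        rwa [e1, he] at this
  intro x y x' y' hxy
  obtain ⟨n, hn, rfl⟩ := h1 x
  obtain ⟨n', hn', rfl⟩ := h1 x'
  have e1 : Δ.δ c (n⁻¹ • y) = Δ.δ (n • c) y := by rw [← iso n, smul_inv_smul]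
  have e2 : Δ.δ c (n'⁻¹ • y') = Δ.δ (n' • c) y' := by rw [← iso n', smul_inv_smul]
  obtain ⟨m, hm, hmc, hmy⟩ := key (n⁻¹ • y) (n'⁻¹ • y') (by rw [e1, e2, hxy])
  refine ⟨n' * m * n⁻¹, N.mul_mem (N.mul_mem hn' hm) (N.inv_mem hn), ?_, ?_⟩
  · rw [mul_smul, inv_smul_smul, mul_smul, hmc]
  · rw [mul_smul, mul_smul, hmy, smul_inv_smul]

end Finite

end Cfsg.Agent.Tits.MouTrans
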