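import Mathlib
import Cfsg.Agent.Tits.MouRG
import Cfsg.Agent.Tits.MouA2
import Cfsg.Agent.Tits.MouComm
import Cfsg.Agent.Tits.MouAll
import Cfsg.Agent.TitsThree.Tree
/-!
S1143, interface layer: `commRel` (the commutator relations (M4) for all diagrams with labels `2, 3, 4`),
`rgAll` (the system of root groups of an apartment), `rgSub` (its restriction to a group `N` which contains all
root groups), `comm_of_two` (label `2`: the root groups commute), `edgeA2` (label `3`: a Steinberg system of type
`A₂` over a finite field).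
-/

set_option autoImplicit false
set_option linter.unusedSectionVars false

namespace Cfsg.Agent.Tits.RGEdge

open CoxeterSystem Cfsg.Agent.ChevalleyStructure.CoxeterGeom Cfsg.Agent.Tits.Roots
open Cfsg.Agent.Tits.C3Roots Cfsg.Agent.Tits.Core Cfsg.Agent.Tits.Core.Bldg Cfsg.Agent.Tits.OppRes
open Cfsg.Agent.Tits.MouDefs Cfsg.Agent.Tits.RGSys Cfsg.Agent.Tits.MouComm Cfsg.Agent.Tits.MouAll
open Cfsg.Agent.Tits.MouA2 (graded rgd X3 p01 p10 p12 p21)
open Cfsg.Agent.Tits.MouRG (CommRel rg stab U_Rt)
open scoped commutatorElement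

/-! ### The root groups of an apartment -/

section Mou

variable {I W : Type*} [Fintype I] [DecidableEq I] [Group W] {M : CoxeterMatrix I}
  {cs : CoxeterSystem M W} {C : Type*} {Δ : Bldg cs C} [Finite W] [Finite C] {σ : W → C}

/-- (M4) -/
theorem commRel (hM : Lab234 M) (hth : Δ.Thick) (hext : Ext Δ Δ) (hc : Comb cs) (hσ : Chart Δ σ) :
    CommRel Δ σ := by
  have hreg : ∀ (w : W) (k : I) (x : C), x ∈ Δ.Pan k (σ w) → x ≠ σ w →
      ∃ u ∈ U Δ σ (rt cs w k), u (σ (w * cs.simple k)) = x := fun w k x hx hne =>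
    Mou.exists_root_elt hth hext hc hσ hx hne
  refine ⟨fun w i j hij a ha b hb => ?_, fun w i j hij a ha b hb => ?_, fun w i j hij a ha b hb => ?_⟩
  · refine comm_one hth hσ hij (hM i j hij) hreg w 1 ?_ ?_
    · rwa [gw_one]
    · have e : (1 : ℤ) + 1 = 2 := rfl
      rwa [e, gw_two]
  · have hne : i ≠ j := by
      rintro rfl
      rw [M.diagonal] at hij
      omega
    have := comm_two hth hσ hne (hM i j hne) (by omega) hreg w 1 (a := a) (b := b)
      (by rwa [gw_one]) (by
        have e : (1 : ℤ) + 2 = 3 := rfl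
        rwa [e, gw_three, ← mul_assoc])
    have e : (1 : ℤ) + 1 = 2 := rfl
    rwa [e, gw_two] at this
  · have hne : i ≠ j := by
      rintro rfl
      rw [M.diagonal] at hij
      omega
    obtain ⟨c, hc, d, hd, h⟩ := comm_three hth hσ hne (hM i j hne) (by omega) hreg w 1 (a := a) (b := b)
      (by rwa [gw_one]) (by
        have e : (1 : ℤ) + 3 = 4 := rfl
        rwa [e, gw_four, ← mul_assoc, ← mul_assoc])
    have e : (1 : ℤ) + 1 = 2 := rfl
    have e' : (1 : ℤ) + 2 = 3 := rfl
    rw [e, gw_two] at hc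
    rw [e', gw_three, ← mul_assoc] at hd
    exact ⟨c, hc, d, hd, h⟩

/-- The system of root groups of an apartment, no hypothesis left. -/
theorem rgAll {A : I → I → ℤ} (h : IsCartan M A) (hM : Lab234 M) (hD : RootComb.Diag M) (hth : Δ.Thick)
    (hσ : Chart Δ σ) : RG cs h (fun x => U Δ σ (Rt cs h x)) (stab σ) :=
  rg h hth (ext hM hth) (CombInst.comb cs hD) hσ
    (commRel hM hth (ext hM hth) (CombInst.comb cs hD) hσ)

end Mou

/-! ### Abstract systems of root groups -/

section Abstract

variable {I W : Type*} [Fintype I] [DecidableEq I] [Group W] {M : CoxeterMatrix I}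
  {cs : CoxeterSystem M W} {A : I → I → ℤ} {h : IsCartan M A} {Y : Type*} [Group Y]
  {X : (I → ℤ) → Subgroup Y} {St : W → Subgroup Y} (hX : RG cs h X St)

section Two

variable {i j : I} (hij : M i j = 2)

include hij

theorem ne_of_two : i ≠ j := by
  rintro rfl
  rw [M.diagonal] at hij
  omega

theorem rep_of_two : rep cs h (cs.simple i) (sr j) = sr j := by
  have h1 := h.rel i j (ne_of_two hij)
  rw [hij] at h1
  have h2 : A i j = 0 := by simpa using (show A i j = 0 ∧ A j i = 0 by simpa using h1).1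
  rw [rep_simple_eq, pairing_sr, h2]
  simp

theorem rep_of_two' : rep cs h (cs.simple j) (sr i) = sr i :=
  rep_of_two (by rw [M.symmetric]; exact hij)

include hX

/-- Nodes which are not joined: the root groups commute. -/
theorem comm_of_two {g g' : Y} (hg : g ∈ (X (sr i) : Set Y) ∪ X (-sr i))
    (hg' : g' ∈ (X (sr j) : Set Y) ∪ X (-sr j)) : Commute g g' := by
  have hne := ne_of_two hij
  have s1 : rep cs h (cs.simple i) (sr j) = sr j := rep_of_two hij
  have s2 : rep cs h (cs.simple j) (sr i) = sr i := rep_of_two' hij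
  rcases hg with hg | hg <;> rcases hg' with hg' | hg'
  · refine hX.adj 1 i j hne g ?_ g' ?_
    · rwa [map_one]
    · rwa [one_mul, s1]
  · refine hX.adj (cs.simple j) i j hne g ?_ g' ?_
    · rwa [s2]
    · rwa [rep_mul_apply, s1, rep_simple_sr]
  · refine hX.adj (cs.simple i) i j hne g ?_ g' ?_
    · rwa [rep_simple_sr]
    · rwa [cs.simple_mul_simple_self, map_one]
  · refine hX.adj (cs.simple i * cs.simple j) i j hne g ?_ g' ?_
    · rwa [rep_mul_apply, s2, rep_simple_sr]
    · rwa [rep_mul_apply, s1, rep_mul_apply, rep_simple_sr, map_neg, s1]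

end Two

include hX in
/-- Nodes joined by a simple bond. -/
theorem edgeA2 [Finite Y] {i j : I} (hij : M i j = 3) :
    TitsThree.Tree.EdgeA2 (X (sr i) : Set Y) (X (-sr i)) (X (sr j)) (X (-sr j)) := by
  obtain ⟨F, i1, i2, x, hx, hr⟩ := TitsThree.A2Field.exists_field (graded hij hX) (rgd hij hX)
  have hran : ∀ a b, a ≠ b → Set.range (x a b) = (X3 X i j a b : Set Y) := by
    intro a b hab
    ext g
    constructor
    · rintro ⟨t, rfl⟩
      exact (hr a b hab).1 t
    · intro hg
      obtain ⟨t, ht, -⟩ := (hr a b hab).2 g hg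
      exact ⟨t, ht⟩
  refine ⟨F, i1, Finite.of_fintype F, x, hx, ?_, ?_, ?_, ?_, ?_⟩
  · intro a b hab s t hst
    exact ((hr a b hab).2 _ ((hr a b hab).1 s)).unique rfl hst.symm
  · rw [hran _ _ (by decide), X3, p01]
  · rw [hran _ _ (by decide), X3, p10]
  · rw [hran _ _ (by decide), X3, p12]
  · rw [hran _ _ (by decide), X3, p21]

end Abstract

end Cfsg.Agent.Tits.RGEdge
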